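import Mathlib

/-!
# Odd prime powers next to a power of two
-/

set_option autoImplicit false

namespace Cfsg.Agent.FittingHeight.TwoPower

theorem sq_modEq_one {q f : ℕ} (hq : Odd q) (h : 2 ^ f ∣ q + 1 ∨ 2 ^ f ∣ q - 1) :
    q * q ≡ 1 [MOD 2 ^ (f + 1)] := by
  obtain ⟨i, rfl⟩ := hq
  refine ((Nat.modEq_iff_dvd' (Nat.mul_pos (by omega) (by omega))).2 ?_).symm
  have he : (2 * i + 1) * (2 * i + 1) - 1 = (2 * i + 1 + 1) * (2 * i + 1 - 1) := by
    have : (2 * i + 1) * (2 * i + 1) = (2 * i + 1 + 1) * (2 * i) + 1 := by ring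
    rw [Nat.add_sub_cancel, this, Nat.add_sub_cancel]
  rw [he, pow_succ]
  rcases h with h | h
  · exact Nat.mul_dvd_mul h (by omega)
  · rw [mul_comm]; exact Nat.mul_dvd_mul (by omega) h

theorem pow_modEq_self {q M : ℕ} (h : q * q ≡ 1 [MOD M]) (b : ℕ) : q ^ (2 * b + 1) ≡ q [MOD M] := by
  induction b with
  | zero => simp only [Nat.mul_zero, Nat.zero_add, pow_one]; rfl
  | succ b ih =>
    calc q ^ (2 * (b + 1) + 1) = q * q * q ^ (2 * b + 1) := by ring
      _ ≡ 1 * q [MOD M] := h.mul ih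
      _ = q := one_mul q

theorem eq_one_of_pow_add_one {q a e : ℕ} (hq : Odd q) (he : 2 ≤ e) (h : q ^ a + 1 = 2 ^ e) :
    a = 1 := by
  rcases Nat.even_or_odd a with ⟨b, rfl⟩ | ⟨b, rfl⟩
  · exfalso
    obtain ⟨i, hi⟩ := hq.pow (n := b)
    have h4 : 4 ∣ 2 ^ e := ⟨2 ^ (e - 2), by rw [show e = 2 + (e - 2) by omega, pow_add]; simp⟩
    rw [← h, pow_add, hi, show (2 * i + 1) * (2 * i + 1) + 1 = 4 * (i * i + i) + 2 by ring] at h4
    omega
  · have hd : q + 1 ∣ q ^ (2 * b + 1) + 1 := by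
      simpa using (odd_two_mul_add_one b).nat_add_dvd_pow_add_pow q 1
    rw [h] at hd
    obtain ⟨f, hf, hqf⟩ := (Nat.dvd_prime_pow Nat.prime_two).1 hd
    rcases hf.lt_or_eq with hlt | rfl
    · exfalso
      have hm := (pow_modEq_self (sq_modEq_one hq (Or.inl (dvd_of_eq hqf.symm))) b).add_right 1
      rw [h, hqf] at hm
      have h1 : 2 ^ (f + 1) ∣ 2 ^ f :=
        Nat.modEq_zero_iff_dvd.1 (hm.symm.trans (Nat.modEq_zero_iff_dvd.2 (pow_dvd_pow 2 hlt)))
      have := (Nat.pow_dvd_pow_iff_le_right (by norm_num : 1 < 2)).1 h1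
      omega
    · by_contra hb
      have h1 : q + 1 = q ^ (2 * b + 1) + 1 := by omega
      have hq1 : q ≠ 1 := by
        rintro rfl
        rw [one_pow] at h
        have : 4 ≤ 2 ^ f := Nat.pow_le_pow_right (by norm_num : 0 < 2) he
        omega
      have hq2 : 1 < q := by have := hq.pos; omega
      have := Nat.pow_right_injective hq2
        (show q ^ 1 = q ^ (2 * b + 1) by rw [pow_one]; omega)
      omega

theorem cases_of_pow_eq_add_one {q a e : ℕ} (hq : Odd q) (hq3 : 3 ≤ q) (ha : a ≠ 0)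
    (h : q ^ a = 2 ^ e + 1) : a = 1 ∨ q = 3 ∧ a = 2 := by
  rcases Nat.even_or_odd a with ⟨b, rfl⟩ | ⟨b, rfl⟩
  · right
    have hx : 1 < q ^ b := Nat.one_lt_pow (by omega) (by omega)
    obtain ⟨i, hi⟩ := hq.pow (n := b)
    rw [pow_add, hi] at h
    have h4 : 4 * (i * (i + 1)) = 2 ^ e := by
      have : (2 * i + 1) * (2 * i + 1) = 4 * (i * (i + 1)) + 1 := by ring
      omega
    have hd : i * (i + 1) ∣ 2 ^ e := ⟨4, by rw [← h4]; ring⟩
    obtain ⟨f, -, hf⟩ := (Nat.dvd_prime_pow Nat.prime_two).1 ((dvd_mul_right i (i + 1)).trans hd)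
    obtain ⟨g, -, hg⟩ := (Nat.dvd_prime_pow Nat.prime_two).1 ((dvd_mul_left (i + 1) i).trans hd)
    have hi1 : i = 1 := by
      rcases Nat.eq_zero_or_pos f with rfl | hf0
      · simpa using hf
      rcases Nat.eq_zero_or_pos g with rfl | hg0
      · simp at hg; omega
      obtain ⟨f', rfl⟩ : ∃ f', f = f' + 1 := ⟨f - 1, by omega⟩
      obtain ⟨g', rfl⟩ : ∃ g', g = g' + 1 := ⟨g - 1, by omega⟩
      rw [pow_succ] at hf hg
      omega
    rw [hi1] at hi
    norm_num at hi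
    have hb : b ≠ 0 := by omega
    rcases (Nat.dvd_prime Nat.prime_three).1 (hi ▸ dvd_pow_self q hb) with hq' | hq'
    · omega
    · refine ⟨hq', ?_⟩
      subst hq'
      have := Nat.pow_right_injective (le_of_lt (show 2 < 3 by norm_num))
        (show (3 : ℕ) ^ b = 3 ^ 1 by rw [pow_one]; exact hi)
      omega
  · left
    have hd : q - 1 ∣ q ^ (2 * b + 1) - 1 := by simpa using Nat.sub_dvd_pow_sub_pow q 1 (2 * b + 1)
    rw [h, Nat.add_sub_cancel] at hd
    obtain ⟨f, hf, hqf⟩ := (Nat.dvd_prime_pow Nat.prime_two).1 hd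
    rcases hf.lt_or_eq with hlt | rfl
    · exfalso
      have hm := pow_modEq_self (sq_modEq_one hq (Or.inr (dvd_of_eq hqf.symm))) b
      rw [h] at hm
      have h0 : 2 ^ e + 1 ≡ 0 + 1 [MOD 2 ^ (f + 1)] :=
        (Nat.modEq_zero_iff_dvd.2 (pow_dvd_pow 2 hlt)).add_right 1
      have h1 := hm.symm.trans h0
      rw [show q = 2 ^ f + 1 by omega] at h1
      have h2 := (Nat.pow_dvd_pow_iff_le_right (by norm_num : 1 < 2)).1
        (Nat.modEq_zero_iff_dvd.1 (Nat.ModEq.add_right_cancel' 1 h1))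
      omega
    · have := Nat.pow_right_injective (show 1 < q by omega)
        (show q ^ 1 = q ^ (2 * b + 1) by rw [pow_one]; omega)
      omega

/-- The possible values. -/
theorem cases_of_dvd {q a d : ℕ} (hq : Odd q) (hq3 : 3 ≤ q) (ha : a ≠ 0)
    (hle : q ^ a ≤ 2 ^ d - 1) (hdvd : 2 ^ d ∣ (q ^ a + 1) * (q ^ a - 1)) :
    2 ≤ d ∧ ((a = 1 ∧ q + 1 = 2 ^ d) ∨
      (a = 1 ∧ 3 ≤ d ∧ (q + 1 = 2 ^ (d - 1) ∨ q = 2 ^ (d - 1) + 1)) ∨ (q = 3 ∧ a = 2 ∧ d = 4)) := by
  have hm : 3 ≤ q ^ a := hq3.trans (Nat.le_self_pow ha q)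
  have hd : 2 ≤ d := by
    by_contra h
    interval_cases d <;> omega
  refine ⟨hd, ?_⟩
  obtain ⟨i, hi⟩ := hq.pow (n := a)
  obtain ⟨e, rfl⟩ : ∃ e, d = e + 2 := ⟨d - 2, by omega⟩
  have hdvd' : 2 ^ e ∣ i * (i + 1) := by
    rw [hi, show (2 * i + 1 + 1) * (2 * i + 1 - 1) = i * (i + 1) * 4 by
      rw [Nat.add_sub_cancel]; ring, pow_add] at hdvd
    exact Nat.dvd_of_mul_dvd_mul_right (by norm_num : 0 < 4) (by simpa using hdvd)
  have hlt : i < 2 ^ (e + 1) := by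
    rw [pow_succ] at hle
    omega
  rw [show e + 2 - 1 = e + 1 by omega]
  have h22 : 2 ^ (e + 2) = 2 ^ (e + 1) * 2 := pow_succ _ _
  have h21 : 2 ^ (e + 1) = 2 ^ e * 2 := pow_succ _ _
  rcases Nat.even_or_odd i with hev | hodd
  · -- `2 ^ e ∣ i`
    have hdi : 2 ^ e ∣ i :=
      ((Nat.coprime_two_left.2 (hev.add_one)).pow_left e).dvd_of_dvd_mul_right hdvd'
    obtain ⟨c, rfl⟩ := hdi
    have hc : c = 1 := by
      have h1 : 2 ^ e * c < 2 ^ e * 2 := by rw [← h21]; exact hlt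
      have := Nat.lt_of_mul_lt_mul_left h1
      rcases Nat.eq_zero_or_pos c with rfl | h
      · simp at hi; omega
      · omega
    subst hc
    have h : q ^ a = 2 ^ (e + 1) + 1 := by omega
    rcases cases_of_pow_eq_add_one hq hq3 ha h with rfl | ⟨rfl, rfl⟩
    · rw [pow_one] at h
      rcases Nat.eq_zero_or_pos e with rfl | he
      · exact Or.inl ⟨rfl, by norm_num at h ⊢; omega⟩
      · exact Or.inr (Or.inl ⟨rfl, by omega, Or.inr h⟩)
    · refine Or.inr (Or.inr ⟨rfl, rfl, ?_⟩)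
      have := Nat.pow_right_injective (le_refl 2)
        (show 2 ^ (e + 1) = 2 ^ 3 by norm_num at h ⊢; omega)
      omega
  · have hdi : 2 ^ e ∣ i + 1 :=
      ((Nat.coprime_two_left.2 hodd).pow_left e).dvd_of_dvd_mul_left hdvd'
    obtain ⟨c, hc⟩ := hdi
    have hc2 : c ≤ 2 := by
      have h1 : 2 ^ e * c ≤ 2 ^ e * 2 := by rw [← h21]; omega
      exact Nat.le_of_mul_le_mul_left h1 (pow_pos (by norm_num) e)
    interval_cases c
    · omega
    · have h : q ^ a + 1 = 2 ^ (e + 1) := by omega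
      have he : 2 ≤ e + 1 := by
        rcases Nat.eq_zero_or_pos e with rfl | he
        · norm_num at h; omega
        · omega
      obtain rfl := eq_one_of_pow_add_one hq he h
      rw [pow_one] at h
      exact Or.inr (Or.inl ⟨rfl, by omega, Or.inl h⟩)
    · have h : q ^ a + 1 = 2 ^ (e + 2) := by omega
      obtain rfl := eq_one_of_pow_add_one hq (by omega) h
      rw [pow_one] at h
      exact Or.inl ⟨rfl, h⟩

end Cfsg.Agent.FittingHeight.TwoPower
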