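import Cfsg.Agent.Lib.FittingHeight.Setting
import Cfsg.Agent.Lib.Solvable.Basic

/-!
# Further tools for the linear configurations

Restricted actions, a weight as a homomorphism on `Q`, weights fixed by all of `A`, stabilisers,
and the nilpotency criterion.
-/

namespace Cfsg.Agent.FittingHeight

open Subgroup SemidirectProduct
open scoped IsMulCommutative

variable {M : Type*} [Group M] {A : Type*} [Group A] {φ : A →* MulAut M} {k : Type*} [Field k]

variable (φ) in
/-- The action on an invariant subgroup. -/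
def restrictAct (K : Subgroup M) (hK : ∀ a, ∀ x ∈ K, φ a x ∈ K) : A →* MulAut K where
  toFun a := ((φ a).subgroupMap K).trans (MulEquiv.subgroupCongr (map_eq_of_invariant φ hK a))
  map_one' := MulEquiv.ext fun x => Subtype.ext (by
    show φ 1 (x : M) = x
    rw [map_one, MulAut.one_apply])
  map_mul' a b := MulEquiv.ext fun x => Subtype.ext (by
    show φ (a * b) (x : M) = φ a (φ b (x : M))
    rw [map_mul, MulAut.mul_apply])

theorem coe_restrictAct {K : Subgroup M} (hK : ∀ a, ∀ x ∈ K, φ a x ∈ K) (a : A) (x : K) :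
    ((restrictAct φ K hK a x : K) : M) = φ a x := rfl

/-- A subgroup containing the fixed points in `K` of all `a ≠ 1` contains `K`. -/
theorem le_of_forall_fixed {A : Type*} [CommGroup A] [Finite A] {φ : A →* MulAut M} [Finite M]
    (hA : ¬ IsCyclic A) (hcop : (Nat.card A).Coprime (Nat.card M)) {K T : Subgroup M}
    (hK : ∀ a, ∀ x ∈ K, φ a x ∈ K)
    (h : ∀ a : A, a ≠ 1 → ∀ x ∈ K, φ a x = x → x ∈ T) : K ≤ T := by
  have := Coprime.eq_top_of_forall_fixedBy_le (restrictAct φ K hK) hA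
    (hcop.coprime_dvd_right (card_subgroup_dvd_card K)) (S := T.subgroupOf K)
    fun a ha x hx => h a ha x x.2 (congrArg Subtype.val hx)
  exact subgroupOf_eq_top.1 this

/-- A weight as a homomorphism on `Q`. -/
def wRes (Q : Subgroup M) (χ : (Q.map (inl : M →* M ⋊[φ] A)) →* k) : Q →* k :=
  χ.comp (inl.subgroupMap Q)

theorem wRes_apply {Q : Subgroup M} (χ : (Q.map (inl : M →* M ⋊[φ] A)) →* k) (x : Q) :
    wRes Q χ x = χ ⟨inl (x : M), mem_map_of_mem _ x.2⟩ := rfl

theorem exists_wRes_ne_one {Q : Subgroup M} {χ : (Q.map (inl : M →* M ⋊[φ] A)) →* k}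
    (h : ∃ l, χ l ≠ 1) : ∃ x, wRes Q χ x ≠ 1 := by
  obtain ⟨⟨_, x, hx, rfl⟩, hl⟩ := h
  exact ⟨⟨x, hx⟩, hl⟩

theorem wRes_apply_act {Q : Subgroup M} (hQ : ∀ a, ∀ x ∈ Q, φ a x ∈ Q)
    {χ : (Q.map (inl : M →* M ⋊[φ] A)) →* k} {a : A}
    (ha : (inr a : M ⋊[φ] A) ∈ wStab k (Q.map inl) χ) (x : Q) :
    wRes Q χ (restrictAct φ Q hQ a x) = wRes Q χ x := by
  rw [wRes_apply, wRes_apply, ← apply_eq_of_mem_wStab ha ⟨inl (x : M), mem_map_of_mem _ x.2⟩
    (by rw [← inl_apply]; exact mem_map_of_mem _ (hQ a x x.2))]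
  congr 1
  exact Subtype.ext (inl_apply (φ := φ) a (x : M))

theorem eq_one_of_pow_eq_one_of_coprime {Q : Type*} [Group Q] [Finite Q] (ξ : Q →* k) (x : Q)
    {m : ℕ} (hm : m.Coprime (Nat.card Q)) (h : ξ x ^ m = 1) : ξ x = 1 := by
  rw [← orderOf_eq_one_iff]
  exact Nat.eq_one_of_dvd_coprimes hm (orderOf_dvd_of_pow_eq_one h)
    ((orderOf_map_dvd ξ x).trans (orderOf_dvd_natCard x))

/-- A weight fixed by all of `A` is trivial. -/
theorem wRes_eq_one_of_forall_mem [Fintype A] [Finite M]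
    (hcop : (Nat.card A).Coprime (Nat.card M)) (hfix : Coprime.fixedBy φ = ⊥) {Q : Subgroup M}
    [IsMulCommutative Q] (hQ : ∀ a, ∀ x ∈ Q, φ a x ∈ Q)
    {χ : (Q.map (inl : M →* M ⋊[φ] A)) →* k}
    (h : ∀ a, (inr a : M ⋊[φ] A) ∈ wStab k (Q.map inl) χ) (x : Q) : wRes Q χ x = 1 := by
  set n := ∏ a : A, restrictAct φ Q hQ a x with hn
  have hn1 : n = 1 := by
    have : (n : M) ∈ Coprime.fixedBy φ := fun b => by
      show (restrictAct φ Q hQ b n : M) = n
      rw [hn, map_prod]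
      refine congrArg Subtype.val (Fintype.prod_equiv (Equiv.mulLeft b) _ _ fun a => ?_)
      show restrictAct φ Q hQ b (restrictAct φ Q hQ a x) = restrictAct φ Q hQ (b * a) x
      rw [map_mul, MulAut.mul_apply]
    rw [hfix, mem_bot] at this
    exact Subtype.ext this
  have h2 : wRes Q χ x ^ Nat.card A = 1 := by
    rw [← map_one (wRes Q χ), ← hn1, hn, map_prod]
    simp only [wRes_apply_act hQ (h _)]
    rw [Finset.prod_const, Finset.card_univ, Nat.card_eq_fintype_card]
  exact eq_one_of_pow_eq_one_of_coprime _ x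
    (hcop.coprime_dvd_right (card_subgroup_dvd_card Q)) h2

variable {E : Type*} [AddCommGroup E] [Module k E] (ρ : M ⋊[φ] A →* Module.End k E)

/-- The stabiliser in `A` of a weight. -/
def aStab (Q : Subgroup M) (χ : (Q.map (inl : M →* M ⋊[φ] A)) →* k) : Subgroup A :=
  (wStab k (Q.map inl) χ).comap inr

theorem mem_aStab {Q : Subgroup M} {χ : (Q.map (inl : M →* M ⋊[φ] A)) →* k} {a : A} :
    a ∈ aStab Q χ ↔ (inr a : M ⋊[φ] A) ∈ wStab k (Q.map inl) χ := Iff.rfl

/-- The operators of the stabiliser of a weight sum to zero on the weight space. -/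
theorem sum_aStab_eq_zero [Fintype A] {Q : Subgroup M} (hQ : ∀ a, ∀ x ∈ Q, φ a x ∈ Q)
    {χ : (Q.map (inl : M →* M ⋊[φ] A)) →* k} {v : E} (hv : v ∈ weightSpace ρ (Q.map inl) χ)
    (hsum : ∑ a : A, ρ (inr a) v = 0) [Fintype (aStab Q χ)] :
    ∑ a : aStab Q χ, ρ (inr (a : A)) v = 0 := by
  classical
  have h := sum_stab_eq_zero ρ hv (fun a : A => (inr a : M ⋊[φ] A)) (inr_mem_normalizer hQ) hsum
    (Finset.univ.filter fun a => a ∈ aStab Q χ) (fun a => by simp [mem_aStab])
  rw [← h]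
  exact (Finset.sum_subtype (Finset.univ.filter fun a => a ∈ aStab Q χ) (fun a => by simp)
    fun a => ρ (inr a) v).symm

/-- An occurring weight has a non-trivial stabiliser in `A`. -/
theorem aStab_ne_bot [Fintype A] {Q : Subgroup M} (hQ : ∀ a, ∀ x ∈ Q, φ a x ∈ Q)
    {χ : (Q.map (inl : M →* M ⋊[φ] A)) →* k} {v : E} (hv : v ∈ weightSpace ρ (Q.map inl) χ)
    (hv0 : v ≠ 0) (hsum : ∑ a : A, ρ (inr a) v = 0) : aStab Q χ ≠ ⊥ := by
  classical
  intro h
  have h0 := sum_aStab_eq_zero ρ hQ hv hsum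
  have : Subsingleton (aStab Q χ) := by rw [h]; infer_instance
  rw [Fintype.sum_subsingleton _ (1 : aStab Q χ)] at h0
  rw [OneMemClass.coe_one, map_one, apply_one] at h0
  exact hv0 h0

/-- A non-trivial element of an abelian subgroup of order prime to the characteristic is seen by
some weight. -/
theorem exists_weight_ne_one [Finite M] [IsAlgClosed k] [FiniteDimensional k E] {Q : Subgroup M}
    (hQ : IsMulCommutative Q) (hk : (Nat.card Q : k) ≠ 0)
    (hfaith : ∀ m : M, ρ (inl m) = 1 → m = 1) {z : M} (hz : z ∈ Q) (hz1 : z ≠ 1) :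
    ∃ (χ : (Q.map (inl : M →* M ⋊[φ] A)) →* k) (v : E),
      v ≠ 0 ∧ v ∈ weightSpace ρ (Q.map inl) χ ∧ wRes Q χ ⟨z, hz⟩ ≠ 1 := by
  obtain ⟨w₀, hw₀⟩ : ∃ w, ρ (inl z) w ≠ w := by
    by_contra h
    push Not at h
    exact hz1 (hfaith z (LinearMap.ext h))
  have hcommL : ∀ a ∈ Q.map (inl : M →* M ⋊[φ] A), ∀ b ∈ Q.map (inl : M →* M ⋊[φ] A),
      ∀ w ∈ (⊤ : Submodule k E), ρ a (ρ b w) = ρ b (ρ a w) := by
    rintro _ ⟨a, ha, rfl⟩ _ ⟨b, hb, rfl⟩ w -
    rw [← apply_mul, ← apply_mul, ← map_mul, ← map_mul,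
      show a * b = b * a from congrArg Subtype.val (hQ.is_comm.comm (⟨a, ha⟩ : Q) ⟨b, hb⟩)]
  obtain ⟨χ, v, -, hv0, hv, hχ⟩ := exists_weight ρ (natCard_map_inl_ne_zero hk)
    (fun _ _ _ _ => Submodule.mem_top) hcommL (l₀ := ⟨inl z, mem_map_of_mem _ hz⟩)
    (Submodule.mem_top : w₀ ∈ ⊤) hw₀
  exact ⟨χ, v, hv0, hv, hχ⟩

/-- A nilpotency criterion: `M/F(M)` is nilpotent and every invariant Sylow subgroup centralises
every `O_q(M)` for the other primes `q`. -/
theorem isNilpotent_of_forall_centralizes [Finite M] [Group.IsSolvable M] {n : ℕ}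
    (hn : (⊤ : Subgroup M).lowerCentralSeries n ≤ fittingSubgroup M)
    (h : ∀ (s : ℕ) [Fact s.Prime], ∃ S : Sylow s M, ∀ q : ℕ, q.Prime → q ≠ s →
      (S : Subgroup M) ≤ centralizer (pCore q M : Set M)) : Group.IsNilpotent M := by
  refine ((Group.isNilpotent_of_finite_tfae (G := M)).out 0 3 rfl rfl).2 fun s hs P => ?_
  have hsF := Fact.mk hs.out
  obtain ⟨S, hS⟩ := h s
  suffices hSn : (S : Subgroup M).Normal by
    obtain ⟨g, rfl⟩ := MulAction.exists_smul_eq M S P
    rwa [Sylow.smul_eq_iff_mem_normalizer.2 ((normalizer_eq_top (H := (S : Subgroup M))).ge (mem_top g))]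
  set F := fittingSubgroup M with hF
  have hFn : F.Normal := Components.fittingSubgroup_normal M
  -- `F` normalises `S`
  have hFS : F ≤ normalizer ((S : Subgroup M) : Set M) := by
    rw [hF, Components.fittingSubgroup_eq_iSup_pCore]
    refine iSup_le fun q => ?_
    by_cases hq : (q : ℕ) = s
    · refine le_trans ?_ le_normalizer
      rw [hq]
      exact (PCore.isPGroup_pCore (p := s) (G := M)).le_sylow_of_normal S
    · exact le_trans (le_centralizer_iff.1 (hS q (Nat.prime_of_mem_primeFactors q.2) hq))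
        (centralizer_le_normalizer _)
  -- `S F` is normal
  have hnil : Group.IsNilpotent (M ⧸ F) := by
    rw [Subgroup.nilpotent_iff_lowerCentralSeries]
    refine ⟨n, ?_⟩
    rw [← map_top_lowerCentralSeries (QuotientGroup.mk' F) (QuotientGroup.mk'_surjective F),
      Subgroup.map_eq_bot_iff, QuotientGroup.ker_mk']
    exact hn
  have hSbar : ((S : Subgroup M).map (QuotientGroup.mk' F)).Normal :=
    ((Group.isNilpotent_of_finite_tfae (G := M ⧸ F)).out 0 3 rfl rfl).1 hnil s ⟨hs.out⟩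
      (S.mapSurjective (QuotientGroup.mk'_surjective F))
  have hSF : ((S : Subgroup M) ⊔ F).Normal := by
    have := hSbar.comap (QuotientGroup.mk' F)
    rwa [Subgroup.comap_map_eq, QuotientGroup.ker_mk'] at this
  have hN : (S : Subgroup M) ⊔ F ≤ normalizer ((S : Subgroup M) : Set M) :=
    sup_le le_normalizer hFS
  refine normalizer_eq_top_iff.1 (top_le_iff.1 fun g _ => ?_)
  refine Sylow.smul_eq_iff_mem_normalizer.1 (Sylow.ext ?_)
  have hle : ((g • S : Sylow s M) : Subgroup M) ≤ normalizer ((S : Subgroup M) : Set M) := by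
    refine le_trans ?_ hN
    intro x hx
    rw [Sylow.coe_subgroup_smul] at hx
    rw [Coprime.mem_conj_smul_iff] at hx
    have := hSF.conj_mem _ (mem_sup_left hx) g
    rwa [show g * (g⁻¹ * x * g) * g⁻¹ = x by group] at this
  have h1 := S.is_maximal' ((g • S).isPGroup'.to_sup_of_normal_right' S.isPGroup' hle) le_sup_right
  exact Subgroup.eq_of_le_of_card_ge (le_sup_left.trans h1.le)
    (le_of_eq (by rw [Sylow.card_eq_multiplicity, Sylow.card_eq_multiplicity]))

end Cfsg.Agent.FittingHeight
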