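import Mathlib.RingTheory.SimpleModule.IsAlgClosed
import Mathlib.LinearAlgebra.GeneralLinearGroup.AlgEquiv
import Mathlib.LinearAlgebra.Eigenspace.Triangularizable
import Mathlib.RingTheory.RootsOfUnity.AlgebraicallyClosed
import Mathlib.Algebra.Order.Chebyshev
import Mathlib.GroupTheory.QuotientGroup.Basic
import Mathlib.Dynamics.PeriodicPts.Defs

/-!
# A Hall–Higman bound for groups that are abelian up to scalars

`π : Q → End W` with commutators acting by scalars and "centre" acting by scalars. The image spans a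
central simple algebra of dimension `|Q : R|`, `R` the scalar subgroup; so `|Q : R|` is a square.
If moreover an operator `A` with `1 + A + ⋯ + A^(ℓ-1) = 0` induces an automorphism `α` of `Q`, then
`|Q : R| ≤ (ℓ - 1)²` times the number of fixed points of `α` on `Q/R`.
-/

namespace Cfsg.Agent.FittingHeight

open Module Finset

variable {k : Type*} [Field k] {W : Type*} [AddCommGroup W] [Module k W]
  {Q : Type*} [Group Q]

/-- The elements acting by scalars. -/
def scalarSub (π : Q →* End k W) : Subgroup Q where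
  carrier := {x | ∃ c : k, π x = c • 1}
  one_mem' := ⟨1, by rw [map_one, one_smul]⟩
  mul_mem' := fun {x y} ⟨c, hc⟩ ⟨e, he⟩ => ⟨c * e, by
    rw [map_mul, hc, he, smul_mul_smul_comm, one_mul]⟩
  inv_mem' := fun {x} ⟨c, hc⟩ => by
    rcases subsingleton_or_nontrivial W with _ | _
    · exact ⟨1, Subsingleton.elim _ _⟩
    have h : π x * π x⁻¹ = 1 := by rw [← map_mul, mul_inv_cancel, map_one]
    rw [hc, smul_mul_assoc, one_mul] at h
    have hc0 : c ≠ 0 := by rintro rfl; rw [zero_smul] at h; exact zero_ne_one h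
    exact ⟨c⁻¹, by rw [← h, smul_smul, inv_mul_cancel₀ hc0, one_smul]⟩

theorem mem_scalarSub {π : Q →* End k W} {x : Q} : x ∈ scalarSub π ↔ ∃ c : k, π x = c • 1 :=
  Iff.rfl

instance scalarSub_normal (π : Q →* End k W) : (scalarSub π).Normal :=
  ⟨fun x ⟨c, hc⟩ g => ⟨c, by
    rw [map_mul, map_mul, hc, mul_smul_comm, mul_one, smul_mul_assoc, ← map_mul, mul_inv_cancel,
      map_one]⟩⟩

/-- Transversal operators. -/
noncomputable def transOp (π : Q →* End k W) (q : Q ⧸ scalarSub π) : End k W := π q.out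

variable {π : Q →* End k W}

theorem isUnit_apply (x : Q) : IsUnit (π x) :=
  ⟨⟨π x, π x⁻¹, by rw [← map_mul, mul_inv_cancel, map_one],
    by rw [← map_mul, inv_mul_cancel, map_one]⟩, rfl⟩

theorem exists_transOp (x : Q) : ∃ c : k, π x = c • transOp π (x : Q ⧸ scalarSub π) := by
  obtain ⟨⟨r, hr⟩, h⟩ := QuotientGroup.mk_out_eq_mul (scalarSub π) x
  obtain ⟨c, hc⟩ := inv_mem hr
  refine ⟨c, ?_⟩
  show π x = c • π (x : Q ⧸ scalarSub π).out
  rw [h]
  conv_lhs => rw [show x = x * r * r⁻¹ by group, map_mul, hc, mul_smul_comm, mul_one]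

variable [Nontrivial W]

theorem apply_ne_zero (x : Q) : π x ≠ 0 := (isUnit_apply x).ne_zero

theorem scalar_ne_zero {x y : Q} {c : k} (h : π x = c • π y) : c ≠ 0 := by
  rintro rfl
  rw [zero_smul] at h
  exact apply_ne_zero x h

/-- Conjugation of `π x` by `π y` multiplies it by a scalar, a character of `y`. -/
theorem exists_char (hβ : ∀ x y, ∃ c : k, π x * π y = c • (π y * π x))
    (hcent : ∀ x, (∀ y, π x * π y = π y * π x) → x ∈ scalarSub π) :
    ∃ χ : Q ⧸ scalarSub π → Q →* k, Function.Injective χ ∧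
      ∀ q y, π y * transOp π q * π y⁻¹ = χ q y • transOp π q := by
  have hex : ∀ (q : Q ⧸ scalarSub π) (y : Q),
      ∃ c : k, π y * transOp π q * π y⁻¹ = c • transOp π q := fun q y => by
    obtain ⟨c, hc⟩ := hβ y q.out
    refine ⟨c, ?_⟩
    show π y * π q.out * π y⁻¹ = c • π q.out
    rw [hc, smul_mul_assoc, mul_assoc, ← map_mul, mul_inv_cancel, map_one, mul_one]
  choose c hc using hex
  have huniq : ∀ q : Q ⧸ scalarSub π, ∀ {a b : k}, a • transOp π q = b • transOp π q → a = b :=
    fun q a b h => smul_left_injective k (apply_ne_zero (π := π) q.out) h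
  let χ : Q ⧸ scalarSub π → Q →* k := fun q =>
    { toFun := c q
      map_one' := huniq q (by rw [← hc, inv_one, map_one, one_mul, mul_one, one_smul])
      map_mul' := fun y z => huniq q (by
        rw [← hc, mul_inv_rev, map_mul, map_mul, mul_comm (c q y), ← smul_smul, ← hc q y,
          show π y * π z * transOp π q * (π z⁻¹ * π y⁻¹) =
            π y * (π z * transOp π q * π z⁻¹) * π y⁻¹ by simp only [mul_assoc],
          hc, mul_smul_comm, smul_mul_assoc]) }
  refine ⟨χ, fun q q' h => ?_, hc⟩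
  rw [← QuotientGroup.out_eq' q, ← QuotientGroup.out_eq' q', QuotientGroup.eq]
  refine hcent _ fun y => ?_
  have key : π y * π q.out⁻¹ * π y⁻¹ = (c q y)⁻¹ • π q.out⁻¹ := by
    have h1 := hc q y
    have h0 : c q y ≠ 0 := by
      intro e
      rw [e, zero_smul] at h1
      exact apply_ne_zero (π := π) (y * q.out * y⁻¹) (by rw [map_mul, map_mul]; exact h1)
    have h2 : (π y * π q.out⁻¹ * π y⁻¹) * (π y * transOp π q * π y⁻¹) = 1 := by
      show π y * π q.out⁻¹ * π y⁻¹ * (π y * π q.out * π y⁻¹) = 1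
      rw [← map_mul, ← map_mul, ← map_mul, ← map_mul, ← map_mul, ← map_one π]
      congr 1
      group
    rw [h1, mul_smul_comm] at h2
    have h3 := congrArg (fun z => (c q y)⁻¹ • (z * π q.out⁻¹)) h2
    simp only [smul_mul_assoc, smul_smul, inv_mul_cancel₀ h0, one_smul, one_mul] at h3
    rw [← h3]
    show _ = _ * π q.out * π q.out⁻¹
    rw [mul_assoc _ (π q.out), ← map_mul π q.out, mul_inv_cancel, map_one, mul_one]
  have hq' := hc q' y
  have e : c q y = c q' y := DFunLike.congr_fun h y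
  have h0 : c q y ≠ 0 := by
    intro e0
    rw [e0, inv_zero, zero_smul] at key
    exact apply_ne_zero (π := π) (y * q.out⁻¹ * y⁻¹) (by rw [map_mul, map_mul]; exact key)
  have h4 : π y * π (q.out⁻¹ * q'.out) * π y⁻¹ = π (q.out⁻¹ * q'.out) := by
    calc π y * π (q.out⁻¹ * q'.out) * π y⁻¹
        = (π y * π q.out⁻¹ * π y⁻¹) * (π y * transOp π q' * π y⁻¹) := by
          show _ = π y * π q.out⁻¹ * π y⁻¹ * (π y * π q'.out * π y⁻¹)
          rw [← map_mul, ← map_mul, ← map_mul, ← map_mul, ← map_mul, ← map_mul, ← map_mul]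
          congr 1
          group
      _ = π q.out⁻¹ * transOp π q' := by
          rw [key, hq', smul_mul_smul_comm, ← e, inv_mul_cancel₀ h0, one_smul]
      _ = π (q.out⁻¹ * q'.out) := by rw [map_mul]; rfl
  calc π (q.out⁻¹ * q'.out) * π y = π y * π (q.out⁻¹ * q'.out) * π y⁻¹ * π y := by rw [h4]
    _ = π y * π (q.out⁻¹ * q'.out) := by
      rw [mul_assoc _ (π y⁻¹), ← map_mul π y⁻¹, inv_mul_cancel, map_one, mul_one]

/-- A sum of transversal operators in a subspace stable under conjugation has its terms there. -/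
theorem smul_transOp_mem [Fintype (Q ⧸ scalarSub π)]
    (hβ : ∀ x y, ∃ c : k, π x * π y = c • (π y * π x))
    (hcent : ∀ x, (∀ y, π x * π y = π y * π x) → x ∈ scalarSub π)
    (J : Submodule k (End k W)) (hJ : ∀ y, ∀ z ∈ J, π y * z * π y⁻¹ ∈ J)
    (f : Q ⧸ scalarSub π → k) (hf : ∑ q, f q • transOp π q ∈ J) (q₀ : Q ⧸ scalarSub π) :
    f q₀ • transOp π q₀ ∈ J := by
  classical
  obtain ⟨χ, hχ, hconj⟩ := exists_char hβ hcent
  rw [← Submodule.Quotient.mk_eq_zero]
  refine (Module.forall_dual_apply_eq_zero_iff k _).1 fun ψ => ?_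
  set θ : End k W →ₗ[k] k := ψ.comp J.mkQ
  show θ (f q₀ • transOp π q₀) = 0
  have hind := linearIndependent_monoidHom Q k |>.comp χ hχ
  refine Fintype.linearIndependent_iff.1 hind (fun q => θ (f q • transOp π q)) ?_ q₀
  funext y
  have h0 : θ (π y * (∑ q, f q • transOp π q) * π y⁻¹) = 0 := by
    show ψ (J.mkQ _) = 0
    rw [Submodule.mkQ_apply, (Submodule.Quotient.mk_eq_zero J).2 (hJ y _ hf), map_zero]
  simp only [Finset.mul_sum, Finset.sum_mul, mul_smul_comm, smul_mul_assoc, hconj, map_sum,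
    map_smul, smul_eq_mul] at h0
  simp only [Finset.sum_apply, Pi.smul_apply, Pi.zero_apply, Function.comp_apply, map_smul,
    smul_eq_mul]
  rw [← h0]
  exact Finset.sum_congr rfl fun q _ => by ring

theorem linearIndependent_transOp [Fintype (Q ⧸ scalarSub π)]
    (hβ : ∀ x y, ∃ c : k, π x * π y = c • (π y * π x))
    (hcent : ∀ x, (∀ y, π x * π y = π y * π x) → x ∈ scalarSub π) :
    LinearIndependent k (transOp π) := by
  refine Fintype.linearIndependent_iff.2 fun f hf q => ?_
  have h := smul_transOp_mem hβ hcent ⊥ (fun y z hz => by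
    rw [Submodule.mem_bot] at hz ⊢; rw [hz, mul_zero, zero_mul]) f (by rw [hf]; exact zero_mem _) q
  rw [Submodule.mem_bot] at h
  exact (smul_eq_zero.1 h).resolve_right (apply_ne_zero _)

/-- The span of the operators. -/
noncomputable def spanAlg (π : Q →* End k W) : Subalgebra k (End k W) :=
  (Submodule.span k (Set.range π)).toSubalgebra
    (Submodule.subset_span ⟨1, map_one π⟩)
    (fun a b ha hb => by
      induction ha using Submodule.span_induction with
      | mem x hx =>
        induction hb using Submodule.span_induction with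
        | mem y hy =>
          obtain ⟨u, rfl⟩ := hx
          obtain ⟨v, rfl⟩ := hy
          exact Submodule.subset_span ⟨u * v, map_mul π u v⟩
        | zero => rw [mul_zero]; exact zero_mem _
        | add y z _ _ h1 h2 => rw [mul_add]; exact add_mem h1 h2
        | smul c y _ h => rw [mul_smul_comm]; exact Submodule.smul_mem _ c h
      | zero => rw [zero_mul]; exact zero_mem _
      | add x y _ _ h1 h2 => rw [add_mul]; exact add_mem h1 h2
      | smul c x _ h => rw [smul_mul_assoc]; exact Submodule.smul_mem _ c h)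

theorem apply_mem_spanAlg (x : Q) : π x ∈ spanAlg π := Submodule.subset_span ⟨x, rfl⟩

theorem span_transOp :
    Submodule.span k (Set.range (transOp π)) = Submodule.span k (Set.range π) := by
  refine le_antisymm (Submodule.span_mono ?_) (Submodule.span_le.2 ?_)
  · rintro _ ⟨q, rfl⟩
    exact ⟨q.out, rfl⟩
  · rintro _ ⟨x, rfl⟩
    obtain ⟨c, hc⟩ := exists_transOp (π := π) x
    rw [SetLike.mem_coe, hc]
    exact Submodule.smul_mem _ c (Submodule.subset_span ⟨_, rfl⟩)

variable [IsAlgClosed k] [FiniteDimensional k W] [Finite Q]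

/-- The span of the operators is a full matrix algebra of dimension `|Q : R|`. -/
theorem exists_matrix (hβ : ∀ x y, ∃ c : k, π x * π y = c • (π y * π x))
    (hcent : ∀ x, (∀ y, π x * π y = π y * π x) → x ∈ scalarSub π) :
    ∃ m : ℕ, m * m = (scalarSub π).index ∧
      Nonempty (spanAlg π ≃ₐ[k] End k (Fin m → k)) := by
  classical
  let _ : Fintype (Q ⧸ scalarSub π) := Fintype.ofFinite _
  have hsimple : IsSimpleRing (spanAlg π) := by
    refine IsSimpleRing.of_eq_bot_or_eq_top fun I => ?_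
    rw [or_iff_not_imp_left, ← I.one_mem_iff]
    intro hI
    obtain ⟨z, hzI, hz0 : z ≠ 0⟩ := SetLike.exists_of_lt (bot_lt_iff_ne_bot.2 hI)
    let J : Submodule k (End k W) :=
      { carrier := {e | ∃ z : spanAlg π, z ∈ I ∧ (z : End k W) = e}
        zero_mem' := ⟨0, I.zero_mem, rfl⟩
        add_mem' := fun ⟨u, hu, hu'⟩ ⟨v, hv, hv'⟩ => ⟨u + v, I.add_mem hu hv, by
          rw [← hu', ← hv']; rfl⟩
        smul_mem' := fun c _ ⟨u, hu, hu'⟩ => ⟨algebraMap k (spanAlg π) c * u,
          I.mul_mem_left _ _ hu, by rw [← hu', Algebra.smul_def]; rfl⟩ }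
    have hJ : ∀ y, ∀ e ∈ J, π y * e * π y⁻¹ ∈ J := fun y e ⟨u, hu, hu'⟩ =>
      ⟨⟨π y, apply_mem_spanAlg y⟩ * u * ⟨π y⁻¹, apply_mem_spanAlg y⁻¹⟩,
        I.mul_mem_right _ _ (I.mul_mem_left _ _ hu), by rw [← hu']; rfl⟩
    obtain ⟨f, hf⟩ := (Submodule.mem_span_range_iff_exists_fun k).1
      ((span_transOp (π := π)).ge z.2)
    obtain ⟨q, hq⟩ : ∃ q, f q ≠ 0 := by
      by_contra h
      push Not at h
      exact hz0 (Subtype.ext (by rw [← hf]; simp [h]))
    have hqJ := smul_transOp_mem hβ hcent J hJ f (by rw [hf]; exact ⟨z, hzI, rfl⟩) q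
    have hT : transOp π q ∈ J := by
      have := J.smul_mem (f q)⁻¹ hqJ
      rwa [smul_smul, inv_mul_cancel₀ hq, one_smul] at this
    obtain ⟨u, hu, hu'⟩ := hT
    have h1 : (⟨π q.out⁻¹, apply_mem_spanAlg _⟩ : spanAlg π) * u = 1 := Subtype.ext (by
      show π q.out⁻¹ * (u : End k W) = 1
      rw [hu']
      show π q.out⁻¹ * π q.out = 1
      rw [← map_mul, inv_mul_cancel, map_one])
    exact h1 ▸ I.mul_mem_left _ _ hu
  obtain ⟨m, hm, ⟨e⟩⟩ := IsSimpleRing.exists_algEquiv_matrix_of_isAlgClosed k (spanAlg π)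
  refine ⟨m, ?_, ⟨e.trans Matrix.toLinAlgEquiv'⟩⟩
  have h1 := e.toLinearEquiv.finrank_eq
  rw [Module.finrank_matrix, Fintype.card_fin, Module.finrank_self, mul_one] at h1
  rw [← h1, Subgroup.index_eq_card, Nat.card_eq_fintype_card]
  have h2 := finrank_span_eq_card (linearIndependent_transOp hβ hcent)
  rw [span_transOp] at h2
  exact h2

end Cfsg.Agent.FittingHeight
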