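import Cfsg.Agent.Lib.FittingHeight.Tools
import Cfsg.Agent.Lib.Coprime.ThreeSubgroup

/-!
# Values of weights, operators on an invariant subspace, the last commutator subgroup

`wVal Q χ : M → k` is the weight on `Q` extended by `1`. `resRep ρ W` is the representation of the
stabiliser of `W` on `W`.
-/

namespace Cfsg.Agent.FittingHeight

open Subgroup SemidirectProduct
open scoped commutatorElement

section Values

variable {M : Type*} [Group M] {A : Type*} [Group A] {φ : A →* MulAut M} {k : Type*} [Field k]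

open scoped Classical in
/-- The weight on `Q`, extended by `1` outside `Q`. -/
noncomputable def wVal (Q : Subgroup M) (χ : (Q.map (inl : M →* M ⋊[φ] A)) →* k) (x : M) : k :=
  if h : x ∈ Q then χ ⟨inl x, mem_map_of_mem _ h⟩ else 1

variable {Q : Subgroup M} {χ : (Q.map (inl : M →* M ⋊[φ] A)) →* k}

theorem wVal_of_mem {x : M} (h : x ∈ Q) : wVal Q χ x = χ ⟨inl x, mem_map_of_mem _ h⟩ :=
  dif_pos h

theorem wRes_eq_wVal (x : Q) : wRes Q χ x = wVal Q χ (x : M) := (wVal_of_mem x.2).symm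

theorem wVal_one : wVal Q χ 1 = 1 := by
  rw [wVal_of_mem (one_mem Q)]
  exact (congrArg χ (Subtype.ext (map_one inl))).trans (map_one χ)

theorem wVal_mul {x y : M} (hx : x ∈ Q) (hy : y ∈ Q) :
    wVal Q χ (x * y) = wVal Q χ x * wVal Q χ y := by
  rw [wVal_of_mem hx, wVal_of_mem hy, wVal_of_mem (mul_mem hx hy), ← map_mul]
  congr 1
  exact Subtype.ext (map_mul inl x y)

theorem wVal_inv {x : M} (hx : x ∈ Q) : wVal Q χ x⁻¹ = (wVal Q χ x)⁻¹ :=
  eq_inv_of_mul_eq_one_left (by rw [← wVal_mul (inv_mem hx) hx, inv_mul_cancel, wVal_one])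

theorem wVal_ne_zero {x : M} (hx : x ∈ Q) : wVal Q χ x ≠ 0 := by
  intro h
  have := wVal_mul (χ := χ) hx (inv_mem hx)
  rw [mul_inv_cancel, wVal_one, h, zero_mul] at this
  exact one_ne_zero this

theorem eq_one_of_forall_wVal (h : ∀ x ∈ Q, wVal Q χ x = 1) : ∀ l, χ l = 1 := by
  rintro ⟨_, x, hx, rfl⟩
  rw [← h x hx, wVal_of_mem hx]

theorem wVal_act (hQ : ∀ a, ∀ x ∈ Q, φ a x ∈ Q) {a : A} (ha : a ∈ aStab Q χ) {x : M} (hx : x ∈ Q) :
    wVal Q χ (φ a x) = wVal Q χ x := by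
  have := wRes_apply_act hQ (mem_aStab.1 ha) ⟨x, hx⟩
  rwa [wRes_eq_wVal, wRes_eq_wVal] at this

theorem wVal_eq_one_of_pow [Finite M] {x : M} (hx : x ∈ Q) {m : ℕ} (hm : m.Coprime (Nat.card Q))
    (h : wVal Q χ x ^ m = 1) : wVal Q χ x = 1 := by
  have := eq_one_of_pow_eq_one_of_coprime (wRes Q χ) ⟨x, hx⟩ hm (by rw [wRes_eq_wVal]; exact h)
  rwa [wRes_eq_wVal] at this

variable {E : Type*} [AddCommGroup E] [Module k E] (ρ : M ⋊[φ] A →* Module.End k E)

theorem apply_eq_wVal_smul {v : E} (hv : v ∈ weightSpace ρ (Q.map inl) χ) {x : M} (hx : x ∈ Q) :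
    ρ (inl x) v = wVal Q χ x • v := by
  rw [wVal_of_mem hx]
  exact hv ⟨inl x, mem_map_of_mem _ hx⟩

end Values

section Restricted

variable {Γ : Type*} [Group Γ] {k : Type*} [Field k] {E : Type*} [AddCommGroup E] [Module k E]
  (ρ : Γ →* Module.End k E) (W : Submodule k E)

/-- The elements mapping `W` onto itself. -/
def presSub : Subgroup Γ where
  carrier := {g | (∀ w ∈ W, ρ g w ∈ W) ∧ ∀ w ∈ W, ρ g⁻¹ w ∈ W}
  one_mem' := ⟨fun w hw => by rwa [apply_one], fun w hw => by rwa [inv_one, apply_one]⟩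
  mul_mem' := fun {g h} hg hh => ⟨fun w hw => by rw [apply_mul]; exact hg.1 _ (hh.1 w hw),
    fun w hw => by rw [mul_inv_rev, apply_mul]; exact hh.2 _ (hg.2 w hw)⟩
  inv_mem' := fun {g} hg => ⟨hg.2, fun w hw => by rw [inv_inv]; exact hg.1 w hw⟩

/-- The representation on `W` of its stabiliser. -/
def resRep : presSub ρ W →* Module.End k W where
  toFun g := (ρ g).restrict g.2.1
  map_one' := LinearMap.ext fun w => Subtype.ext (apply_one ρ (w : E))
  map_mul' g h := LinearMap.ext fun w => Subtype.ext (apply_mul ρ _ _ (w : E))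

theorem coe_resRep_apply (g : presSub ρ W) (w : W) : ((resRep ρ W g w : W) : E) = ρ g (w : E) :=
  rfl

end Restricted

section Class

variable {M : Type*} [Group M]

/-- The subgroup before the last non-trivial term of the lower central series. -/
theorem exists_before_last_commutator {Q : Subgroup M} (hQ : Group.IsNilpotent Q)
    (hne : ⁅Q, Q⁆ ≠ ⊥) :
    ∃ Y : Subgroup M, Y ≤ Q ∧ Q ≤ normalizer (Y : Set M) ∧ ⁅Y, Q⁆ ≠ ⊥ ∧ ⁅Y, Q⁆ ≤ Y ∧
      ⁅Y, Q⁆ ≤ centralizer (Q : Set M) ∧ ⁅Y, ⁅Q, Q⁆⁆ = ⊥ ∧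
      ∀ f : M →* M, Q.map f = Q → Y.map f = Y := by
  classical
  have hex : ∃ m, Q.lowerCentralSeries m = ⊥ := by
    obtain ⟨m, hm⟩ := Subgroup.nilpotent_iff_lowerCentralSeries.1 hQ
    exact ⟨m, by rw [← Subgroup.top_subtype_lowerCentralSeries, hm, Subgroup.map_bot]⟩
  have h2 : 2 ≤ Nat.find hex := by
    refine (Nat.le_find_iff hex 2).2 fun m hm h => hne ?_
    interval_cases m
    · rw [Subgroup.lowerCentralSeries_zero] at h
      rw [h, commutator_bot_left]
    · exact h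
  obtain ⟨n, hn⟩ : ∃ n, Nat.find hex = n + 2 := ⟨Nat.find hex - 2, by omega⟩
  set Y := Q.lowerCentralSeries n
  have hYQ : Y ≤ Q := Q.lowerCentralSeries_antitone (Nat.zero_le n)
  have hZ : ⁅Y, Q⁆ ≠ ⊥ := Nat.find_min hex (show n + 1 < Nat.find hex by omega)
  have hbot : ⁅⁅Y, Q⁆, Q⁆ = ⊥ := by
    have := Nat.find_spec hex
    rwa [hn] at this
  have hdesc : ⁅Y, Q⁆ ≤ Y := Q.lowerCentralSeries_antitone (Nat.le_succ n)
  refine ⟨Y, hYQ, le_normalizer_iff_commutator_le_left.2 hdesc, hZ, hdesc, ?_, ?_, ?_⟩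
  · exact commutator_eq_bot_iff_le_centralizer.1 hbot
  · rw [commutator_comm]
    exact commutator_commutator_eq_bot_of_rotate (by rw [commutator_comm Q Y]; exact hbot) hbot
  · intro f hf
    have : ∀ i, (Q.lowerCentralSeries i).map f = Q.lowerCentralSeries i := by
      intro i
      induction i with
      | zero => exact hf
      | succ i ih => rw [Subgroup.lowerCentralSeries_succ, map_commutator, ih, hf]
    exact this n

end Class

end Cfsg.Agent.FittingHeight
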