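import Cfsg.Agent.Lib.FittingHeight.CyclicPairing
import Cfsg.Agent.Lib.FittingHeight.Tools
import Cfsg.Agent.Lib.FittingHeight.WeightValues
import Cfsg.Agent.Lib.FittingHeight.TwistedAlgebra
import Cfsg.Agent.Lib.HallHigman.Twisted

/-!
# A cyclic fixed-point-free group of odd prime power order on a linear configuration

`A = ⟨s⟩` of order `p ^ n` acts without fixed points on `M` and on `E`, `M` acting faithfully. Then
`t = s ^ p ^ (n - 1)` centralises every invariant `q`-subgroup of `M`, `q` invertible in `k`.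
-/

set_option linter.style.haveILetI false
set_option linter.unusedSectionVars false

namespace Cfsg.Agent.FittingHeight

open Subgroup SemidirectProduct
open scoped commutatorElement

section Cyclic

variable {A : Type*} [CommGroup A] [Fintype A] {p n : ℕ} {s : A}

theorem exists_eq_zpowers_pow (hp : p.Prime) (hcard : Nat.card A = p ^ n)
    (hgen : ∀ a, a ∈ zpowers s) {H : Subgroup A} (hH : H ≠ ⊥) :
    ∃ j < n, H = zpowers (s ^ p ^ j) ∧ orderOf (s ^ p ^ j) = p ^ (n - j) := by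
  have hord : orderOf s = p ^ n := by rw [← hcard, orderOf_eq_card_of_forall_mem_zpowers hgen]
  obtain ⟨i, hin, hi⟩ := (Nat.dvd_prime_pow hp).1 (hcard ▸ card_subgroup_dvd_card H)
  have hi0 : i ≠ 0 := by
    rintro rfl
    exact hH (Subgroup.card_eq_one.1 (by simpa using hi))
  have ho : orderOf (s ^ p ^ (n - i)) = p ^ i := by
    rw [orderOf_pow' _ (pow_ne_zero _ hp.ne_zero), hord,
      Nat.gcd_eq_right (pow_dvd_pow p (Nat.sub_le n i)), Nat.pow_div (Nat.sub_le n i) hp.pos,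
      Nat.sub_sub_self hin]
  refine ⟨n - i, by omega, Subgroup.eq_of_le_of_card_ge (fun x hx => ?_) ?_,
    by rw [ho, Nat.sub_sub_self hin]⟩
  ·
    obtain ⟨e, rfl⟩ := mem_powers_iff_mem_zpowers.2 (hgen x)
    have h1 : (s ^ e) ^ p ^ i = 1 :=
      orderOf_dvd_iff_pow_eq_one.1 (hi ▸ orderOf_dvd_natCard H hx)
    rw [← pow_mul, ← orderOf_dvd_iff_pow_eq_one, hord,
      show n = (n - i) + i by omega, pow_add] at h1
    obtain ⟨c, hc⟩ := Nat.dvd_of_mul_dvd_mul_right (pow_pos hp.pos i) h1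
    show s ^ e ∈ _
    rw [hc, pow_mul]
    exact pow_mem (mem_zpowers _) c
  · rw [Nat.card_zpowers, ho, hi]

theorem tau_mem_of_ne_bot (hp : p.Prime) (hcard : Nat.card A = p ^ n)
    (hgen : ∀ a, a ∈ zpowers s) {H : Subgroup A} (hH : H ≠ ⊥) : s ^ p ^ (n - 1) ∈ H := by
  obtain ⟨j, hj, rfl, -⟩ := exists_eq_zpowers_pow hp hcard hgen hH
  rw [show n - 1 = j + (n - 1 - j) by omega, pow_add, pow_mul]
  exact pow_mem (mem_zpowers _) _

end Cyclic

variable {M : Type*} [Group M] [Finite M] {A : Type*} [CommGroup A] [Fintype A] {φ : A →* MulAut M}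
  {k : Type*} [Field k] [IsAlgClosed k] {E : Type*} [AddCommGroup E] [Module k E]
  [FiniteDimensional k E] (ρ : M ⋊[φ] A →* Module.End k E) {p n : ℕ} {s : A}

include ρ in
theorem centralizes_of_cyclic (hp : p.Prime) (hp2 : p ≠ 2) (hn : n ≠ 0)
    (hcard : Nat.card A = p ^ n) (hgen : ∀ a, a ∈ zpowers s) (hfix : Coprime.fixedBy φ = ⊥)
    (hAk : (Nat.card A : k) ≠ 0) (hfaith : ∀ m : M, ρ (inl m) = 1 → m = 1)
    (hsum : ∀ v, ∑ a : A, ρ (inr a) v = 0) {q : ℕ} [hqF : Fact q.Prime] (hqp : q ≠ p)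
    (hqk : (q : k) ≠ 0) :
    ∀ (Q : Subgroup M), (∀ a, ∀ x ∈ Q, φ a x ∈ Q) → IsPGroup q Q →
      ∀ x ∈ Q, φ (s ^ p ^ (n - 1)) x = x := by
  classical
  intro Q
  induction hm : Nat.card Q using Nat.strong_induction_on generalizing Q with
  | _ m ih =>
  subst hm
  intro hQi hQq
  set t := s ^ p ^ (n - 1) with ht
  have hpF := Fact.mk hp
  have ht1 : t ≠ 1 := by
    intro h
    have := orderOf_dvd_of_pow_eq_one h
    rw [orderOf_eq_card_of_forall_mem_zpowers hgen, hcard] at this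
    have := (Nat.pow_dvd_pow_iff_le_right hp.one_lt).1 this
    omega
  have htp : ∀ x : M, (φ t)^[p] x = x := by
    intro x
    have h1 : t ^ p = 1 := by
      rw [ht, ← pow_mul, ← pow_succ, Nat.sub_add_cancel (Nat.pos_of_ne_zero hn), ← hcard,
        pow_card_eq_one']
    have h2 : ∀ i, (φ t)^[i] x = φ (t ^ i) x := by
      intro i
      induction i with
      | zero => simp
      | succ i ih => rw [Function.iterate_succ', Function.comp_apply, ih, pow_succ', map_mul,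
          MulAut.mul_apply]
    rw [h2, h1, map_one, MulAut.one_apply]
  have hproper : ∀ K : Subgroup M, K < Q → (∀ a, ∀ x ∈ K, φ a x ∈ K) → ∀ x ∈ K, φ t x = x :=
    fun K hK hKi => ih _ (lt_of_le_of_ne (card_le_of_le hK.le) fun h =>
      hK.ne (Subgroup.eq_of_le_of_card_ge hK.le h.ge)) K rfl hKi (hQq.to_le hK.le)
  by_contra hcon
  -- `Q` is generated by the `x⁻¹ t x`
  set C := Subgroup.closure ((fun x => x⁻¹ * φ t x) '' (Q : Set M)) with hC
  have hCQ : C = Q := by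
    have hle : C ≤ Q := (Subgroup.closure_le Q).2 (by
      rintro _ ⟨x, hx, rfl⟩
      exact mul_mem (inv_mem hx) (hQi t x hx))
    rcases hle.lt_or_eq with hlt | h
    · refine absurd (fun x hx => ?_) hcon
      have hCi : ∀ a, ∀ x ∈ C, φ a x ∈ C := by
        intro a x hx
        have : C.map (φ a : M →* M) ≤ C := by
          rw [hC, MonoidHom.map_closure]
          refine Subgroup.closure_mono ?_
          rintro _ ⟨_, ⟨y, hy, rfl⟩, rfl⟩
          refine ⟨φ a y, hQi a y hy, ?_⟩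
          show (φ a y)⁻¹ * φ t (φ a y) = φ a (y⁻¹ * φ t y)
          rw [map_mul, map_inv, ← MulAut.mul_apply, ← map_mul, mul_comm, map_mul, MulAut.mul_apply]
        exact this (mem_map_of_mem _ hx)
      set c := x⁻¹ * φ t x with hc
      have hcC : c ∈ C := Subgroup.subset_closure ⟨x, hx, rfl⟩
      have htc := hproper C hlt hCi c hcC
      have hit : ∀ i, (φ t)^[i] x = x * c ^ i := by
        intro i
        induction i with
        | zero => simp
        | succ i ih =>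
          rw [Function.iterate_succ', Function.comp_apply, ih, map_mul, map_pow (φ t), htc, pow_succ',
            show φ t x = x * c by rw [hc, mul_inv_cancel_left], mul_assoc]
      have h1 : c ^ p = 1 := mul_left_cancel (a := x) (by rw [← hit, htp, mul_one])
      obtain ⟨e, he⟩ := hQq ⟨c, hle hcC⟩
      have : c = 1 := by
        rw [← orderOf_eq_one_iff]
        exact Nat.eq_one_of_dvd_coprimes
          (Nat.Coprime.pow_left e ((Nat.coprime_primes hqF.out hp).2 hqp))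
          (orderOf_dvd_of_pow_eq_one (congrArg Subtype.val he)) (orderOf_dvd_of_pow_eq_one h1)
      rw [hc, inv_mul_eq_one] at this
      exact this.symm
    · exact h
  have hQne : Q ≠ ⊥ := by
    rintro rfl
    exact hcon fun x hx => by rw [mem_bot.1 hx, map_one]
  have hQk : (Nat.card Q : k) ≠ 0 := by
    obtain ⟨e, he⟩ := hQq.exists_card_eq
    rw [he, Nat.cast_pow]
    exact pow_ne_zero _ hqk
  have haStab : ∀ (L : Subgroup M) (_ : ∀ a, ∀ x ∈ L, φ a x ∈ L)
      (χ : (L.map (inl : M →* M ⋊[φ] A)) →* k) (v : E), v ≠ 0 →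
      v ∈ weightSpace ρ (L.map inl) χ → t ∈ aStab L χ := fun L hL χ v hv0 hv =>
    tau_mem_of_ne_bot hp hcard hgen (aStab_ne_bot ρ hL hv hv0 (hsum v))
  -- `Q` is not abelian
  have hnab : ¬ Q ≤ centralizer (Q : Set M) := by
    intro hab
    refine hcon fun x hx => ?_
    by_contra hne
    have hz : x⁻¹ * φ t x ∈ Q := mul_mem (inv_mem hx) (hQi t x hx)
    have hz1 : x⁻¹ * φ t x ≠ 1 := fun e => hne (inv_mul_eq_one.1 e).symm
    have : IsMulCommutative Q :=
      ⟨⟨fun a b => Subtype.ext (mem_centralizer_iff.1 (hab b.2) a a.2)⟩⟩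
    obtain ⟨χ, v, hv0, hv, hχ⟩ := exists_weight_ne_one ρ this hQk hfaith hz hz1
    apply hχ
    rw [wRes_eq_wVal]
    show wVal Q χ (x⁻¹ * φ t x) = 1
    rw [wVal_mul (inv_mem hx) (hQi t x hx), wVal_inv hx,
      wVal_act hQi (haStab Q hQi χ v hv0 hv) hx, inv_mul_cancel₀ (wVal_ne_zero hx)]
  -- invariant normal proper subgroups are central
  have hcentral : ∀ K : Subgroup M, K < Q → (∀ a, ∀ x ∈ K, φ a x ∈ K) →
      Q ≤ normalizer (K : Set M) → K ≤ centralizer (Q : Set M) := by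
    intro K hK hKi hn d hd
    have hfixK := hproper K hK hKi
    rw [← hCQ, mem_centralizer_iff]
    have hle : C ≤ centralizer ({d} : Set M) := by
      rw [hC, Subgroup.closure_le]
      rintro _ ⟨x, hx, rfl⟩
      show x⁻¹ * φ t x ∈ centralizer {d}
      rw [mem_centralizer_singleton_iff]
      have h1 := hfixK _ ((mem_normalizer_iff.1 (hn hx) d).1 hd)
      rw [map_mul, map_mul, map_inv, hfixK d hd] at h1
      calc x⁻¹ * φ t x * d = x⁻¹ * (φ t x * d * (φ t x)⁻¹) * φ t x := by group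
        _ = x⁻¹ * (x * d * x⁻¹) * φ t x := by rw [h1]
        _ = d * (x⁻¹ * φ t x) := by group
    exact fun y hy => mem_centralizer_singleton_iff.1 (hle hy)
  set Q' := ⁅Q, Q⁆ with hQ'
  have hQ'lt : Q' < Q := by
    have : Group.IsNilpotent Q := hQq.isNilpotent
    have : Group.IsSolvable Q := inferInstance
    have hne : Nontrivial Q := (nontrivial_iff_ne_bot Q).2 hQne
    have h1 := Group.IsSolvable.commutator_lt_top_of_nontrivial (G := Q)
    rw [hQ', ← map_subtype_commutator]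
    conv_rhs => rw [← range_subtype Q, MonoidHom.range_eq_map]
    exact (map_lt_map_iff_of_injective Q.subtype_injective).2 h1
  have hQ'i : ∀ a, ∀ x ∈ Q', φ a x ∈ Q' := by
    intro a x hx
    have : (⁅Q, Q⁆).map (φ a : M →* M) ≤ ⁅Q, Q⁆ := by
      rw [map_commutator]
      have : Q.map (φ a : M →* M) ≤ Q := by
        rintro _ ⟨y, hy, rfl⟩; exact hQi a y hy
      exact commutator_mono this this
    exact this (mem_map_of_mem _ hx)
  have hQ'c : Q' ≤ centralizer (Q : Set M) := hcentral Q' hQ'lt hQ'i fun g hg => by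
    rw [mem_normalizer_iff]
    have hconj : ∀ g ∈ Q, ∀ d ∈ Q', g * d * g⁻¹ ∈ Q' := fun g hg d hd => by
      have : g * d * g⁻¹ = ⁅g, d⁆ * d := by group
      rw [this]
      exact mul_mem (commutator_mem_commutator hg (hQ'lt.le hd)) hd
    refine fun d => ⟨fun hd => hconj g hg d hd, fun hd => ?_⟩
    have := hconj _ (inv_mem hg) _ hd
    rwa [show g⁻¹ * (g * d * g⁻¹) * g⁻¹⁻¹ = d by group] at this
  set Z := Q ⊓ centralizer (Q : Set M) with hZdef
  have hQ'Z : Q' ≤ Z := le_inf hQ'lt.le hQ'c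
  have hZQ : Z ≤ Q := inf_le_left
  have hZlt : Z < Q := lt_of_le_of_ne hZQ fun e => hnab (e.ge.trans inf_le_right)
  have hZi : ∀ a, ∀ x ∈ Z, φ a x ∈ Z := fun a x hx => ⟨hQi a x hx.1, mem_centralizer_iff.2 fun y hy => by
    have : φ a⁻¹ y ∈ Q := hQi _ _ hy
    have h1 := congrArg (φ a) (mem_centralizer_iff.1 hx.2 _ this)
    rwa [map_mul, map_mul, ← MulAut.mul_apply, ← map_mul, mul_inv_cancel, map_one,
      MulAut.one_apply] at h1⟩
  have hZt := hproper Z hZlt hZi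
  have hcom : ∀ x ∈ Q, ∀ y ∈ Q, ⁅x, y⁆ ∈ Z := fun x hx y hy =>
    hQ'Z (commutator_mem_commutator hx hy)
  -- a weight of `Z` non-trivial on a commutator
  have hZc : IsMulCommutative Z :=
    ⟨⟨fun a b => Subtype.ext (mem_centralizer_iff.1 b.2.2 a a.2.1)⟩⟩
  have hQ'ne : Q' ≠ ⊥ := fun e => hnab ((commutator_eq_bot_iff_le_centralizer).1 e)
  obtain ⟨⟨z₀, hz₀⟩, hz₀1⟩ := Subgroup.ne_bot_iff_exists_ne_one.1 hQ'ne
  obtain ⟨χ, v, hv0, hv, hχ⟩ := exists_weight_ne_one ρ hZc (natCard_ne_zero_of_le hQk hZQ) hfaith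
    (hQ'Z hz₀) (fun e => hz₀1 (Subtype.ext e))
  rw [wRes_eq_wVal] at hχ
  set ξ := wVal Z χ with hξ
  obtain ⟨j, hj, hH, hord⟩ :=
    exists_eq_zpowers_pow hp hcard hgen (aStab_ne_bot ρ hZi hv hv0 (hsum v))
  set h := s ^ p ^ j with hh
  have hhmem : h ∈ aStab Z χ := hH ▸ mem_zpowers h
  have htmem : t ∈ zpowers h := hH ▸ haStab Z hZi χ v hv0 hv
  set W := weightSpace ρ (Z.map inl) χ with hW
  have hWQ : ∀ x ∈ Q, ∀ w ∈ W, ρ (inl x) w ∈ W := fun x hx w hw =>
    mapsTo_weightSpace_of_commute ρ (inl_mem_centralizer (mem_centralizer_iff.2 fun y (hy : y ∈ Z) =>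
      (mem_centralizer_iff.1 hy.2 x hx).symm)) hw
  have hWh : ∀ a ∈ aStab Z χ, ∀ w ∈ W, ρ (inr a) w ∈ W := fun a ha w hw => by
    have := mapsTo_weightSpace ρ (inr_mem_normalizer hZi a) hw
    rwa [(mem_wStab_iff _).1 (mem_aStab.1 ha)] at this
  have hWscal : ∀ z ∈ Z, ∀ w ∈ W, ρ (inl z) w = ξ z • w := fun z hz w hw =>
    apply_eq_wVal_smul ρ hw hz
  have hWsum : ∀ w ∈ W, ∑ a : aStab Z χ, ρ (inr (a : A)) w = 0 := fun w hw =>
    sum_aStab_eq_zero ρ hZi hw (hsum w)
  haveI : Nontrivial W := ⟨⟨⟨v, hv⟩, 0, fun e => hv0 (congrArg Subtype.val e)⟩⟩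
  let π : Q →* Module.End k W :=
    { toFun := fun x => (ρ (inl (x : M))).restrict (hWQ x x.2)
      map_one' := LinearMap.ext fun w => Subtype.ext (by
        show ρ (inl ((1 : Q) : M)) (w : E) = w
        rw [OneMemClass.coe_one, map_one, apply_one])
      map_mul' := fun x y => LinearMap.ext fun w => Subtype.ext (by
        show ρ (inl ((x * y : Q) : M)) (w : E) = ρ (inl (x : M)) (ρ (inl (y : M)) (w : E))
        rw [Subgroup.coe_mul, map_mul, apply_mul]) }
  let S : Module.End k W := (ρ (inr h)).restrict (hWh h hhmem)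
  let ψ := restrictAct φ Q hQi
  let c : Q → Q → M := fun y x => ⁅(y : M), (x : M)⁆
  have hc : ∀ y x : Q, c y x ∈ Z := fun y x => hcom _ y.2 _ x.2
  have hπc : ∀ y x : Q, π ⁅y, x⁆ = ξ (c y x) • 1 := fun y x => LinearMap.ext fun w => Subtype.ext (by
    show ρ (inl ((⁅y, x⁆ : Q) : M)) (w : E) = ξ (c y x) • (w : E)
    exact hWscal _ (hc y x) _ w.2)
  set Z' := Z.subgroupOf Q with hZ'
  have hZ'c : Z' ≤ center Q := fun z hz => mem_center_iff.2 fun g =>
    Subtype.ext (mem_centralizer_iff.1 (show (z : M) ∈ Z from hz).2 g g.2)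
  have hcom' : ∀ y x : Q, ⁅y, x⁆ ∈ Z' := fun y x => hc y x
  let ξ' : Z' →* k :=
    { toFun := fun z => ξ ((z : Q) : M)
      map_one' := wVal_one
      map_mul' := fun a b => wVal_mul (show ((a : Q) : M) ∈ Z from a.2) b.2 }
  have hbil : ∀ y x x' : Q, ξ (c y (x * x')) = ξ (c y x) * ξ (c y x') := fun y x x' => by
    rw [← wVal_mul (hc y x) (hc y x')]
    congr 1
    show ((⁅y, x * x'⁆ : Q) : M) = ((⁅y, x⁆ * ⁅y, x'⁆ : Q) : M)
    rw [PGroup.commutator_mul_right (hZ'c (hcom' y x'))]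
  let R : Subgroup Q :=
    { carrier := {x | ∀ y, ξ (c y x) = 1}
      one_mem' := fun y => by
        show ξ ⁅(y : M), ((1 : Q) : M)⁆ = 1
        rw [OneMemClass.coe_one, commutatorElement_one_right]; exact wVal_one
      mul_mem' := fun {a b} ha hb y => by rw [hbil, ha y, hb y, mul_one]
      inv_mem' := fun {a} ha y => by
        have h1 := hbil y a a⁻¹
        rw [ha y, one_mul, mul_inv_cancel] at h1
        rw [← h1]
        show ξ ⁅(y : M), ((1 : Q) : M)⁆ = 1
        rw [OneMemClass.coe_one, commutatorElement_one_right]; exact wVal_one }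
  have hR : ∀ x, x ∈ R ↔ ∀ y, ξ' ⟨⁅y, x⁆, hcom' y x⟩ = 1 := fun x => Iff.rfl
  have hZR : Z' ≤ R := fun z hz => (hR z).2 fun y => by
    rw [← map_one ξ']; congr 1; apply Subtype.ext
    exact commutatorElement_eq_one_iff_mul_comm.2 (mem_center_iff.1 (hZ'c hz) y)
  have hRn : R.Normal := ⟨fun x hx g => by
    have : g * x * g⁻¹ = ⁅g, x⁆ * x := by group
    rw [this]; exact mul_mem (hZR (hcom' g x)) hx⟩
  have hZ'n : Z'.Normal := ⟨fun z hz g => by
    rw [mem_center_iff.1 (hZ'c hz) g, mul_inv_cancel_right]; exact hz⟩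
  have hZ'i : ∀ a, ∀ z ∈ Z', ψ a z ∈ Z' := fun a z hz => hZi a z hz
  -- fixed points modulo `Z`
  have hmin : ∀ K : Subgroup Q, Z' ≤ K → (∀ a, ∀ x ∈ K, ψ a x ∈ K) → K = Z' ∨ K = ⊤ := by
    intro K hZK hKi
    by_cases htop : K = ⊤
    · exact Or.inr htop
    left
    have hlt : K.map Q.subtype < Q := by
      conv_rhs => rw [← range_subtype Q, MonoidHom.range_eq_map]
      exact (map_lt_map_iff_of_injective Q.subtype_injective).2 (lt_top_iff_ne_top.2 htop)
    refine le_antisymm (fun x hx => ⟨x.2, hcentral _ hlt ?_ ?_ (mem_map_of_mem _ hx)⟩) hZK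
    · rintro a _ ⟨y, hy, rfl⟩
      exact ⟨ψ a y, hKi a y hy, rfl⟩
    · intro g hg
      have hcl : ∀ g ∈ Q, ∀ d ∈ K.map Q.subtype, g * d * g⁻¹ ∈ K.map Q.subtype := by
        rintro g hg _ ⟨y, hy, rfl⟩
        refine ⟨⁅(⟨g, hg⟩ : Q), y⁆ * y, mul_mem (hZK (hcom' _ _)) hy, ?_⟩
        show g * (y : M) * g⁻¹ * (y : M)⁻¹ * y = g * y * g⁻¹
        group
      refine mem_normalizer_iff.2 fun d => ⟨fun hd => hcl g hg d hd, fun hd => ?_⟩
      have := hcl _ (inv_mem hg) _ hd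
      rwa [show g⁻¹ * (g * d * g⁻¹) * g⁻¹⁻¹ = d by group] at this
  have hfree : ∀ a : A, a ≠ 1 → ∀ g : Q, g⁻¹ * ψ a g ∈ Z' → g ∈ Z' := by
    intro a ha
    let K : Subgroup Q :=
      { carrier := {g | g⁻¹ * ψ a g ∈ Z'}
        one_mem' := by simp
        mul_mem' := fun {g g'} hg hg' => by
          show (g * g')⁻¹ * ψ a (g * g') ∈ Z'
          rw [map_mul, show (g * g')⁻¹ * (ψ a g * ψ a g') =
            g'⁻¹ * (g⁻¹ * ψ a g) * g' * (g'⁻¹ * ψ a g') by group]
          refine mul_mem ?_ hg'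
          have := hZ'n.conj_mem _ hg g'⁻¹
          rwa [inv_inv] at this
        inv_mem' := fun {g} hg => by
          show (g⁻¹)⁻¹ * ψ a g⁻¹ ∈ Z'
          rw [map_inv, inv_inv, show g * (ψ a g)⁻¹ = g * (g⁻¹ * ψ a g)⁻¹ * g⁻¹ by group]
          exact hZ'n.conj_mem _ (inv_mem hg) g }
    have hK : K = Z' := by
      refine (hmin K (fun z hz => mul_mem (inv_mem hz) (hZ'i a z hz)) ?_).resolve_right fun htop => ?_
      · intro b g hg
        have h1 : ψ b (g⁻¹ * ψ a g) ∈ Z' := hZ'i b _ hg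
        show (ψ b g)⁻¹ * ψ a (ψ b g) ∈ Z'
        rwa [map_mul, map_inv, ← MulAut.mul_apply, ← map_mul, mul_comm b a, map_mul,
          MulAut.mul_apply] at h1
      -- all of `⟨a⟩`, so `t`, is trivial on `Q/Z`
      obtain ⟨e, he⟩ := mem_powers_iff_mem_zpowers.2 (tau_mem_of_ne_bot hp hcard hgen (H := zpowers a)
        (by rwa [Ne, zpowers_eq_bot]))
      replace he : a ^ e = t := he
      have hCZ : C ≤ Z := by
        rw [hC, Subgroup.closure_le]
        rintro _ ⟨x, hx, rfl⟩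
        have hx' : ∀ e, ((⟨x, hx⟩ : Q))⁻¹ * ψ (a ^ e) ⟨x, hx⟩ ∈ Z' := by
          intro e
          induction e with
          | zero => simp
          | succ e ih =>
            rw [pow_succ', map_mul, MulAut.mul_apply]
            have h1 : ψ a ((⟨x, hx⟩ : Q)⁻¹ * ψ (a ^ e) ⟨x, hx⟩) ∈ Z' := hZ'i a _ ih
            have h2 : (⟨x, hx⟩ : Q)⁻¹ * ψ a ⟨x, hx⟩ ∈ Z' := htop.ge (mem_top _)
            have := mul_mem h2 h1
            rwa [map_mul, map_inv, mul_assoc, mul_inv_cancel_left] at this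
        have := hx' e
        rw [he] at this
        exact this
      exact hZlt.ne (le_antisymm hZQ (hCQ ▸ hCZ))
    intro g hg
    exact hK.le hg
  -- `t` is semiregular on `Q/R` and on `R/Z`, and `R` is scalar
  have hinv : ∀ a ∈ aStab Z χ, ∀ z : Z', ξ' ⟨ψ a z, hZ'i a _ z.2⟩ = ξ' z := fun a ha z =>
    wVal_act hZi ha z.2
  have hRi : ∀ a ∈ aStab Z χ, ∀ x ∈ R, ψ a x ∈ R := fun a ha x hx => (hR _).2 fun y => by
    obtain ⟨y, rfl⟩ := (ψ a).surjective y
    rw [← (hR x).1 hx y, ← hinv a ha ⟨⁅y, x⁆, hcom' y x⟩]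
    congr 1; exact Subtype.ext (map_commutatorElement (ψ a) y x).symm
  have htst : t ∈ aStab Z χ := haStab Z hZi χ v hv0 hv
  let act : A →* MulAut (Q ⧸ Z') := quotAct ψ Z' hZ'i
  have hqcomm : ∀ u w : Q ⧸ Z', u * w = w * u := by
    intro u w
    induction u using QuotientGroup.induction_on with | H x => ?_
    induction w using QuotientGroup.induction_on with | H y => ?_
    rw [← QuotientGroup.mk_mul, ← QuotientGroup.mk_mul, QuotientGroup.eq,
      show (x * y)⁻¹ * (y * x) = ⁅y⁻¹, x⁻¹⁆ by group]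
    exact hcom' _ _
  have hact : ∀ u : Q ⧸ Z', act t u = u → u = 1 := by
    intro u
    induction u using QuotientGroup.induction_on with | H x => ?_
    intro hx
    exact (QuotientGroup.eq_one_iff x).2 (hfree t ht1 x (QuotientGroup.eq.1 (Eq.symm hx)))
  set Rb := R.map (QuotientGroup.mk' Z') with hRb
  have hRbi : ∀ u ∈ Rb, u⁻¹ * act t u ∈ Rb := by
    rintro _ ⟨x, hx, rfl⟩
    exact mul_mem (inv_mem ⟨x, hx, rfl⟩) ⟨ψ t x, hRi t htst x hx, rfl⟩
  let fR : Rb → Rb := fun u => ⟨(u : Q ⧸ Z')⁻¹ * act t u, hRbi _ u.2⟩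
  have hfRinj : Function.Injective fR := by
    intro u w huw
    have h1 : (u : Q ⧸ Z')⁻¹ * act t u = (w : Q ⧸ Z')⁻¹ * act t w := congrArg Subtype.val huw
    refine Subtype.ext (mul_inv_eq_one.1 (hact _ ?_))
    rw [map_mul, map_inv]
    calc act t u * (act t w)⁻¹ = (u : Q ⧸ Z') * ((u : Q ⧸ Z')⁻¹ * act t u) * (act t w)⁻¹ := by group
      _ = (u : Q ⧸ Z') * (w : Q ⧸ Z')⁻¹ := by rw [h1]; group
  have hdec : ∀ r : R, ∃ r₀ : R, ((r₀ : Q)⁻¹ * ψ t r₀)⁻¹ * r ∈ Z' := by
    intro r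
    obtain ⟨⟨_, x, hx, rfl⟩, hu⟩ := (Finite.injective_iff_surjective.1 hfRinj)
      ⟨QuotientGroup.mk' Z' (r : Q), mem_map_of_mem _ r.2⟩
    have h1 : (((x : Q)⁻¹ * ψ t x : Q) : Q ⧸ Z') = ((r : Q) : Q ⧸ Z') := congrArg Subtype.val hu
    exact ⟨⟨x, hx⟩, QuotientGroup.eq.1 h1⟩
  have hfreeR : ∀ a : A, a ≠ 1 → a ∈ aStab Z χ → ∀ g : Q, g⁻¹ * ψ a g ∈ R → g ∈ R := by
    intro a ha hast g hg
    -- reduce to `t`
    obtain ⟨e, he⟩ := mem_powers_iff_mem_zpowers.2 (tau_mem_of_ne_bot hp hcard hgen (H := zpowers a)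
      (by rwa [Ne, zpowers_eq_bot]))
    replace he : a ^ e = t := he
    have hgt : ∀ e, g⁻¹ * ψ (a ^ e) g ∈ R := by
      intro e
      induction e with
      | zero => simp
      | succ e ih =>
        rw [pow_succ', map_mul, MulAut.mul_apply]
        have h1 : ψ a (g⁻¹ * ψ (a ^ e) g) ∈ R := hRi a hast _ ih
        have := mul_mem hg h1
        rwa [map_mul, map_inv, mul_assoc, mul_inv_cancel_left] at this
    have hgR := hgt e
    rw [he] at hgR
    obtain ⟨r₀, hr₀⟩ := hdec ⟨_, hgR⟩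
    have hmem : g * (r₀ : Q)⁻¹ ∈ Z' := by
      refine hfree t ht1 _ ?_
      have h1 : ((r₀ : Q)⁻¹ * ψ t r₀)⁻¹ * (g⁻¹ * ψ t g) ∈ Z' := hr₀
      rw [map_mul, map_inv]
      have h2 := hcom' ((r₀ : Q) * g⁻¹ * ψ t g) (ψ t r₀)⁻¹
      have : (g * (r₀ : Q)⁻¹)⁻¹ * (ψ t g * (ψ t r₀)⁻¹) =
          ⁅(r₀ : Q) * g⁻¹ * ψ t g, (ψ t r₀)⁻¹⁆ * ((ψ t r₀)⁻¹ * ((r₀ : Q) * g⁻¹ * ψ t g)) := by
        group
      rw [this]
      refine mul_mem h2 ?_
      rwa [show (ψ t r₀)⁻¹ * ((r₀ : Q) * g⁻¹ * ψ t g) =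
        ((r₀ : Q)⁻¹ * ψ t r₀)⁻¹ * (g⁻¹ * ψ t g) by group]
    have := mul_mem (hZR hmem) r₀.2
    rwa [inv_mul_cancel_right] at this
  -- `R` acts by scalars
  have hRscal : ∀ r : R, ∃ cst : k, π r = cst • 1 := by
    intro r
    obtain ⟨r₀, hr₀⟩ := hdec r
    refine ⟨ξ ((((r₀ : Q)⁻¹ * ψ t r₀)⁻¹ * r : Q) : M), ?_⟩
    set L := (R.map Q.subtype).map (inl : M →* M ⋊[φ] A) with hL
    have hRQ : R.map Q.subtype ≤ Q := map_subtype_le R
    have hRW : ∀ l ∈ L, ∀ w ∈ W, ρ l w ∈ W := by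
      rintro _ ⟨x, hx, rfl⟩ w hw
      exact hWQ x (hRQ hx) w hw
    have hRcomm : ∀ a ∈ L, ∀ b ∈ L, ∀ w ∈ W, ρ a (ρ b w) = ρ b (ρ a w) := by
      rintro _ ⟨_, ⟨a, ha, rfl⟩, rfl⟩ _ ⟨_, ⟨b, hb, rfl⟩, rfl⟩ w hw
      show ρ (inl (a : M)) (ρ (inl (b : M)) w) = ρ (inl (b : M)) (ρ (inl (a : M)) w)
      rw [← apply_mul, ← apply_mul, ← map_mul, ← map_mul]
      rw [show (a : M) * b = ⁅(a : M), (b : M)⁆ * (b * a) by group, map_mul inl, apply_mul,
        hWscal _ (hc a b) _ (hWQ _ (mul_mem b.2 a.2) w hw), show ξ ⁅(a : M), (b : M)⁆ = 1 from hb a,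
        one_smul]
    have hRk : (Nat.card L : k) ≠ 0 := natCard_map_inl_ne_zero (natCard_ne_zero_of_le hQk hRQ)
    have hd : ((r₀ : Q)⁻¹ * ψ t r₀ : Q) ∈ R := mul_mem (inv_mem r₀.2) (hRi t htst _ r₀.2)
    have hfixW : inl (((r₀ : Q)⁻¹ * ψ t r₀ : Q) : M) ∈ fixerOf ρ W := by
      refine mem_fixerOf_of_forall_weight ρ hRk hRW hRcomm (l₀ := ⟨_, mem_map_of_mem _
        (mem_map_of_mem Q.subtype hd)⟩) fun θ w hwW hw0 hw => ?_
      -- some non-trivial element of the stabiliser of `χ` fixes `θ`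
      have hN : ∀ a : aStab Z χ, (inr (a : A) : M ⋊[φ] A) ∈ normalizer (L : Set (M ⋊[φ] A)) := by
        intro a
        have hclo : ∀ a ∈ aStab Z χ, ∀ l ∈ L, inr a * l * (inr a)⁻¹ ∈ L := by
          rintro a ha _ ⟨_, ⟨x, hx, rfl⟩, rfl⟩
          exact ⟨_, ⟨ψ a x, hRi a ha x hx, rfl⟩, inl_apply a (x : M)⟩
        refine mem_normalizer_iff.2 fun l => ⟨hclo a a.2 l, fun hl => ?_⟩
        have := hclo _ (inv_mem a.2) _ hl
        rwa [map_inv, show (inr (a : A))⁻¹ * (inr (a : A) * l * (inr (a : A))⁻¹) *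
          ((inr (a : A))⁻¹)⁻¹ = l by group] at this
      obtain ⟨a, ha, ha1⟩ : ∃ a : aStab Z χ, (inr (a : A) : M ⋊[φ] A) ∈ wStab k L θ ∧ a ≠ 1 := by
        by_contra hno
        push Not at hno
        have h0 := sum_stab_eq_zero ρ hw (fun a : aStab Z χ => (inr (a : A) : M ⋊[φ] A)) hN
          (hWsum w hwW) {1} (fun a => by
            simp only [Finset.mem_singleton]
            refine ⟨?_, hno a⟩
            rintro rfl
            simp [one_mem])
        rw [Finset.sum_singleton, OneMemClass.coe_one, map_one, apply_one] at h0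
        exact hw0 h0
      obtain ⟨e, he⟩ := mem_powers_iff_mem_zpowers.2 (tau_mem_of_ne_bot hp hcard hgen
        (H := zpowers (a : A)) (by rw [Ne, zpowers_eq_bot]; exact fun e => ha1 (Subtype.ext e)))
      have htw : (inr t : M ⋊[φ] A) ∈ wStab k L θ := by
        rw [← show (a : A) ^ e = t from he, map_pow]
        exact pow_mem ha e
      have hr0L : inl ((r₀ : Q) : M) ∈ L := mem_map_of_mem _ (mem_map_of_mem Q.subtype r₀.2)
      have h1 := apply_eq_of_mem_wStab htw ⟨_, hr0L⟩ (by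
        rw [← inl_apply]
        exact mem_map_of_mem _ ⟨ψ t r₀, hRi t htst _ r₀.2, rfl⟩)
      have hsplit : (⟨_, mem_map_of_mem (inl : M →* M ⋊[φ] A) (mem_map_of_mem Q.subtype hd)⟩ : L) =
          (⟨_, hr0L⟩ : L)⁻¹ * ⟨inr t * inl ((r₀ : Q) : M) * (inr t)⁻¹, by
            rw [← inl_apply]
            exact mem_map_of_mem _ ⟨ψ t r₀, hRi t htst _ r₀.2, rfl⟩⟩ := by
        apply Subtype.ext
        show inl (((r₀ : Q) : M)⁻¹ * φ t ((r₀ : Q) : M)) =
          (inl ((r₀ : Q) : M))⁻¹ * (inr t * inl ((r₀ : Q) : M) * (inr t)⁻¹)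
        rw [map_mul, map_inv, inl_apply]
      rw [hsplit, map_mul, h1, ← map_mul, inv_mul_cancel, map_one]
    refine LinearMap.ext fun w => Subtype.ext ?_
    show ρ (inl ((r : Q) : M)) (w : E) = _ • (w : E)
    have hsplit : ((r : Q) : M) = (((r₀ : Q)⁻¹ * ψ t r₀ : Q) : M) *
        ((((r₀ : Q)⁻¹ * ψ t r₀)⁻¹ * r : Q) : M) := by
      rw [← Subgroup.coe_mul, mul_inv_cancel_left]
    conv_lhs => rw [hsplit]
    rw [map_mul, apply_mul]
    refine (congrArg _ (hWscal _ hr₀ _ w.2)).trans ?_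
    rw [map_smul]
    exact congrArg _ (hfixW _ w.2)
  choose lam₀ hlam₀ using hRscal
  have hone : ∀ {a b : k}, a • (1 : Module.End k W) = b • 1 → a = b := fun e =>
    smul_left_injective k (one_ne_zero (α := Module.End k W)) e
  let lam : R →* k :=
    { toFun := lam₀
      map_one' := hone (by rw [← hlam₀, one_smul]; exact map_one π)
      map_mul' := fun a b => hone (by
        rw [← hlam₀, Subgroup.coe_mul, map_mul, hlam₀, hlam₀, smul_mul_smul_comm, one_mul]) }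
  have hlamc : ∀ y x : Q, lam ⟨⁅y, x⁆, hZR (hcom' y x)⟩ = ξ' ⟨⁅y, x⁆, hcom' y x⟩ := fun y x =>
    hone (by show lam₀ _ • 1 = ξ (c y x) • 1; rw [← hlam₀]; exact hπc y x)
  -- the scalar subgroup is `R`
  have hRS : scalarSub π = R := by
    refine le_antisymm (fun x hx => (hR x).2 fun y => ?_) fun x hx => ⟨_, hlam₀ ⟨x, hx⟩⟩
    obtain ⟨a, ha⟩ := hx
    refine hone ((hπc y x).symm.trans ?_)
    rw [one_smul, commutatorElement_def, map_mul, map_mul, map_mul, ha]
    rw [show π y * (a • 1 : Module.End k W) = a • 1 * π y by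
      rw [smul_mul_assoc, mul_smul_comm, one_mul, mul_one], mul_assoc (a • 1 : Module.End k W),
      ← map_mul, mul_inv_cancel, map_one, mul_one, ← ha, ← map_mul, mul_inv_cancel, map_one]
  have hcomm : ∀ x y : Q, π x * π y = ξ (c x y) • (π y * π x) := fun x y => by
    rw [← map_mul, ← map_mul, show x * y = ⁅x, y⁆ * (y * x) by group, map_mul, hπc,
      smul_mul_assoc, one_mul]
  obtain ⟨m₀, hm₀, -⟩ := exists_matrix (π := π) (fun x y => ⟨_, hcomm x y⟩) (fun x hx => by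
    rw [hRS]
    refine (hR x).2 fun y => hone ((hπc y x).symm.trans ?_)
    rw [one_smul, commutatorElement_def, map_mul, map_mul, map_mul, ← hx y, mul_assoc (π x),
      ← map_mul π y, mul_inv_cancel, map_one, mul_one, ← map_mul, mul_inv_cancel, map_one])
  rw [hRS] at hm₀
  have hRtop : R ≠ ⊤ := by
    intro htop
    apply hχ
    have : ∀ x ∈ Q', x ∈ Z ∧ ξ x = 1 := by
      intro x hx
      let T : Subgroup M :=
        { carrier := {x | x ∈ Z ∧ ξ x = 1}
          one_mem' := ⟨one_mem _, wVal_one⟩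
          mul_mem' := fun {a b} ha hb => ⟨mul_mem ha.1 hb.1, by rw [hξ, wVal_mul ha.1 hb.1, ← hξ, ha.2, hb.2, mul_one]⟩
          inv_mem' := fun {a} ha => ⟨inv_mem ha.1, by rw [hξ, wVal_inv ha.1, ← hξ, ha.2, inv_one]⟩ }
      have hle : Q' ≤ T := commutator_le.2 fun a ha b hb =>
        ⟨hcom a ha b hb, htop.ge (mem_top (⟨b, hb⟩ : Q)) ⟨a, ha⟩⟩
      exact hle hx
    exact (this z₀ hz₀).2
  -- the bound
  have hrk : ((p ^ (n - j) : ℕ) : k) ≠ 0 := by
    intro h0
    apply hAk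
    rw [hcard, show n = (n - j) + j by omega, pow_add, Nat.cast_mul, h0, zero_mul]
  haveI : NeZero ((p ^ (n - j) : ℕ) : k) := ⟨hrk⟩
  obtain ⟨ζ, hζ⟩ := HasEnoughRootsOfUnity.exists_primitiveRoot k (p ^ (n - j))
  have hSpow : ∀ (e : ℕ) (w : W), (((S ^ e) w : W) : E) = ρ (inr (h ^ e)) (w : E) := by
    intro e
    induction e with
    | zero => intro w; simp
    | succ e ih =>
      intro w
      rw [pow_succ', Module.End.mul_apply, pow_succ', map_mul, apply_mul, ← ih]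
      rfl
  have hσord : orderOf (ψ h) = p ^ (n - j) := by
    refine Nat.dvd_antisymm (hord ▸ orderOf_map_dvd ψ h) ?_
    rw [← hord]
    refine orderOf_dvd_of_pow_eq_one ?_
    by_contra hne
    have h1 : ψ (h ^ orderOf (ψ h)) = 1 := by rw [map_pow, pow_orderOf_eq_one]
    apply hRtop
    refine top_le_iff.1 fun g _ => hfreeR _ hne (pow_mem hhmem _) g ?_
    rw [h1, MulAut.one_apply, inv_mul_cancel]
    exact one_mem R
  obtain ⟨hbound, hdvd⟩ := HallHigman.index_le_sq_of_scalar (r := p ^ (n - j))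
    (pow_pos hp.pos _) (by exact hQk) hrk hζ π R lam (fun z => hlam₀ z)
    (fun a b => hZ'c (hcom' a b)) (fun a b => hZR (hcom' a b))
    (fun g hg => (hR g).2 fun y => (hlamc y g).symm.trans (hg y))
    (ψ h) hσord
    (by
      refine Subgroup.eq_of_le_of_card_ge (by rintro _ ⟨x, hx, rfl⟩; exact hRi h hhmem x hx) ?_
      rw [card_map_of_injective (ψ h).injective])
    (fun z hz => hone (by
      show lam₀ _ • 1 = lam₀ z • 1
      rw [← hlam₀, ← hlam₀]
      refine LinearMap.ext fun w => Subtype.ext ?_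
      show ρ (inl (φ h ((z : Q) : M))) (w : E) = ρ (inl ((z : Q) : M)) (w : E)
      have hwz : ∀ u : W, ρ (inl ((z : Q) : M)) (u : E) = lam₀ z • (u : E) := fun u =>
        congrArg Subtype.val (LinearMap.congr_fun (hlam₀ z) u)
      rw [inl_apply, apply_mul, apply_mul, ← map_inv inr]
      rw [show ρ (inr h⁻¹) (w : E) = ((⟨_, hWh _ (inv_mem hhmem) _ w.2⟩ : W) : E) from rfl, hwz,
        map_smul, hwz, ← apply_mul, ← map_mul, mul_inv_cancel, map_one, apply_one]))
    (fun a ha ha1 g hg => by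
      obtain ⟨e, rfl⟩ := mem_powers_iff_mem_zpowers.2 ha
      have hne : h ^ e ≠ 1 := fun h0 => ha1 (by
        show ψ h ^ e = 1
        rw [← map_pow, h0, map_one])
      refine hfreeR (h ^ e) hne (pow_mem hhmem e) g ?_
      have hg' : ψ (h ^ e) g * g⁻¹ ∈ R := by rw [map_pow]; exact hg
      have := hRn.conj_mem _ hg' g⁻¹
      rwa [show g⁻¹ * (ψ (h ^ e) g * g⁻¹) * g⁻¹⁻¹ = g⁻¹ * ψ (h ^ e) g by group] at this)
    S
    (LinearMap.ext fun w => Subtype.ext (by
      rw [hSpow, ← hord, pow_orderOf_eq_one, map_one, apply_one]; rfl))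
    (fun g => LinearMap.ext fun w => Subtype.ext (by
      show ρ (inr h) (ρ (inl (g : M)) (w : E)) = ρ (inl (φ h (g : M))) (ρ (inr h) (w : E))
      rw [inl_apply, ← apply_mul, ← apply_mul, inv_mul_cancel_right]))
    (fun w hw => by
      have hfixa : ∀ a : aStab Z χ, ρ (inr (a : A)) (w : E) = w := by
        intro a
        obtain ⟨e, he⟩ := mem_powers_iff_mem_zpowers.2 (hH.le a.2)
        rw [← show h ^ e = (a : A) from he, ← hSpow]
        congr 1
        clear he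
        induction e with
        | zero => simp
        | succ e ih => rw [pow_succ, Module.End.mul_apply, hw, ih]
      have h0 := hWsum w w.2
      simp only [hfixa, Finset.sum_const, Finset.card_univ] at h0
      rw [← Nat.cast_smul_eq_nsmul k, smul_eq_zero, ← Nat.card_eq_fintype_card, hH,
        Nat.card_zpowers, hord] at h0
      exact Subtype.ext (h0.resolve_left hrk))
  -- arithmetic
  have hm1 : 1 < m₀ := by
    by_contra hle
    apply hRtop
    rw [← Subgroup.index_eq_one, ← hm₀]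
    have : R.index ≠ 0 := Subgroup.index_ne_zero_of_finite
    interval_cases m₀ <;> omega
  obtain ⟨e, he⟩ := hQq.exists_card_eq
  obtain ⟨a, -, ha⟩ : ∃ a ≤ e, m₀ = q ^ a := (Nat.dvd_prime_pow hqF.out).1
    ((dvd_mul_right m₀ m₀).trans (hm₀ ▸ he ▸ R.index_dvd_card))
  rw [← hm₀, ← pow_two] at hbound hdvd
  have hmle : m₀ ≤ p ^ (n - j) - 1 := (Nat.pow_le_pow_iff_left two_ne_zero).1 hbound
  have hm2 : p ^ (n - j) ∣ (m₀ + 1) * (m₀ - 1) := by
    rwa [← Nat.sq_sub_sq, one_pow]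
  have hrodd : ∀ e, p ^ e ∣ (m₀ + 1) * (m₀ - 1) → p ^ e ∣ m₀ + 1 ∨ p ^ e ∣ m₀ - 1 := by
    intro e he
    by_cases h1 : p ∣ m₀ + 1
    · left
      refine (Nat.Coprime.dvd_of_dvd_mul_right ?_ he)
      refine (hp.coprime_iff_not_dvd.2 fun h2 => hp2 ?_).pow_left e
      have := Nat.dvd_sub h1 h2
      rw [show m₀ + 1 - (m₀ - 1) = 2 by omega] at this
      exact (Nat.prime_dvd_prime_iff_eq hp Nat.prime_two).1 this
    · right
      exact ((hp.coprime_iff_not_dvd.2 h1).pow_left e).dvd_of_dvd_mul_left he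
  have hr : p ^ (n - j) = m₀ + 1 := by
    have hpos : 0 < p ^ (n - j) := pow_pos hp.pos _
    rcases hrodd _ hm2 with h1 | h1
    · have := Nat.le_of_dvd (by omega) h1
      omega
    · have := Nat.le_of_dvd (by omega) h1
      omega
  have hq2 : q = 2 := by
    by_contra hne
    have h1 : Odd m₀ := ha ▸ (hqF.out.odd_of_ne_two hne).pow
    have h2 : Odd (p ^ (n - j)) := (hp.odd_of_ne_two hp2).pow
    rw [hr] at h2
    exact (Nat.not_even_iff_odd.2 h2) h1.add_one
  subst hq2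
  refine hRtop (pairing_trivial hp hp2 hcard hgen ψ ?_ hQq Z' hZ'c hZ'i hcom' hfree hmin ξ' hj
    (fun z => hinv h hhmem z) R hR (a := a) ?_ (ha ▸ hr))
  · rw [Subgroup.eq_bot_iff_forall]
    intro x hx
    have : (x : M) ∈ Coprime.fixedBy φ := fun b => congrArg Subtype.val (hx b)
    rw [hfix, mem_bot] at this
    exact Subtype.ext this
  · rw [← hm₀, ha, ← pow_add, two_mul]

end Cfsg.Agent.FittingHeight
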