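import Cfsg.Agent.Lib.Coprime.Action
import Cfsg.Agent.Lib.Components.Fitting
import Cfsg.Agent.Lib.Solvable.Basic
import Cfsg.Agent.Lib.PCore.Basic
import Cfsg.Agent.Lib.PGroup.Frattini
import Mathlib.FieldTheory.IsAlgClosed.AlgebraicClosure
import Mathlib.LinearAlgebra.Matrix.ToLin
import Mathlib.Algebra.Module.ZMod

/-!
# Reduction for bounds on the Fitting height under fixed-point-free coprime action

`HasHeight c G`: some `γ_n(G)` with `c n` lies in `F(G)`. If `A` acts coprimely and without fixed
points on the solvable group `G`, then `HasHeight c G` as soon as it holds in the linear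
configuration `CoreProp A c`: `M = G/V` acting faithfully on the elementary abelian group `V`, viewed
over an algebraically closed field.
-/

namespace Cfsg.Agent.FittingHeight

open Subgroup
open scoped IsMulCommutative

universe u

/-- Some `γ_n(G)` with `c n` lies in the Fitting subgroup. -/
def HasHeight (c : ℕ → Prop) (G : Type*) [Group G] : Prop :=
  ∃ n, c n ∧ (⊤ : Subgroup G).lowerCentralSeries n ≤ fittingSubgroup G

/-- The linear configuration. -/
def CoreProp (A : Type*) [Group A] [Fintype A] (c : ℕ → Prop) : Prop :=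
  ∀ (M : Type u) [Group M] [Finite M] [Group.IsSolvable M] (φ : A →* MulAut M) (r : ℕ) (k : Type)
    [Field k] [IsAlgClosed k] (d : ℕ)
    (ρ : SemidirectProduct M A φ →* Module.End k (Fin d → k)),
    r.Prime → CharP k r → (Nat.card A).Coprime (Nat.card M) → ((Nat.card A : ℕ) : k) ≠ 0 →
    Coprime.fixedBy φ = ⊥ →
    (∀ m : M, ρ (SemidirectProduct.inl m) = 1 → m = 1) →
    (∀ v, ∑ a : A, ρ (SemidirectProduct.inr a) v = 0) →
    (∀ N : Subgroup M, N.Normal → (∀ a, ∀ x ∈ N, φ a x ∈ N) → IsPGroup r N → N = ⊥) →
    HasHeight c M → ∃ n, c n ∧ (⊤ : Subgroup M).lowerCentralSeries n = ⊥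

section Tools

variable {G : Type*} [Group G] {A : Type*} [Group A] (φ : A →* MulAut G)

theorem apply_mem_of_characteristic {C : Subgroup G} [hC : C.Characteristic] (a : A) {x : G}
    (hx : x ∈ C) : φ a x ∈ C := by
  have := characteristic_iff_map_eq.1 hC (φ a)
  rw [← this]
  exact mem_map_of_mem _ hx

theorem map_eq_of_invariant {N : Subgroup G} (hN : ∀ a, ∀ x ∈ N, φ a x ∈ N) (a : A) :
    N.map (φ a : G →* G) = N := by
  refine le_antisymm ?_ fun x hx => ⟨φ a⁻¹ x, hN _ x hx, ?_⟩
  · rintro _ ⟨x, hx, rfl⟩
    exact hN a x hx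
  · show φ a (φ a⁻¹ x) = x
    rw [← MulAut.mul_apply, ← map_mul, mul_inv_cancel, map_one, MulAut.one_apply]

/-- The action on a quotient by an invariant normal subgroup. -/
def quotAct (N : Subgroup G) [N.Normal] (hN : ∀ a, ∀ x ∈ N, φ a x ∈ N) :
    A →* MulAut (G ⧸ N) where
  toFun a := QuotientGroup.congr N N (φ a) (map_eq_of_invariant φ hN a)
  map_one' := MulEquiv.ext fun q => by
    induction q using QuotientGroup.induction_on with | _ g => ?_
    rw [QuotientGroup.congr_mk, map_one, MulAut.one_apply, MulAut.one_apply]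
  map_mul' a b := MulEquiv.ext fun q => by
    induction q using QuotientGroup.induction_on with | _ g => ?_
    rw [MulAut.mul_apply, QuotientGroup.congr_mk, QuotientGroup.congr_mk, QuotientGroup.congr_mk,
      map_mul, MulAut.mul_apply]

theorem quotAct_mk (N : Subgroup G) [N.Normal] (hN : ∀ a, ∀ x ∈ N, φ a x ∈ N) (a : A) (g : G) :
    quotAct φ N hN a (g : G ⧸ N) = ((φ a g : G) : G ⧸ N) := rfl

theorem fixedBy_quotAct [Finite G] [Finite A] (N : Subgroup G) [N.Normal]
    (hN : ∀ a, ∀ x ∈ N, φ a x ∈ N) (hcop : (Nat.card A).Coprime (Nat.card G))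
    (hs : Group.IsSolvable A) (hfix : Coprime.fixedBy φ = ⊥) :
    Coprime.fixedBy (quotAct φ N hN) = ⊥ := by
  rw [Subgroup.eq_bot_iff_forall]
  intro q hq
  induction q using QuotientGroup.induction_on with | _ g => ?_
  have h := fun a => hq a
  obtain ⟨n, hn, hgn⟩ := Coprime.exists_fixed_mul_mem_hom φ hN
    (hcop.coprime_dvd_right (card_subgroup_dvd_card N)) (Or.inl hs) (k := g) fun a => by
      have h1 := hq a
      rw [quotAct_mk] at h1
      exact QuotientGroup.eq.1 h1.symm
  rw [hfix, mem_bot, mul_eq_one_iff_eq_inv] at hgn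
  exact (QuotientGroup.eq_one_iff g).2 (hgn ▸ inv_mem hn)

theorem map_top_lowerCentralSeries {H : Type*} [Group H] (f : G →* H) (hf : Function.Surjective f)
    (n : ℕ) : ((⊤ : Subgroup G).lowerCentralSeries n).map f =
      (⊤ : Subgroup H).lowerCentralSeries n := by
  rw [map_lowerCentralSeries, map_top_of_surjective f hf]

end Tools

private theorem endRepresentation_aux {V : Type*} [AddCommGroup V] [Finite V] (r : ℕ)
    [Fact r.Prime] [Module (ZMod r) V] :
    ∃ (d : ℕ) (L : AddMonoid.End V →+* Module.End (AlgebraicClosure (ZMod r))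
        (Fin d → AlgebraicClosure (ZMod r))), Function.Injective L := by
  have hfin : Module.Finite (ZMod r) V := Module.Finite.of_finite
  let b := Module.finBasis (ZMod r) V
  let lin : AddMonoid.End V →+* Module.End (ZMod r) V :=
    { toFun := fun e => AddMonoidHom.toZModLinearMap r e
      map_one' := LinearMap.ext fun x => rfl
      map_mul' := fun e e' => LinearMap.ext fun x => rfl
      map_zero' := LinearMap.ext fun x => rfl
      map_add' := fun e e' => LinearMap.ext fun x => rfl }
  let Θ : Module.End (ZMod r) V →+* Module.End (AlgebraicClosure (ZMod r))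
      (Fin (Module.finrank (ZMod r) V) → AlgebraicClosure (ZMod r)) :=
    (Matrix.toLinAlgEquiv' (R := AlgebraicClosure (ZMod r))).toRingEquiv.toRingHom.comp
      (((algebraMap (ZMod r) (AlgebraicClosure (ZMod r))).mapMatrix).comp
        (LinearMap.toMatrixAlgEquiv b).toRingEquiv.toRingHom)
  have hΘ : Function.Injective Θ := fun x y h => by
    apply (LinearMap.toMatrixAlgEquiv b).injective
    exact Matrix.map_injective (algebraMap (ZMod r) (AlgebraicClosure (ZMod r))).injective
      ((Matrix.toLinAlgEquiv' (R := AlgebraicClosure (ZMod r))).injective h)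
  have hlin : Function.Injective lin := fun e e' h =>
    AddMonoidHom.ext fun x => LinearMap.congr_fun h x
  exact ⟨_, Θ.comp lin, hΘ.comp hlin⟩

/-- The endomorphisms of a finite group of exponent `r` as matrices over an algebraically closed
field. -/
theorem exists_endRepresentation {V : Type*} [AddCommGroup V] [Finite V] (r : ℕ) [Fact r.Prime]
    (hexp : ∀ x : V, r • x = 0) :
    ∃ (d : ℕ) (L : AddMonoid.End V →+* Module.End (AlgebraicClosure (ZMod r))
        (Fin d → AlgebraicClosure (ZMod r))), Function.Injective L :=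
  @endRepresentation_aux V _ _ r _ (AddCommGroup.zmodModule hexp)

private theorem hasHeight_aux {A : Type*} [Group A] [Fintype A] (hA : Group.IsSolvable A)
    {c : ℕ → Prop} (hc0 : ∃ n, c n) (hmax : ∀ a b, c a → c b → c (max a b))
    (core : CoreProp.{u} A c) : ∀ (n : ℕ) (G : Type u) [Group G] [Finite G] [Group.IsSolvable G],
    Nat.card G = n → ∀ φ : A →* MulAut G, (Nat.card A).Coprime (Nat.card G) →
    Coprime.fixedBy φ = ⊥ → HasHeight c G := by
  intro n
  induction n using Nat.strong_induction_on with
  | _ n ih =>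
    intro G _ _ _ hn φ hcop hfix
    rcases subsingleton_or_nontrivial G with _ | _
    · obtain ⟨m, hm⟩ := hc0
      exact ⟨m, hm, fun x _ => by rw [Subsingleton.elim x 1]; exact one_mem _⟩
    -- the induction hypothesis for a quotient
    have hquot : ∀ (N : Subgroup G) [N.Normal] (hN : ∀ a, ∀ x ∈ N, φ a x ∈ N), N ≠ ⊥ →
        HasHeight c (G ⧸ N) := by
      intro N _ hN hne
      refine ih _ ?_ (G ⧸ N) rfl (quotAct φ N hN)
        (hcop.coprime_dvd_right (card_quotient_dvd_card N)) (fixedBy_quotAct φ N hN hcop hA hfix)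
      rw [← hn, card_eq_card_quotient_mul_card_subgroup N]
      exact lt_mul_of_one_lt_right Nat.card_pos ((one_lt_card_iff_ne_bot N).2 hne)
    set F := fittingSubgroup G with hF
    have hFn : F.Normal := Components.fittingSubgroup_normal G
    have hFc : F.Characteristic := Components.fittingSubgroup_characteristic G
    have hFnil : Group.IsNilpotent F := Components.fittingSubgroup_isNilpotent G
    by_cases hsplit : ∃ N₁ N₂ : Subgroup G, N₁.Normal ∧ N₂.Normal ∧ (∀ a, ∀ x ∈ N₁, φ a x ∈ N₁) ∧
        (∀ a, ∀ x ∈ N₂, φ a x ∈ N₂) ∧ N₁ ≠ ⊥ ∧ N₂ ≠ ⊥ ∧ N₁ ⊓ N₂ = ⊥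
    · obtain ⟨N₁, N₂, hn₁, hn₂, hi₁, hi₂, h₁, h₂, h12⟩ := hsplit
      obtain ⟨a, hca, ha⟩ := hquot N₁ hi₁ h₁
      obtain ⟨b, hcb, hb⟩ := hquot N₂ hi₂ h₂
      refine ⟨max a b, hmax a b hca hcb, ?_⟩
      set F₁ := fittingSubgroup (G ⧸ N₁)
      set F₂ := fittingSubgroup (G ⧸ N₂)
      have : F₁.Normal := Components.fittingSubgroup_normal _
      have : F₂.Normal := Components.fittingSubgroup_normal _
      set X := F₁.comap (QuotientGroup.mk' N₁) ⊓ F₂.comap (QuotientGroup.mk' N₂) with hX
      have : Group.IsNilpotent F₁ := Components.fittingSubgroup_isNilpotent _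
      have : Group.IsNilpotent F₂ := Components.fittingSubgroup_isNilpotent _
      let e : X →* F₁ × F₂ :=
        ((((QuotientGroup.mk' N₁).comp X.subtype).codRestrict F₁ fun x => x.2.1).prod
          (((QuotientGroup.mk' N₂).comp X.subtype).codRestrict F₂ fun x => x.2.2))
      have hinj : Function.Injective e := by
        rw [← MonoidHom.ker_eq_bot_iff, Subgroup.eq_bot_iff_forall]
        intro x hx
        have h1 : ((x : G) : G ⧸ N₁) = 1 := congrArg (fun y : F₁ × F₂ => (y.1 : G ⧸ N₁)) hx
        have h2 : ((x : G) : G ⧸ N₂) = 1 := congrArg (fun y : F₁ × F₂ => (y.2 : G ⧸ N₂)) hx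
        rw [QuotientGroup.eq_one_iff] at h1 h2
        exact Subtype.ext ((Subgroup.eq_bot_iff_forall _).1 h12 _ ⟨h1, h2⟩)
      have : Group.IsNilpotent X := Group.nilpotent_of_mulEquiv (MonoidHom.ofInjective hinj).symm
      refine le_trans (le_inf ?_ ?_) (Components.le_fittingSubgroup (N := X) inferInstance)
      · rw [← map_le_iff_le_comap, map_top_lowerCentralSeries _ (QuotientGroup.mk'_surjective N₁)]
        exact ((⊤ : Subgroup (G ⧸ N₁)).lowerCentralSeries_antitone (le_max_left a b)).trans ha
      · rw [← map_le_iff_le_comap, map_top_lowerCentralSeries _ (QuotientGroup.mk'_surjective N₂)]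
        exact ((⊤ : Subgroup (G ⧸ N₂)).lowerCentralSeries_antitone (le_max_right a b)).trans hb
    push Not at hsplit
    -- only one prime occurs in `F`
    have hFne : F ≠ ⊥ := Components.fittingSubgroup_ne_bot
    obtain ⟨r, hr, hrF⟩ :=
      Nat.exists_prime_and_dvd (fun h => hFne (Subgroup.card_eq_one.1 h) : Nat.card F ≠ 1)
    have := Fact.mk hr
    have hcore : ∀ q : ℕ, ∀ a, ∀ x ∈ pCore q G, φ a x ∈ pCore q G := fun q a x hx => by
      have := PCore.map_pCore_mulEquiv (p := q) (φ a)
      rw [← this]
      exact mem_map_of_mem _ hx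
    have hFeq : F = ⨆ p : (Nat.card G).primeFactors, pCore (p : ℕ) G :=
      Components.fittingSubgroup_eq_iSup_pCore
    have hFr : IsPGroup r F := by
      have hO : F ≤ pCore r G := by
        by_contra hcon
        obtain ⟨q, hq, hqn⟩ : ∃ q : ℕ, q.Prime ∧ q ≠ r ∧ pCore q G ≠ ⊥ := by
          by_contra hh
          push Not at hh
          apply hcon
          rw [hFeq]
          refine iSup_le fun p => ?_
          by_cases hp : (p : ℕ) = r
          · rw [hp]
          · rw [hh p (Nat.prime_of_mem_primeFactors p.2) hp]; exact bot_le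
        have := Fact.mk hq
        have hr0 : pCore r G ≠ ⊥ := by
          intro h0
          have hco : (Nat.card F).Coprime r := by
            have hle : F ≤ pPrimeCore r G := by
              rw [hFeq]
              refine iSup_le fun p => ?_
              by_cases hp : (p : ℕ) = r
              · rw [hp, h0]; exact bot_le
              · have := Fact.mk (Nat.prime_of_mem_primeFactors p.2)
                exact PCore.pCore_le_pPrimeCore hp
            exact PCore.coprime_card_pPrimeCore.coprime_dvd_left (card_dvd_of_le hle)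
          exact hr.not_dvd_one (hco ▸ Nat.dvd_gcd hrF dvd_rfl)
        exact hsplit (pCore r G) (pCore q G) (Components.pCore_normal' r) (Components.pCore_normal' q)
          (hcore r) (hcore q) hr0 hqn.2
          (disjoint_iff.1 (PCore.pCore_disjoint_pCore (Ne.symm hqn.1)))
      exact PCore.isPGroup_pCore.to_le hO
    set D := (frattini F).map F.subtype with hD
    have hDn : D.Normal := inferInstance
    by_cases hD1 : D = ⊥
    swap
    · -- `Φ(F) ≠ 1`
      have hDi : ∀ a, ∀ x ∈ D, φ a x ∈ D := fun a x hx => by
        have hFmap := map_eq_of_invariant φ (fun a x hx => apply_mem_of_characteristic φ (C := F) a hx) a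
        let e : F ≃* F := ((φ a).subgroupMap F).trans (MulEquiv.subgroupCongr hFmap)
        obtain ⟨y, hy, rfl⟩ := hx
        refine ⟨e y, ?_, rfl⟩
        have := characteristic_iff_map_eq.1 (inferInstance : (frattini F).Characteristic) e
        rw [← this]
        exact mem_map_of_mem _ hy
      obtain ⟨m, hcm, hm⟩ := hquot D hDi hD1
      refine ⟨m, hcm, ?_⟩
      have hDΦ : D ≤ frattini G := by
        refine PGroup.le_frattini_of_forall_coatom fun M hM => ?_
        by_contra hDM
        have htop : D ⊔ M = ⊤ := hM.2 _ (lt_of_le_of_ne le_sup_right fun e => hDM (e ▸ le_sup_left))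
        have hF' : (M.subgroupOf F) ⊔ frattini F = ⊤ := by
          refine top_le_iff.1 fun x _ => ?_
          obtain ⟨y, ⟨y', hy', rfl⟩, m, hm, hxm⟩ := (Coprime.mem_sup_iff_of_le_normalizer'
            (H := M) (N := D) (by rw [normalizer_eq_top]; exact le_top)).1
            ((sup_comm D M ▸ htop).ge (mem_top (x : G)))
          have hmF : m ∈ F := by
            have : m = (y' : G)⁻¹ * x := by rw [← hxm]; show m = (y' : G)⁻¹ * ((y' : G) * m); group
            rw [this]
            exact mul_mem (inv_mem y'.2) x.2
          have hx' : x = y' * ⟨m, hmF⟩ := Subtype.ext hxm.symm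
          rw [hx']
          exact mul_mem (mem_sup_right hy') (mem_sup_left (show (⟨m, hmF⟩ : F) ∈ M.subgroupOf F from hm))
        have hFM : F ≤ M := subgroupOf_eq_top.1 (frattini_nongenerating hF')
        exact hDM ((map_subtype_le _).trans hFM)
      set f := QuotientGroup.mk' D
      set Φ := frattini G
      set f' := QuotientGroup.mk' Φ
      have : (fittingSubgroup (G ⧸ D)).Normal := Components.fittingSubgroup_normal _
      set X := (fittingSubgroup (G ⧸ D)).comap f ⊔ Φ with hX
      have hnil : Group.IsNilpotent (X.map f') := by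
        rw [hX, Subgroup.map_sup, (Subgroup.map_eq_bot_iff Φ (f := f')).2
          (by rw [QuotientGroup.ker_mk']), sup_bot_eq]
        let g : G ⧸ D →* G ⧸ Φ := QuotientGroup.map D Φ (MonoidHom.id G) hDΦ
        have hfg : ((fittingSubgroup (G ⧸ D)).comap f).map f' = (fittingSubgroup (G ⧸ D)).map g := by
          conv_rhs => rw [← map_comap_eq_self_of_surjective (QuotientGroup.mk'_surjective D)
            (fittingSubgroup (G ⧸ D)), map_map]
          rfl
        rw [hfg]
        have := Components.fittingSubgroup_isNilpotent (G ⧸ D)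
        exact Group.nilpotent_of_surjective _ (g.subgroupMap_surjective _)
      have := Solvable.isNilpotent_of_frattini X le_sup_right hnil
      refine le_trans ?_ (Components.le_fittingSubgroup (N := X) inferInstance)
      refine le_trans ?_ le_sup_left
      rw [← map_le_iff_le_comap, map_top_lowerCentralSeries _ (QuotientGroup.mk'_surjective D)]
      exact hm
    -- `F` is elementary abelian and `G/F` acts on it
    obtain ⟨hFcomm, hFexp⟩ := (PGroup.frattini_eq_bot_iff hFr).1
      ((map_eq_bot_iff_of_injective _ F.subtype_injective).1 hD1)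
    have hCF : centralizer (F : Set G) ≤ F := Components.centralizer_fittingSubgroup_le
    have hFi : ∀ a, ∀ x ∈ F, φ a x ∈ F := fun a x hx => apply_mem_of_characteristic φ a hx
    set ψ := quotAct φ F hFi with hψ
    let _ : CommGroup F := inferInstance
    obtain ⟨d, R, hR⟩ := exists_endRepresentation (V := Additive F) r (fun x => by
      show Additive.ofMul (Additive.toMul x ^ r) = 0
      rw [hFexp]; rfl)
    let toEnd : MulAut F →* AddMonoid.End (Additive F) :=
      { toFun := fun e => MonoidHom.toAdditive e.toMonoidHom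
        map_one' := AddMonoidHom.ext fun x => rfl
        map_mul' := fun e e' => AddMonoidHom.ext fun x => rfl }
    let L := R.toMonoidHom.comp toEnd
    have hL : Function.Injective L := fun e e' h => MulEquiv.ext fun x =>
      congrArg Additive.toMul (DFunLike.congr_fun (hR h) (Additive.ofMul x))
    have hconj : ∀ g : G, g ∈ F → (MulAut.conjNormal (H := F)) g = 1 := fun g hg =>
      MulEquiv.ext fun x => Subtype.ext (by
        have h' : g * (x : G) = x * g := congrArg Subtype.val (mul_comm' (⟨g, hg⟩ : F) x)
        show g * (x : G) * g⁻¹ = x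
        rw [h', mul_inv_cancel_right])
    let ρM : G ⧸ F →* MulAut F :=
      QuotientGroup.lift F (MulAut.conjNormal (H := F)) fun g hg => hconj g hg
    let resA : A →* MulAut F :=
      { toFun := fun a => ((φ a).subgroupMap F).trans
          (MulEquiv.subgroupCongr (map_eq_of_invariant φ hFi a))
        map_one' := MulEquiv.ext fun x => Subtype.ext (by
          show φ 1 (x : G) = x
          rw [map_one, MulAut.one_apply])
        map_mul' := fun a b => MulEquiv.ext fun x => Subtype.ext (by
          show φ (a * b) (x : G) = φ a (φ b (x : G))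
          rw [map_mul, MulAut.mul_apply]) }
    have hcompat : ∀ a : A, ρM.comp ((ψ a).toMonoidHom) =
        ((MulAut.conj (resA a)).toMonoidHom).comp ρM := fun a => by
      refine MonoidHom.ext fun q => ?_
      induction q using QuotientGroup.induction_on with | _ g => ?_
      refine MulEquiv.ext fun x => Subtype.ext ?_
      show φ a g * (x : G) * (φ a g)⁻¹ = φ a (g * (((resA a)⁻¹ : MulAut F) x : G) * g⁻¹)
      have hx : φ a (((resA a)⁻¹ : MulAut F) x : G) = x :=
        congrArg Subtype.val ((resA a).apply_symm_apply x)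
      rw [map_mul, map_mul, map_inv, hx]
    let ρ : SemidirectProduct (G ⧸ F) A ψ →*
        Module.End (AlgebraicClosure (ZMod r)) (Fin d → AlgebraicClosure (ZMod r)) :=
      L.comp (SemidirectProduct.lift ρM resA hcompat)
    have hAr : ((Nat.card A : ℕ) : AlgebraicClosure (ZMod r)) ≠ 0 := by
      rw [Ne, CharP.cast_eq_zero_iff (AlgebraicClosure (ZMod r)) r]
      intro h
      exact hr.not_dvd_one (hcop ▸ Nat.dvd_gcd h (hrF.trans (card_subgroup_dvd_card F)))
    have hfaith : ∀ q : G ⧸ F, ρ (SemidirectProduct.inl q) = 1 → q = 1 := by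
      intro q
      induction q using QuotientGroup.induction_on with | _ g => ?_
      intro hq
      have h1 : ρM (g : G ⧸ F) = 1 := by
        refine hL (Eq.trans ?_ (hq.trans (map_one L).symm))
        show _ = L (SemidirectProduct.lift ρM resA hcompat (SemidirectProduct.inl _))
        rw [SemidirectProduct.lift_inl]
      rw [QuotientGroup.eq_one_iff]
      refine hCF (mem_centralizer_iff.2 fun x hx => ?_)
      have h3 : g * x * g⁻¹ = x :=
        congrArg Subtype.val (DFunLike.congr_fun h1 (⟨x, hx⟩ : F))
      exact (mul_inv_eq_iff_eq_mul.1 h3).symm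
    have hsum : ∀ v, ∑ a : A, ρ (SemidirectProduct.inr a) v = 0 := by
      intro v
      have h1 : ∑ a : A, ρ (SemidirectProduct.inr a) = 0 := by
        have : ∀ a, ρ (SemidirectProduct.inr a) = L (resA a) := fun a => by
          show L (SemidirectProduct.lift ρM resA hcompat (SemidirectProduct.inr a)) = _
          rw [SemidirectProduct.lift_inr]
        simp only [this]
        have h0 : ∀ y : F, ∏ a : A, resA a y = 1 := by
          intro y
          have hfixed : ((∏ a : A, resA a y : F) : G) ∈ Coprime.fixedBy φ := fun b => by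
            show (resA b (∏ a : A, resA a y) : G) = _
            rw [map_prod]
            refine congrArg Subtype.val (Fintype.prod_equiv (Equiv.mulLeft b) _ _ fun a => ?_)
            show resA b (resA a y) = resA (b * a) y
            rw [map_mul, MulAut.mul_apply]
          rw [hfix, mem_bot] at hfixed
          exact Subtype.ext hfixed
        show ∑ a : A, R (toEnd (resA a)) = 0
        rw [← map_sum, show ∑ a : A, toEnd (resA a) = 0 from ?_, map_zero]
        refine AddMonoidHom.ext fun x => ?_
        refine (AddMonoidHom.finsetSum_apply _ _ _).trans ?_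
        show ∑ a : A, Additive.ofMul (resA a (Additive.toMul x)) = 0
        rw [← ofMul_prod, h0]
        rfl
      rw [← LinearMap.sum_apply, h1, LinearMap.zero_apply]
    have hOr : ∀ N : Subgroup (G ⧸ F), N.Normal → (∀ a, ∀ x ∈ N, ψ a x ∈ N) → IsPGroup r N →
        N = ⊥ := by
      intro N hNn _ hNp
      have : (N.comap (QuotientGroup.mk' F)).Normal := hNn.comap _
      have hp : IsPGroup r (N.comap (QuotientGroup.mk' F)) :=
        hNp.comap_of_ker_isPGroup _ (by rw [QuotientGroup.ker_mk']; exact hFr)
      have hle : N.comap (QuotientGroup.mk' F) ≤ F :=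
        (PCore.le_pCore hp).trans (Components.pCore_le_fittingSubgroup hr)
      rw [← map_comap_eq_self_of_surjective (QuotientGroup.mk'_surjective F) N,
        Subgroup.map_eq_bot_iff, QuotientGroup.ker_mk']
      exact hle
    obtain ⟨m, hcm, hm⟩ := core (G ⧸ F) ψ r (AlgebraicClosure (ZMod r)) d ρ hr inferInstance
      (hcop.coprime_dvd_right (card_quotient_dvd_card F)) hAr
      (fixedBy_quotAct φ F hFi hcop hA hfix) hfaith hsum hOr (hquot F hFi hFne)
    refine ⟨m, hcm, ?_⟩
    have h1 := map_top_lowerCentralSeries (QuotientGroup.mk' F) (QuotientGroup.mk'_surjective F) m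
    rw [hm, Subgroup.map_eq_bot_iff, QuotientGroup.ker_mk'] at h1
    exact h1

/-- The reduction. -/
theorem hasHeight_of_core {A : Type*} [Group A] [Fintype A] (hA : Group.IsSolvable A)
    {c : ℕ → Prop} (hc0 : ∃ n, c n) (hmax : ∀ a b, c a → c b → c (max a b))
    (core : CoreProp.{u} A c) {G : Type u} [Group G] [Finite G] [Group.IsSolvable G]
    (φ : A →* MulAut G) (hcop : (Nat.card A).Coprime (Nat.card G))
    (hfix : Coprime.fixedBy φ = ⊥) : HasHeight c G :=
  hasHeight_aux hA hc0 hmax core _ G rfl φ hcop hfix

end Cfsg.Agent.FittingHeight
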