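import Mathlib.NumberTheory.Multiplicity
import Cfsg.Agent.Lib.FittingHeight.Reduction
import Cfsg.Agent.Lib.PGroup.Class2

/-!
# The exceptional pairing under a cyclic fixed-point-free group of odd prime power order

`A` cyclic of order `p ^ n` acts without fixed points on the 2-group `Q`, semiregularly on `Q/Z`,
`Z` central. If the radical `R` of `(x, y) ↦ ξ ⁅x, y⁆` has index `4 ^ a`, the weight `ξ` being fixed
by the subgroup of order `p ^ i = 2 ^ a + 1`, then `R = Q`.
-/

set_option linter.style.haveILetI false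

namespace Cfsg.Agent.FittingHeight

open Subgroup
open scoped commutatorElement

/-- If `p ^ i = 2 ^ a + 1` and `p ^ (i + j) ∣ 2 ^ d - 1`, then `2 a p ^ j ∣ d`. -/
theorem two_mul_pow_dvd {p i j a d : ℕ} (hp : p.Prime) (hp2 : p ≠ 2) (hi : i ≠ 0) (h : p ^ i = 2 ^ a + 1)
    (hd : p ^ (i + j) ∣ 2 ^ d - 1) : 2 * a * p ^ j ∣ d := by
  have hpF := Fact.mk hp
  have ha : 0 < a := by
    rcases Nat.eq_zero_or_pos a with rfl | ha
    · have hpd : p ∣ 2 := by
        have := dvd_pow_self p hi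
        rw [h] at this
        simpa using this
      exact absurd ((Nat.prime_dvd_prime_iff_eq hp Nat.prime_two).1 hpd) hp2
    · exact ha
  set m := p ^ i with hm
  have hm1 : 1 < m := Nat.one_lt_pow hi hp.one_lt
  have hcop : p.Coprime 2 := (Nat.coprime_primes hp Nat.prime_two).2 hp2
  have hdm : 2 ^ d % m = 1 := by
    have h1 : m ∣ 2 ^ d - 1 := (pow_dvd_pow p (Nat.le_add_right i j)).trans hd
    have : 1 ≡ 2 ^ d [MOD m] := (Nat.modEq_iff_dvd' Nat.one_le_two_pow).2 h1
    rw [← this, Nat.mod_eq_of_lt hm1]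
  have hper : 2 ^ (2 * a) % m = 1 := by
    have h1 : m ∣ 2 ^ (2 * a) - 1 := by
      refine ⟨2 ^ a - 1, ?_⟩
      rw [h, ← Nat.sq_sub_sq, ← pow_mul, one_pow, mul_comm]
    have : 1 ≡ 2 ^ (2 * a) [MOD m] := (Nat.modEq_iff_dvd' Nat.one_le_two_pow).2 h1
    rw [← this, Nat.mod_eq_of_lt hm1]
  have hrem : 2 ^ (d % (2 * a)) % m = 1 := by
    have := hdm
    rwa [← Nat.mod_add_div d (2 * a), pow_add, pow_mul, Nat.mul_mod, Nat.pow_mod (2 ^ (2 * a)), hper, one_pow,
      Nat.mod_eq_of_lt hm1, mul_one, Nat.mod_mod] at this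
  obtain ⟨e, rfl⟩ : 2 * a ∣ d := by
    rw [Nat.dvd_iff_mod_eq_zero]
    set r := d % (2 * a) with hr
    have hr2 : r < 2 * a := Nat.mod_lt _ (by omega)
    by_contra hr0
    have h2r : 2 ≤ 2 ^ r := Nat.le_self_pow hr0 2
    rcases Nat.lt_or_ge a r with hlt | hge
    · -- `2 ^ (r - a) ≡ -1`
      have h1 : 2 ^ r = 2 ^ (r - a) * 2 ^ a := by rw [← pow_add]; congr 1; omega
      have h2 : 2 ^ (r - a) < 2 ^ a := Nat.pow_lt_pow_right (by norm_num) (by omega)
      have hneg : (2 : ZMod m) ^ a = -1 := by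
        have : ((2 ^ a + 1 : ℕ) : ZMod m) = 0 := by rw [← h]; exact ZMod.natCast_self m
        push_cast at this
        exact eq_neg_of_add_eq_zero_left this
      have h3 : ((2 ^ r : ℕ) : ZMod m) = 1 := by
        rw [← ZMod.natCast_mod, hrem]; norm_num
      rw [h1] at h3
      push_cast at h3
      rw [hneg, mul_neg, mul_one] at h3
      have h4 : ((2 ^ (r - a) + 1 : ℕ) : ZMod m) = 0 := by
        push_cast
        rw [← h3, add_neg_cancel]
      have := Nat.le_of_dvd (by positivity) ((ZMod.natCast_eq_zero_iff _ _).1 h4)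
      omega
    · have h2 : 2 ^ r ≤ 2 ^ a := Nat.pow_le_pow_right (by norm_num) hge
      rw [Nat.mod_eq_of_lt (by omega)] at hrem
      omega
  refine Nat.mul_dvd_mul_left _ ?_
  rcases eq_or_ne e 0 with rfl | he
  · exact dvd_zero _
  rw [pow_mul] at hd
  have hodd : Odd p := hp.odd_of_ne_two hp2
  have hx : p ∣ 2 ^ (2 * a) - 1 := by
    refine (dvd_pow_self p hi).trans ⟨2 ^ a - 1, ?_⟩
    rw [← hm, h, ← Nat.sq_sub_sq, ← pow_mul, one_pow, mul_comm]
  have hnx : ¬ p ∣ 2 ^ (2 * a) := fun hc =>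
    hp2 ((Nat.prime_dvd_prime_iff_eq hp Nat.prime_two).1 (hp.dvd_of_dvd_pow hc))
  have h2a : 1 < 2 ^ (2 * a) := Nat.one_lt_pow (by omega) (by norm_num)
  have hv := padicValNat.pow_sub_pow (p := p) hodd h2a hx hnx he
  rw [one_pow] at hv
  have hne1 : 2 ^ (2 * a) - 1 = (2 ^ a + 1) * (2 ^ a - 1) := by
    rw [← Nat.sq_sub_sq, ← pow_mul, one_pow, mul_comm]
  have hvp : padicValNat p (2 ^ (2 * a) - 1) = i := by
    have h0 : ¬ p ∣ 2 ^ a - 1 := by
      intro hc
      have h1 : p ∣ 2 ^ a + 1 := h ▸ dvd_pow_self p hi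
      have h2 := Nat.dvd_sub h1 hc
      have h3 := Nat.one_le_two_pow (n := a)
      rw [show 2 ^ a + 1 - (2 ^ a - 1) = 2 by omega] at h2
      exact hp2 ((Nat.prime_dvd_prime_iff_eq hp Nat.prime_two).1 h2)
    have h1 : 2 ^ a - 1 ≠ 0 := by
      have := Nat.one_lt_pow ha.ne' (by norm_num : 1 < 2)
      omega
    rw [hne1, padicValNat.mul (by omega) h1, ← h, hm, padicValNat.prime_pow,
      padicValNat.eq_zero_of_not_dvd h0, add_zero]
  have hne : (2 ^ (2 * a)) ^ e - 1 ≠ 0 := by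
    have := Nat.one_lt_pow he h2a
    omega
  have := (padicValNat_dvd_iff_le hne).1 hd
  rw [hv, hvp] at this
  exact (padicValNat_dvd_iff_le he).2 (by omega)

variable {Q : Type*} [Group Q] [Finite Q] {A : Type*} [CommGroup A] [Fintype A]

theorem pairing_trivial {p n : ℕ} (hp : p.Prime) (hp2 : p ≠ 2) (hcard : Nat.card A = p ^ n) {s : A}
    (hgen : ∀ a, a ∈ zpowers s) (φ : A →* MulAut Q) (hfix : Coprime.fixedBy φ = ⊥)
    (hQ : IsPGroup 2 Q) (Z : Subgroup Q) (hZc : Z ≤ center Q) (hZi : ∀ a, ∀ z ∈ Z, φ a z ∈ Z)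
    (hcom : ∀ x y : Q, ⁅x, y⁆ ∈ Z) (hfree : ∀ a : A, a ≠ 1 → ∀ g, g⁻¹ * φ a g ∈ Z → g ∈ Z)
    (hmin : ∀ K : Subgroup Q, Z ≤ K → (∀ a, ∀ x ∈ K, φ a x ∈ K) → K = Z ∨ K = ⊤)
    {k : Type*} [Field k] (ξ : Z →* k) {j : ℕ} (hj : j < n)
    (hinv : ∀ z : Z, ξ ⟨φ (s ^ p ^ j) z, hZi _ _ z.2⟩ = ξ z)
    (R : Subgroup Q) (hR : ∀ x, x ∈ R ↔ ∀ y, ξ ⟨⁅y, x⁆, hcom y x⟩ = 1) {a : ℕ}
    (hidx : R.index = 2 ^ (2 * a)) (hr : p ^ (n - j) = 2 ^ a + 1) : R = ⊤ := by
  classical
  by_contra hRtop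
  have hpF := Fact.mk hp
  set h := s ^ p ^ j with hh
  have hord : orderOf s = p ^ n := by
    rw [← hcard, orderOf_eq_card_of_forall_mem_zpowers hgen]
  have hZn : Z.Normal := ⟨fun z hz g => by
    rw [mem_center_iff.1 (hZc hz) g, mul_inv_cancel_right]; exact hz⟩
  have hZR : Z ≤ R := fun z hz => (hR z).2 fun y => by
    rw [← map_one ξ]; congr 1; apply Subtype.ext
    exact commutatorElement_eq_one_iff_mul_comm.2 (mem_center_iff.1 (hZc hz) y)
  have hRn : R.Normal := ⟨fun x hx g => by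
    have : g * x * g⁻¹ = ⁅g, x⁆ * x := by group
    rw [this]; exact mul_mem (hZR (hcom g x)) hx⟩
  have hRh : ∀ x ∈ R, φ h x ∈ R := fun x hx => (hR _).2 fun y => by
    obtain ⟨y, rfl⟩ := (φ h).surjective y
    rw [← (hR x).1 hx y, ← hinv ⟨⁅y, x⁆, hcom y x⟩]
    congr 1; exact Subtype.ext (map_commutatorElement (φ h) y x).symm
  have hRhk : ∀ e : ℕ, ∀ x ∈ R, φ (h ^ e) x ∈ R := by
    intro e
    induction e with
    | zero => intro x hx; simpa using hx
    | succ e ih => intro x hx; rw [pow_succ', map_mul, MulAut.mul_apply]; exact hRh _ (ih x hx)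
  -- `A` is semiregular on `Q/Z`
  obtain ⟨d, hd⟩ := IsPGroup.iff_card.1 (hQ.to_quotient Z)
  have hdiv : p ^ n ∣ 2 ^ d - 1 := by
    let act : A →* MulAut (Q ⧸ Z) := quotAct φ Z hZi
    letI : MulAction A (Q ⧸ Z) :=
      { smul := fun b x => act b x
        one_smul := fun x => by show act 1 x = x; rw [map_one, MulAut.one_apply]
        mul_smul := fun b c x => by
          show act (b * c) x = act b (act c x); rw [map_mul, MulAut.mul_apply] }
    have hfree' : ∀ x : Q ⧸ Z, x ≠ 1 → MulAction.stabilizer A x = ⊥ := fun x hx => by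
      refine (Subgroup.eq_bot_iff_forall _).2 fun b hb => ?_
      induction x using QuotientGroup.induction_on with | H g => ?_
      by_contra hb1
      have h1 : ((φ b g : Q) : Q ⧸ Z) = g := hb
      exact hx ((QuotientGroup.eq_one_iff g).2 (hfree b hb1 g (QuotientGroup.eq.1 h1.symm)))
    have := Fintype.ofFinite (MulAction.orbitRel.Quotient A (Q ⧸ Z))
    set ω0 : MulAction.orbitRel.Quotient A (Q ⧸ Z) := Quotient.mk'' 1 with hω0
    have horb : ∀ ω : MulAction.orbitRel.Quotient A (Q ⧸ Z), ω ≠ ω0 →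
        Nat.card (MulAction.orbit A ω.out) = p ^ n := by
      intro ω hω
      have hne : ω.out ≠ 1 := fun e => hω (by rw [← Quotient.out_eq' ω, e])
      rw [← hcard, ← Nat.card_congr (MulAction.orbitProdStabilizerEquivGroup A ω.out),
        Nat.card_prod, hfree' _ hne, Subgroup.card_bot, mul_one]
    have hout0 : Nat.card (MulAction.orbit A ω0.out) = 1 := by
      have h' := Quotient.mk_out (s := MulAction.orbitRel A (Q ⧸ Z)) (1 : Q ⧸ Z)
      obtain ⟨b, hb⟩ := h'
      have hb' : ω0.out = 1 := hb.symm.trans (map_one (act b))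
      rw [hb', Nat.card_eq_one_iff_unique]
      refine ⟨⟨fun u v => Subtype.ext ?_⟩, ⟨⟨1, MulAction.mem_orbit_self _⟩⟩⟩
      obtain ⟨b, hb⟩ := u.2
      obtain ⟨c, hc⟩ := v.2
      rw [← hb, ← hc]
      exact (map_one (act b)).trans (map_one (act c)).symm
    have hsum : 2 ^ d = 1 + (Finset.univ.erase ω0).card * p ^ n := by
      rw [← hd, Nat.card_congr (MulAction.selfEquivSigmaOrbits A (Q ⧸ Z)), Nat.card_sigma,
        ← Finset.add_sum_erase Finset.univ _ (Finset.mem_univ ω0), hout0,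
        Finset.sum_congr rfl fun ω hω => horb ω (Finset.mem_erase.1 hω).1, Finset.sum_const,
        smul_eq_mul]
    exact ⟨(Finset.univ.erase ω0).card, by rw [hsum, mul_comm (p ^ n)]; omega⟩
  -- `Q/Z` is the product of the conjugates of `Q/R`
  let F : Q →* (Fin (p ^ j) → Q ⧸ R) :=
    MonoidHom.pi fun i => (QuotientGroup.mk' R).comp (φ (s ^ (i : ℕ))).toMonoidHom
  have hpj : 0 < p ^ j := pow_pos hp.pos j
  have hFmem : ∀ x, F x = 1 → ∀ b : A, φ b x ∈ R := by
    intro x hx b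
    obtain ⟨e, rfl⟩ := mem_powers_iff_mem_zpowers.2 (hgen b)
    show φ (s ^ e) x ∈ R
    have hsplit : s ^ e = h ^ (e / p ^ j) * s ^ (e % p ^ j) := by
      rw [hh, ← pow_mul, ← pow_add, Nat.div_add_mod]
    rw [hsplit, map_mul, MulAut.mul_apply]
    exact hRhk _ _ ((QuotientGroup.eq_one_iff _).1 (congrFun hx ⟨e % p ^ j, Nat.mod_lt _ hpj⟩))
  have hker : F.ker = Z := by
    refine (hmin F.ker ?_ ?_).resolve_right fun htop => ?_
    · intro z hz
      rw [MonoidHom.mem_ker]
      funext i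
      exact (QuotientGroup.eq_one_iff _).2 (hZR (hZi _ z hz))
    · intro b x hx
      rw [MonoidHom.mem_ker]
      funext i
      refine (QuotientGroup.eq_one_iff _).2 ?_
      show φ (s ^ (i : ℕ)) (φ b x) ∈ R
      rw [← MulAut.mul_apply, ← map_mul]
      exact hFmem x hx _
    · apply hRtop
      refine top_le_iff.1 fun x _ => ?_
      have := hFmem x (htop.ge (mem_top x)) 1
      rwa [map_one, MulAut.one_apply] at this
  have hFrange : Nat.card F.range = 2 ^ d := by
    rw [← hd]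
    exact (Nat.card_congr ((QuotientGroup.quotientMulEquivOfEq hker.symm).trans
      (QuotientGroup.quotientKerEquivRange F)).toEquiv).symm
  have htot : Nat.card (Fin (p ^ j) → Q ⧸ R) = 2 ^ (2 * a * p ^ j) := by
    rw [Nat.card_fun, Nat.card_fin, show Nat.card (Q ⧸ R) = R.index from rfl, hidx, ← pow_mul]
  have hsurj : Function.Surjective F := by
    rw [← MonoidHom.range_eq_top]
    refine Subgroup.eq_top_of_card_eq _ ?_
    rw [htot, hFrange]
    congr 1
    have hle : d ≤ 2 * a * p ^ j := by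
      have := Subgroup.card_le_card_group F.range
      rw [htot, hFrange] at this
      exact (Nat.pow_le_pow_iff_right (by norm_num)).1 this
    have hdv := two_mul_pow_dvd (j := j) hp hp2 (Nat.sub_pos_of_lt hj).ne' hr
      (by rw [Nat.sub_add_cancel hj.le]; exact hdiv)
    rcases Nat.eq_zero_or_pos d with rfl | hd0
    · exfalso
      apply hRtop
      have : Subsingleton (Q ⧸ Z) := (Nat.card_eq_one_iff_unique.1 (by rw [hd, pow_zero])).1
      refine top_le_iff.1 fun x _ => hZR ?_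
      exact (QuotientGroup.eq_one_iff x).1 (Subsingleton.elim _ _)
    · exact le_antisymm hle (Nat.le_of_dvd hd0 hdv)
  obtain ⟨x₀, hx₀⟩ : ∃ x, x ∉ R := by
    by_contra hc; push Not at hc
    exact hRtop (top_le_iff.1 fun x _ => hc x)
  obtain ⟨x, hx⟩ := hsurj fun i => if (i : ℕ) = 0 then (x₀ : Q ⧸ R) else 1
  have hxi : ∀ i : ℕ, 0 < i → i < p ^ j → φ (s ^ i) x ∈ R := fun i hi hij => by
    have := congrFun hx ⟨i, hij⟩
    rw [if_neg (show ((⟨i, hij⟩ : Fin (p ^ j)) : ℕ) ≠ 0 from hi.ne')] at this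
    exact (QuotientGroup.eq_one_iff _).1 this
  have hxR : x ∉ R := by
    intro hxR
    have := congrFun hx ⟨0, hpj⟩
    rw [if_pos rfl] at this
    have h0 : ((φ (s ^ 0) x : Q) : Q ⧸ R) = x₀ := this
    rw [pow_zero, map_one, MulAut.one_apply, (QuotientGroup.eq_one_iff x).2 hxR] at h0
    exact hx₀ ((QuotientGroup.eq_one_iff x₀).1 h0.symm)
  obtain ⟨y, hy⟩ : ∃ y, ξ ⟨⁅y, x⁆, hcom y x⟩ ≠ 1 := by
    by_contra hc; push Not at hc
    exact hxR ((hR x).2 hc)
  -- the product over `A` of the translates of `⁅y, x⁆`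
  let _ : CommGroup Z :=
    { (inferInstance : Group Z) with
      mul_comm := fun u v => Subtype.ext (mem_center_iff.1 (hZc v.2) (u : Q)) }
  set z : Z := ⟨⁅y, x⁆, hcom y x⟩ with hz
  let tr : A → Z := fun b => ⟨φ b z, hZi b _ z.2⟩
  have hN : ∏ b : A, tr b = 1 := by
    have hm : ((∏ b : A, tr b : Z) : Q) ∈ Coprime.fixedBy φ := fun c => by
      let f : Z →* Z :=
        { toFun := fun u => ⟨φ c u, hZi c _ u.2⟩
          map_one' := Subtype.ext (map_one (φ c))
          map_mul' := fun u v => Subtype.ext (map_mul (φ c) _ _) }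
      have : f (∏ b : A, tr b) = ∏ b : A, tr b := by
        rw [map_prod]
        refine Fintype.prod_equiv (Equiv.mulLeft c) _ _ fun b => Subtype.ext ?_
        show φ c (φ b z) = φ (c * b) z
        rw [map_mul, MulAut.mul_apply]
      exact congrArg Subtype.val this
    rw [hfix, mem_bot] at hm
    exact Subtype.ext hm
  have hval : ∀ b : A, ξ (tr b) = if b ∈ zpowers h then ξ z else 1 := by
    intro b
    obtain ⟨e, rfl⟩ := mem_powers_iff_mem_zpowers.2 (hgen b)
    have hinv' : ∀ (e : ℕ) (u : Z), ξ ⟨φ (h ^ e) u, hZi _ _ u.2⟩ = ξ u := by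
      intro e u
      induction e with
      | zero => congr 1; exact Subtype.ext (by show φ (h ^ 0) (u : Q) = u; simp)
      | succ e ih =>
        rw [← ih, ← hinv ⟨φ (h ^ e) u, hZi _ _ u.2⟩]
        congr 1
        apply Subtype.ext
        show φ (h ^ (e + 1)) (u : Q) = φ h (φ (h ^ e) u)
        rw [pow_succ', map_mul, MulAut.mul_apply]
    show ξ (tr (s ^ e)) = if s ^ e ∈ zpowers h then ξ z else 1
    have hsplit : s ^ e = h ^ (e / p ^ j) * s ^ (e % p ^ j) := by
      rw [hh, ← pow_mul, ← pow_add, Nat.div_add_mod]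
    rcases Nat.eq_zero_or_pos (e % p ^ j) with h0 | h0
    · have hb : s ^ e = h ^ (e / p ^ j) := by rw [hsplit, h0, pow_zero, mul_one]
      rw [if_pos (hb ▸ pow_mem (mem_zpowers h) _), ← hinv' (e / p ^ j) z]
      congr 1; exact Subtype.ext (by show φ (s ^ e) (z : Q) = _; rw [hb])
    · rw [if_neg]
      · have h1 := (hR _).1 (hRhk (e / p ^ j) _ (hxi _ h0 (Nat.mod_lt _ hpj))) (φ (s ^ e) y)
        rw [← h1]
        congr 1
        apply Subtype.ext
        show φ (s ^ e) ⁅y, x⁆ = _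
        rw [map_commutatorElement]
        congr 1
        rw [← MulAut.mul_apply, ← map_mul, ← hsplit]
      · intro hb
        obtain ⟨f, hf⟩ := mem_powers_iff_mem_zpowers.2 hb
        replace hf : s ^ (p ^ j * f) = s ^ e := by rw [pow_mul]; exact hf
        rw [pow_eq_pow_iff_modEq, hord] at hf
        have := hf.of_dvd (pow_dvd_pow p hj.le)
        rw [Nat.ModEq, Nat.mul_mod_right] at this
        omega
  have hpow : ξ z ^ Nat.card (zpowers h) = 1 := by
    have := congrArg ξ hN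
    rw [map_prod, map_one] at this
    simp only [hval] at this
    rw [Finset.prod_ite, Finset.prod_const, Finset.prod_const_one, mul_one] at this
    rwa [Nat.card_eq_fintype_card, Fintype.card_subtype]
  apply hy
  show ξ z = 1
  obtain ⟨c, hc⟩ := hQ z
  have hzc : z ^ 2 ^ c = 1 := Subtype.ext hc
  rw [← orderOf_eq_one_iff]
  refine Nat.eq_one_of_dvd_coprimes (?_ : (2 ^ c).Coprime (p ^ n)) ?_ ?_
  · exact Nat.Coprime.pow c n ((Nat.coprime_primes Nat.prime_two hp).2 hp2.symm)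
  · exact orderOf_dvd_of_pow_eq_one (by rw [← map_pow, hzc, map_one])
  · exact (orderOf_dvd_of_pow_eq_one hpow).trans (hcard ▸ card_subgroup_dvd_card _)

end Cfsg.Agent.FittingHeight
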