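import Cfsg.Agent.Lib.FittingHeight.Reduction
import Cfsg.Agent.Lib.FittingHeight.CyclicCore

/-!
# A cyclic group of odd prime power order without fixed points

`t`, the element of order `p`, centralises `G/F(G)`. The reduction follows `Reduction.lean`.
-/

set_option linter.unusedVariables false

namespace Cfsg.Agent.FittingHeight

open Subgroup
open scoped IsMulCommutative

universe u

private theorem commLe_aux {A : Type*} [CommGroup A] [Fintype A] {p e : ℕ} {s : A} (hp : p.Prime)
    (hp2 : p ≠ 2) (he : e ≠ 0) (hcard : Nat.card A = p ^ e) (hgen : ∀ a, a ∈ Subgroup.zpowers s) :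
    ∀ (n : ℕ) (G : Type u) [Group G] [Finite G] [Group.IsSolvable G],
    Nat.card G = n → ∀ φ : A →* MulAut G, (Nat.card A).Coprime (Nat.card G) →
    Coprime.fixedBy φ = ⊥ → ∀ g : G, g⁻¹ * φ (s ^ p ^ (e - 1)) g ∈ fittingSubgroup G := by
  have hA : Group.IsSolvable A := Group.isSolvable_of_comm fun a b => mul_comm a b
  intro n
  induction n using Nat.strong_induction_on with
  | _ n ih =>
    intro G _ _ _ hn φ hcop hfix
    rcases subsingleton_or_nontrivial G with _ | _
    · intro g
      rw [Subsingleton.elim (g⁻¹ * φ (s ^ p ^ (e - 1)) g) 1]; exact one_mem _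
    -- the induction hypothesis for a quotient
    have hquot : ∀ (N : Subgroup G) [N.Normal] (hN : ∀ a, ∀ x ∈ N, φ a x ∈ N), N ≠ ⊥ →
        ∀ g : G, ((g⁻¹ * φ (s ^ p ^ (e - 1)) g : G) : G ⧸ N) ∈ fittingSubgroup (G ⧸ N) := by
      intro N _ hN hne
      refine fun g => ih _ ?_ (G ⧸ N) rfl (quotAct φ N hN)
        (hcop.coprime_dvd_right (card_quotient_dvd_card N)) (fixedBy_quotAct φ N hN hcop hA hfix) (g : G ⧸ N)
      rw [← hn, card_eq_card_quotient_mul_card_subgroup N]
      exact lt_mul_of_one_lt_right Nat.card_pos ((one_lt_card_iff_ne_bot N).2 hne)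
    set F := fittingSubgroup G with hF
    have hFn : F.Normal := Components.fittingSubgroup_normal G
    have hFc : F.Characteristic := Components.fittingSubgroup_characteristic G
    have hFnil : Group.IsNilpotent F := Components.fittingSubgroup_isNilpotent G
    by_cases hsplit : ∃ N₁ N₂ : Subgroup G, N₁.Normal ∧ N₂.Normal ∧ (∀ a, ∀ x ∈ N₁, φ a x ∈ N₁) ∧
        (∀ a, ∀ x ∈ N₂, φ a x ∈ N₂) ∧ N₁ ≠ ⊥ ∧ N₂ ≠ ⊥ ∧ N₁ ⊓ N₂ = ⊥
    · obtain ⟨N₁, N₂, hn₁, hn₂, hi₁, hi₂, h₁, h₂, h12⟩ := hsplit
      have ha := hquot N₁ hi₁ h₁
      have hb := hquot N₂ hi₂ h₂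
      set F₁ := fittingSubgroup (G ⧸ N₁)
      set F₂ := fittingSubgroup (G ⧸ N₂)
      have : F₁.Normal := Components.fittingSubgroup_normal _
      have : F₂.Normal := Components.fittingSubgroup_normal _
      set X := F₁.comap (QuotientGroup.mk' N₁) ⊓ F₂.comap (QuotientGroup.mk' N₂) with hX
      have : Group.IsNilpotent F₁ := Components.fittingSubgroup_isNilpotent _
      have : Group.IsNilpotent F₂ := Components.fittingSubgroup_isNilpotent _
      let e : X →* F₁ × F₂ :=
        ((((QuotientGroup.mk' N₁).comp X.subtype).codRestrict F₁ fun x => x.2.1).prod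
          (((QuotientGroup.mk' N₂).comp X.subtype).codRestrict F₂ fun x => x.2.2))
      have hinj : Function.Injective e := by
        rw [← MonoidHom.ker_eq_bot_iff, Subgroup.eq_bot_iff_forall]
        intro x hx
        have h1 : ((x : G) : G ⧸ N₁) = 1 := congrArg (fun y : F₁ × F₂ => (y.1 : G ⧸ N₁)) hx
        have h2 : ((x : G) : G ⧸ N₂) = 1 := congrArg (fun y : F₁ × F₂ => (y.2 : G ⧸ N₂)) hx
        rw [QuotientGroup.eq_one_iff] at h1 h2
        exact Subtype.ext ((Subgroup.eq_bot_iff_forall _).1 h12 _ ⟨h1, h2⟩)
      have : Group.IsNilpotent X := Group.nilpotent_of_mulEquiv (MonoidHom.ofInjective hinj).symm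
      exact fun g => Components.le_fittingSubgroup (N := X) inferInstance ⟨ha g, hb g⟩
    push Not at hsplit
    -- only one prime occurs in `F`
    have hFne : F ≠ ⊥ := Components.fittingSubgroup_ne_bot
    obtain ⟨r, hr, hrF⟩ :=
      Nat.exists_prime_and_dvd (fun h => hFne (Subgroup.card_eq_one.1 h) : Nat.card F ≠ 1)
    have := Fact.mk hr
    have hcore : ∀ q : ℕ, ∀ a, ∀ x ∈ pCore q G, φ a x ∈ pCore q G := fun q a x hx => by
      have := PCore.map_pCore_mulEquiv (p := q) (φ a)
      rw [← this]
      exact mem_map_of_mem _ hx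
    have hFeq : F = ⨆ p : (Nat.card G).primeFactors, pCore (p : ℕ) G :=
      Components.fittingSubgroup_eq_iSup_pCore
    have hFr : IsPGroup r F := by
      have hO : F ≤ pCore r G := by
        by_contra hcon
        obtain ⟨q, hq, hqn⟩ : ∃ q : ℕ, q.Prime ∧ q ≠ r ∧ pCore q G ≠ ⊥ := by
          by_contra hh
          push Not at hh
          apply hcon
          rw [hFeq]
          refine iSup_le fun p => ?_
          by_cases hp : (p : ℕ) = r
          · rw [hp]
          · rw [hh p (Nat.prime_of_mem_primeFactors p.2) hp]; exact bot_le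
        have := Fact.mk hq
        have hr0 : pCore r G ≠ ⊥ := by
          intro h0
          have hco : (Nat.card F).Coprime r := by
            have hle : F ≤ pPrimeCore r G := by
              rw [hFeq]
              refine iSup_le fun p => ?_
              by_cases hp : (p : ℕ) = r
              · rw [hp, h0]; exact bot_le
              · have := Fact.mk (Nat.prime_of_mem_primeFactors p.2)
                exact PCore.pCore_le_pPrimeCore hp
            exact PCore.coprime_card_pPrimeCore.coprime_dvd_left (card_dvd_of_le hle)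
          exact hr.not_dvd_one (hco ▸ Nat.dvd_gcd hrF dvd_rfl)
        exact hsplit (pCore r G) (pCore q G) (Components.pCore_normal' r) (Components.pCore_normal' q)
          (hcore r) (hcore q) hr0 hqn.2
          (disjoint_iff.1 (PCore.pCore_disjoint_pCore (Ne.symm hqn.1)))
      exact PCore.isPGroup_pCore.to_le hO
    set D := (frattini F).map F.subtype with hD
    have hDn : D.Normal := inferInstance
    by_cases hD1 : D = ⊥
    swap
    · -- `Φ(F) ≠ 1`
      have hDi : ∀ a, ∀ x ∈ D, φ a x ∈ D := fun a x hx => by
        have hFmap := map_eq_of_invariant φ (fun a x hx => apply_mem_of_characteristic φ (C := F) a hx) a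
        let e : F ≃* F := ((φ a).subgroupMap F).trans (MulEquiv.subgroupCongr hFmap)
        obtain ⟨y, hy, rfl⟩ := hx
        refine ⟨e y, ?_, rfl⟩
        have := characteristic_iff_map_eq.1 (inferInstance : (frattini F).Characteristic) e
        rw [← this]
        exact mem_map_of_mem _ hy
      have hm := hquot D hDi hD1
      have hDΦ : D ≤ frattini G := by
        refine PGroup.le_frattini_of_forall_coatom fun M hM => ?_
        by_contra hDM
        have htop : D ⊔ M = ⊤ := hM.2 _ (lt_of_le_of_ne le_sup_right fun e => hDM (e ▸ le_sup_left))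
        have hF' : (M.subgroupOf F) ⊔ frattini F = ⊤ := by
          refine top_le_iff.1 fun x _ => ?_
          obtain ⟨y, ⟨y', hy', rfl⟩, m, hm, hxm⟩ := (Coprime.mem_sup_iff_of_le_normalizer'
            (H := M) (N := D) (by rw [normalizer_eq_top]; exact le_top)).1
            ((sup_comm D M ▸ htop).ge (mem_top (x : G)))
          have hmF : m ∈ F := by
            have : m = (y' : G)⁻¹ * x := by rw [← hxm]; show m = (y' : G)⁻¹ * ((y' : G) * m); group
            rw [this]
            exact mul_mem (inv_mem y'.2) x.2
          have hx' : x = y' * ⟨m, hmF⟩ := Subtype.ext hxm.symm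
          rw [hx']
          exact mul_mem (mem_sup_right hy') (mem_sup_left (show (⟨m, hmF⟩ : F) ∈ M.subgroupOf F from hm))
        have hFM : F ≤ M := subgroupOf_eq_top.1 (frattini_nongenerating hF')
        exact hDM ((map_subtype_le _).trans hFM)
      set f := QuotientGroup.mk' D
      set Φ := frattini G
      set f' := QuotientGroup.mk' Φ
      have : (fittingSubgroup (G ⧸ D)).Normal := Components.fittingSubgroup_normal _
      set X := (fittingSubgroup (G ⧸ D)).comap f ⊔ Φ with hX
      have hnil : Group.IsNilpotent (X.map f') := by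
        rw [hX, Subgroup.map_sup, (Subgroup.map_eq_bot_iff Φ (f := f')).2
          (by rw [QuotientGroup.ker_mk']), sup_bot_eq]
        let g : G ⧸ D →* G ⧸ Φ := QuotientGroup.map D Φ (MonoidHom.id G) hDΦ
        have hfg : ((fittingSubgroup (G ⧸ D)).comap f).map f' = (fittingSubgroup (G ⧸ D)).map g := by
          conv_rhs => rw [← map_comap_eq_self_of_surjective (QuotientGroup.mk'_surjective D)
            (fittingSubgroup (G ⧸ D)), map_map]
          rfl
        rw [hfg]
        have := Components.fittingSubgroup_isNilpotent (G ⧸ D)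
        exact Group.nilpotent_of_surjective _ (g.subgroupMap_surjective _)
      have := Solvable.isNilpotent_of_frattini X le_sup_right hnil
      exact fun g => Components.le_fittingSubgroup (N := X) inferInstance (mem_sup_left (hm g))
    -- `F` is elementary abelian and `G/F` acts on it
    obtain ⟨hFcomm, hFexp⟩ := (PGroup.frattini_eq_bot_iff hFr).1
      ((map_eq_bot_iff_of_injective _ F.subtype_injective).1 hD1)
    have hCF : centralizer (F : Set G) ≤ F := Components.centralizer_fittingSubgroup_le
    have hFi : ∀ a, ∀ x ∈ F, φ a x ∈ F := fun a x hx => apply_mem_of_characteristic φ a hx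
    set ψ := quotAct φ F hFi with hψ
    let _ : CommGroup F := inferInstance
    obtain ⟨d, R, hR⟩ := exists_endRepresentation (V := Additive F) r (fun x => by
      show Additive.ofMul (Additive.toMul x ^ r) = 0
      rw [hFexp]; rfl)
    let toEnd : MulAut F →* AddMonoid.End (Additive F) :=
      { toFun := fun e => MonoidHom.toAdditive e.toMonoidHom
        map_one' := AddMonoidHom.ext fun x => rfl
        map_mul' := fun e e' => AddMonoidHom.ext fun x => rfl }
    let L := R.toMonoidHom.comp toEnd
    have hL : Function.Injective L := fun e e' h => MulEquiv.ext fun x =>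
      congrArg Additive.toMul (DFunLike.congr_fun (hR h) (Additive.ofMul x))
    have hconj : ∀ g : G, g ∈ F → (MulAut.conjNormal (H := F)) g = 1 := fun g hg =>
      MulEquiv.ext fun x => Subtype.ext (by
        have h' : g * (x : G) = x * g := congrArg Subtype.val (mul_comm' (⟨g, hg⟩ : F) x)
        show g * (x : G) * g⁻¹ = x
        rw [h', mul_inv_cancel_right])
    let ρM : G ⧸ F →* MulAut F :=
      QuotientGroup.lift F (MulAut.conjNormal (H := F)) fun g hg => hconj g hg
    let resA : A →* MulAut F :=
      { toFun := fun a => ((φ a).subgroupMap F).trans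
          (MulEquiv.subgroupCongr (map_eq_of_invariant φ hFi a))
        map_one' := MulEquiv.ext fun x => Subtype.ext (by
          show φ 1 (x : G) = x
          rw [map_one, MulAut.one_apply])
        map_mul' := fun a b => MulEquiv.ext fun x => Subtype.ext (by
          show φ (a * b) (x : G) = φ a (φ b (x : G))
          rw [map_mul, MulAut.mul_apply]) }
    have hcompat : ∀ a : A, ρM.comp ((ψ a).toMonoidHom) =
        ((MulAut.conj (resA a)).toMonoidHom).comp ρM := fun a => by
      refine MonoidHom.ext fun q => ?_
      induction q using QuotientGroup.induction_on with | _ g => ?_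
      refine MulEquiv.ext fun x => Subtype.ext ?_
      show φ a g * (x : G) * (φ a g)⁻¹ = φ a (g * (((resA a)⁻¹ : MulAut F) x : G) * g⁻¹)
      have hx : φ a (((resA a)⁻¹ : MulAut F) x : G) = x :=
        congrArg Subtype.val ((resA a).apply_symm_apply x)
      rw [map_mul, map_mul, map_inv, hx]
    let ρ : SemidirectProduct (G ⧸ F) A ψ →*
        Module.End (AlgebraicClosure (ZMod r)) (Fin d → AlgebraicClosure (ZMod r)) :=
      L.comp (SemidirectProduct.lift ρM resA hcompat)
    have hAr : ((Nat.card A : ℕ) : AlgebraicClosure (ZMod r)) ≠ 0 := by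
      rw [Ne, CharP.cast_eq_zero_iff (AlgebraicClosure (ZMod r)) r]
      intro h
      exact hr.not_dvd_one (hcop ▸ Nat.dvd_gcd h (hrF.trans (card_subgroup_dvd_card F)))
    have hfaith : ∀ q : G ⧸ F, ρ (SemidirectProduct.inl q) = 1 → q = 1 := by
      intro q
      induction q using QuotientGroup.induction_on with | _ g => ?_
      intro hq
      have h1 : ρM (g : G ⧸ F) = 1 := by
        refine hL (Eq.trans ?_ (hq.trans (map_one L).symm))
        show _ = L (SemidirectProduct.lift ρM resA hcompat (SemidirectProduct.inl _))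
        rw [SemidirectProduct.lift_inl]
      rw [QuotientGroup.eq_one_iff]
      refine hCF (mem_centralizer_iff.2 fun x hx => ?_)
      have h3 : g * x * g⁻¹ = x :=
        congrArg Subtype.val (DFunLike.congr_fun h1 (⟨x, hx⟩ : F))
      exact (mul_inv_eq_iff_eq_mul.1 h3).symm
    have hsum : ∀ v, ∑ a : A, ρ (SemidirectProduct.inr a) v = 0 := by
      intro v
      have h1 : ∑ a : A, ρ (SemidirectProduct.inr a) = 0 := by
        have : ∀ a, ρ (SemidirectProduct.inr a) = L (resA a) := fun a => by
          show L (SemidirectProduct.lift ρM resA hcompat (SemidirectProduct.inr a)) = _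
          rw [SemidirectProduct.lift_inr]
        simp only [this]
        have h0 : ∀ y : F, ∏ a : A, resA a y = 1 := by
          intro y
          have hfixed : ((∏ a : A, resA a y : F) : G) ∈ Coprime.fixedBy φ := fun b => by
            show (resA b (∏ a : A, resA a y) : G) = _
            rw [map_prod]
            refine congrArg Subtype.val (Fintype.prod_equiv (Equiv.mulLeft b) _ _ fun a => ?_)
            show resA b (resA a y) = resA (b * a) y
            rw [map_mul, MulAut.mul_apply]
          rw [hfix, mem_bot] at hfixed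
          exact Subtype.ext hfixed
        show ∑ a : A, R (toEnd (resA a)) = 0
        rw [← map_sum, show ∑ a : A, toEnd (resA a) = 0 from ?_, map_zero]
        refine AddMonoidHom.ext fun x => ?_
        refine (AddMonoidHom.finsetSum_apply _ _ _).trans ?_
        show ∑ a : A, Additive.ofMul (resA a (Additive.toMul x)) = 0
        rw [← ofMul_prod, h0]
        rfl
      rw [← LinearMap.sum_apply, h1, LinearMap.zero_apply]
    have hOr : ∀ N : Subgroup (G ⧸ F), N.Normal → (∀ a, ∀ x ∈ N, ψ a x ∈ N) → IsPGroup r N →
        N = ⊥ := by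
      intro N hNn _ hNp
      have : (N.comap (QuotientGroup.mk' F)).Normal := hNn.comap _
      have hp : IsPGroup r (N.comap (QuotientGroup.mk' F)) :=
        hNp.comap_of_ker_isPGroup _ (by rw [QuotientGroup.ker_mk']; exact hFr)
      have hle : N.comap (QuotientGroup.mk' F) ≤ F :=
        (PCore.le_pCore hp).trans (Components.pCore_le_fittingSubgroup hr)
      rw [← map_comap_eq_self_of_surjective (QuotientGroup.mk'_surjective F) N,
        Subgroup.map_eq_bot_iff, QuotientGroup.ker_mk']
      exact hle
    have hMcop : (Nat.card A).Coprime (Nat.card (G ⧸ F)) :=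
      hcop.coprime_dvd_right (card_quotient_dvd_card F)
    have hMfix := fixedBy_quotAct φ F hFi hcop hA hfix
    set tau := s ^ p ^ (e - 1) with htau
    let Fix : Subgroup (G ⧸ F) := MonoidHom.eqLocus (ψ tau : (G ⧸ F) →* (G ⧸ F)) (MonoidHom.id _)
    have hFM : fittingSubgroup (G ⧸ F) ≤ Fix := by
      rw [Components.fittingSubgroup_eq_iSup_pCore]
      refine iSup_le fun q => ?_
      by_cases hqr : (q : ℕ) = r
      · have := hOr (pCore r (G ⧸ F)) (Components.pCore_normal' r) (fun a x hx => by
          have h := PCore.map_pCore_mulEquiv (p := r) (ψ a)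
          rw [← h]
          exact mem_map_of_mem _ hx) PCore.isPGroup_pCore
        rw [hqr, this]; exact bot_le
      have hq := Nat.prime_of_mem_primeFactors q.2
      have := Fact.mk hq
      intro x hx
      refine centralizes_of_cyclic ρ hp hp2 he hcard hgen hMfix hAr hfaith hsum (q := (q : ℕ)) ?_ ?_ _
        (fun a x hx => ?_) PCore.isPGroup_pCore x hx
      · intro hqp
        have h1 : (q : ℕ) ∣ Nat.card A := by rw [hcard, hqp]; exact dvd_pow_self p he
        exact hq.not_dvd_one (hMcop ▸ Nat.dvd_gcd h1 (Nat.dvd_of_mem_primeFactors q.2))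
      · rw [Ne, CharP.cast_eq_zero_iff (AlgebraicClosure (ZMod r)) r]
        exact fun h => hqr ((Nat.prime_dvd_prime_iff_eq hr hq).1 h).symm
      · have h := PCore.map_pCore_mulEquiv (p := (q : ℕ)) (ψ a)
        rw [← h]
        exact mem_map_of_mem _ hx
    intro g
    rw [← QuotientGroup.eq_one_iff (N := F)]
    set c : G ⧸ F := ((g⁻¹ * φ tau g : G) : G ⧸ F) with hc
    have hcfix : ψ tau c = c := hFM (hquot F hFi hFne g)
    have hpow : ∀ i, ψ (tau ^ i) (g : G ⧸ F) = (g : G ⧸ F) * c ^ i := by
      intro i
      induction i with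
      | zero => simp
      | succ i ih =>
        rw [pow_succ', map_mul, MulAut.mul_apply, ih, map_mul, map_pow (ψ tau), hcfix, pow_succ',
          show ψ tau (g : G ⧸ F) = (g : G ⧸ F) * c from ?_, mul_assoc]
        show ((φ tau g : G) : G ⧸ F) = (g : G ⧸ F) * ((g⁻¹ * φ tau g : G) : G ⧸ F)
        rw [← QuotientGroup.mk_mul, mul_inv_cancel_left]
    have htp : tau ^ p = 1 := by
      rw [htau, ← pow_mul, ← pow_succ, Nat.sub_add_cancel (Nat.pos_of_ne_zero he), ← hcard,
        pow_card_eq_one']
    have h1 : c ^ p = 1 := mul_left_cancel (a := (g : G ⧸ F)) (by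
      rw [← hpow, htp, map_one, MulAut.one_apply, mul_one])
    rw [← orderOf_eq_one_iff]
    exact Nat.eq_one_of_dvd_coprimes hMcop
      ((orderOf_dvd_of_pow_eq_one h1).trans (hcard ▸ dvd_pow_self p he)) (orderOf_dvd_natCard c)

/-- `t = s ^ p ^ (e - 1)` centralises `G / F(G)`. -/
theorem commLe_of_cyclic {A : Type*} [CommGroup A] [Fintype A] {p e : ℕ} {s : A} (hp : p.Prime)
    (hp2 : p ≠ 2) (he : e ≠ 0) (hcard : Nat.card A = p ^ e) (hgen : ∀ a, a ∈ Subgroup.zpowers s)
    {G : Type u} [Group G] [Finite G] [Group.IsSolvable G] (φ : A →* MulAut G)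
    (hcop : (Nat.card A).Coprime (Nat.card G)) (hfix : Coprime.fixedBy φ = ⊥) (g : G) :
    g⁻¹ * φ (s ^ p ^ (e - 1)) g ∈ fittingSubgroup G :=
  commLe_aux hp hp2 he hcard hgen _ G rfl φ hcop hfix g

end Cfsg.Agent.FittingHeight
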