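import Cfsg.Agent.Lib.FittingHeight.Setting
import Cfsg.Agent.Lib.Coprime.Commutator

/-!
# An element of prime order without fixed points on a `q`-group and on the group acting on it

If `a` of prime order normalises `K` and `S ≤ N(K)`, coprime to each other, and has no fixed point
on either, then `S` centralises `K`.
-/

namespace Cfsg.Agent.FittingHeight

open Subgroup
open scoped Pointwise

theorem hom_eq_one_of_fpf {Γ : Type*} [Group Γ] {V : Type*} [CommGroup V] [Finite V]
    (ψ : Γ →* MulAut V) {p : ℕ} (hp : p.Prime) {a : Γ} (ha : a ^ p = 1) {S : Subgroup Γ} [Finite S]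
    (hS : ∀ s ∈ S, a * s * a⁻¹ ∈ S) (hSfix : ∀ s ∈ S, a * s * a⁻¹ = s → s = 1)
    (hfix : ∀ v, ψ a v = v → v = 1) (hcop : (Nat.card S).Coprime (Nat.card V)) :
    ∀ s ∈ S, ψ s = 1 := by
  classical
  let _ : Fintype S := Fintype.ofFinite S
  have hnorm : ∀ i : ℕ, ∀ s ∈ S, a ^ i * s * (a ^ i)⁻¹ ∈ S := by
    intro i
    induction i with
    | zero => intro s hs; simpa using hs
    | succ i ih =>
      intro s hs
      have := hS _ (ih s hs)
      rwa [show a * (a ^ i * s * (a ^ i)⁻¹) * a⁻¹ = a ^ (i + 1) * s * (a ^ (i + 1))⁻¹ by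
        rw [pow_succ', mul_inv_rev]; group] at this
  -- `a` is a power of each of its non-trivial powers
  have hmem : ∀ i : ℕ, 0 < i → i < p → a ∈ zpowers (a ^ i) := by
    intro i hi hip
    have hd : orderOf a ∣ p := orderOf_dvd_of_pow_eq_one ha
    have hco : (orderOf a).Coprime i :=
      ((hp.coprime_iff_not_dvd).2 fun h => absurd (Nat.le_of_dvd hi h) (not_le.2 hip)).coprime_dvd_left hd
    obtain ⟨m, hm⟩ := exists_pow_eq_self_of_coprime hco.symm
    exact ⟨m, (zpow_natCast _ m).trans hm⟩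
  -- the norm over `S`
  let NS : V → V := fun v => ∏ s : S, ψ s v
  have hNSS : ∀ v, ∀ t ∈ S, NS (ψ t v) = NS v := fun v t ht =>
    Fintype.prod_equiv (Equiv.mulRight (⟨t, ht⟩ : S)) _ _ fun s => by
      show ψ s (ψ t v) = ψ ((s : Γ) * t) v
      rw [map_mul, MulAut.mul_apply]
  have hNSmul : ∀ v w, NS (v * w) = NS v * NS w := fun v w => by
    simp only [NS, map_mul, Finset.prod_mul_distrib]
  have hNSone : NS 1 = 1 := by simp [NS]
  have hNSinv : ∀ v, NS v⁻¹ = (NS v)⁻¹ := fun v =>
    eq_inv_of_mul_eq_one_left (by rw [← hNSmul, inv_mul_cancel, hNSone])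
  have hker : ∀ v, NS v = 1 → v = 1 := by
    intro v hv
    have hNa : ∀ i : ℕ, NS (ψ (a ^ i) v) = 1 := by
      intro i
      have : NS (ψ (a ^ i) v) = ψ (a ^ i) (NS v) := by
        simp only [NS, map_prod]
        refine (Fintype.prod_equiv
          (Equiv.ofBijective (fun s : S => (⟨a ^ i * s * (a ^ i)⁻¹, hnorm i s s.2⟩ : S))
            (Finite.injective_iff_bijective.1 fun s t h => Subtype.ext (by
              simpa using congrArg Subtype.val h))) _ _ fun s => ?_).symm
        show ψ (a ^ i) (ψ s v) = ψ (a ^ i * s * (a ^ i)⁻¹) (ψ (a ^ i) v)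
        rw [← MulAut.mul_apply, ← MulAut.mul_apply, ← map_mul, ← map_mul]
        group
      rw [this, hv, map_one]
    have hconj : ∀ s : S, ∏ i ∈ Finset.range p, ψ (s * a ^ i * (s : Γ)⁻¹) v = 1 := by
      intro s
      set x := ψ (s : Γ)⁻¹ v with hx
      have hfixed : ∏ i ∈ Finset.range p, ψ (a ^ i) x = 1 := by
        refine hfix _ ?_
        rw [map_prod]
        simp only [← MulAut.mul_apply, ← map_mul, ← pow_succ']
        obtain ⟨n, rfl⟩ : ∃ n, p = n + 1 := ⟨p - 1, by have := hp.pos; omega⟩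
        rw [Finset.prod_range_succ, ha, Finset.prod_range_succ' (fun i => ψ (a ^ i) x), pow_zero]
      have := congrArg (ψ s) hfixed
      rw [map_prod, map_one] at this
      rw [← this]
      refine Finset.prod_congr rfl fun i _ => ?_
      rw [hx, ← MulAut.mul_apply, ← MulAut.mul_apply, ← map_mul, ← map_mul, mul_assoc]
    have htot : ∏ i ∈ Finset.range p, ∏ s : S, ψ (s * a ^ i * (s : Γ)⁻¹) v = 1 := by
      rw [Finset.prod_comm]
      exact Finset.prod_eq_one fun s _ => hconj s
    have hrest : ∀ i ∈ Finset.range p, i ≠ 0 →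
        ∏ s : S, ψ (s * a ^ i * (s : Γ)⁻¹) v = 1 := by
      intro i hi hi0
      let g : S → S := fun s => ⟨s * (a ^ i * (s : Γ)⁻¹ * (a ^ i)⁻¹),
        S.mul_mem s.2 (hnorm i _ (S.inv_mem s.2))⟩
      have hg : Function.Injective g := by
        intro s t h
        have h' : (s : Γ) * (a ^ i * (s : Γ)⁻¹ * (a ^ i)⁻¹) = t * (a ^ i * (t : Γ)⁻¹ * (a ^ i)⁻¹) :=
          congrArg Subtype.val h
        have hu : (t : Γ)⁻¹ * s = a ^ i * ((t : Γ)⁻¹ * s) * (a ^ i)⁻¹ := by
          calc (t : Γ)⁻¹ * s = (t : Γ)⁻¹ * (s * (a ^ i * (s : Γ)⁻¹ * (a ^ i)⁻¹)) *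
              (a ^ i * s * (a ^ i)⁻¹) := by group
            _ = _ := by rw [h']; group
        have hc : a ^ i ∈ centralizer {(t : Γ)⁻¹ * s} := by
          rw [mem_centralizer_singleton_iff]
          conv_rhs => rw [hu]
          group
        have ha' := (zpowers_le.2 hc) (hmem i (Nat.pos_of_ne_zero hi0) (Finset.mem_range.1 hi))
        rw [mem_centralizer_singleton_iff] at ha'
        have := hSfix _ (S.mul_mem (S.inv_mem t.2) s.2) (by rw [ha', mul_inv_cancel_right])
        exact Subtype.ext (inv_mul_eq_one.1 this).symm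
      rw [← hNa i]
      refine Fintype.prod_equiv (Equiv.ofBijective g (Finite.injective_iff_bijective.1 hg)) _ _
        fun s => ?_
      show ψ (s * a ^ i * (s : Γ)⁻¹) v = ψ (s * (a ^ i * (s : Γ)⁻¹ * (a ^ i)⁻¹)) (ψ (a ^ i) v)
      rw [← MulAut.mul_apply, ← map_mul]
      group
    rw [Finset.prod_eq_single_of_mem 0 (Finset.mem_range.2 hp.pos) hrest] at htot
    have hv' : v ^ Fintype.card S = 1 := by simpa using htot
    rw [← orderOf_eq_one_iff]
    refine Nat.eq_one_of_dvd_coprimes hcop ?_ (orderOf_dvd_natCard v)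
    rw [Nat.card_eq_fintype_card]
    exact orderOf_dvd_of_pow_eq_one hv'
  intro s hs
  refine MulEquiv.ext fun v => ?_
  have := hker (ψ s v * v⁻¹) (by rw [hNSmul, hNSS v s hs, hNSinv, mul_inv_cancel])
  rw [MulAut.one_apply]
  exact mul_inv_eq_one.1 this

/-- The form used in the applications. -/
theorem le_centralizer_of_fpf {Γ : Type*} [Group Γ] [Finite Γ] {p q : ℕ} (hp : p.Prime)
    [Fact q.Prime] {a : Γ} (ha : a ^ p = 1) {K S : Subgroup Γ} (hK : IsPGroup q K)
    (hSK : S ≤ normalizer (K : Set Γ)) (haK : a ∈ normalizer (K : Set Γ))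
    (hcop : (Nat.card S).Coprime (Nat.card K)) (hpK : p.Coprime (Nat.card K))
    (hS : ∀ s ∈ S, a * s * a⁻¹ ∈ S) (hSfix : ∀ s ∈ S, a * s * a⁻¹ = s → s = 1)
    (hKfix : ∀ x ∈ K, a * x * a⁻¹ = x → x = 1) : S ≤ centralizer (K : Set Γ) := by
  set N := normalizer (K : Set Γ)
  set cN : N →* MulAut K := K.normalizerMonoidHom with hcN
  set Φ := frattini K
  have hΦi : ∀ g, ∀ x ∈ Φ, cN g x ∈ Φ := fun g x hx => apply_mem_of_characteristic cN g hx
  let _ : CommGroup (K ⧸ Φ) :=
    { (inferInstance : Group (K ⧸ Φ)) with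
      mul_comm := fun x y => by
        induction x using QuotientGroup.induction_on with | _ x => ?_
        induction y using QuotientGroup.induction_on with | _ y => ?_
        rw [← QuotientGroup.mk_mul, ← QuotientGroup.mk_mul, QuotientGroup.eq]
        have := PGroup.commutator_le_frattini hK
          (commutator_mem_commutator (mem_top y⁻¹) (mem_top x⁻¹))
        rwa [commutatorElement_def, inv_inv, inv_inv, show y⁻¹ * x⁻¹ * y * x = (x * y)⁻¹ * (y * x)
          by group] at this }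
  set ψ := quotAct cN Φ hΦi with hψ
  set a' : N := ⟨a, haK⟩
  have ha' : a' ^ p = 1 := Subtype.ext ha
  have hsA : Group.IsSolvable (zpowers a') := Group.isSolvable_of_comm fun x y => mul_comm' x y
  have hcopA : (Nat.card (zpowers a')).Coprime (Nat.card K) := by
    rw [Nat.card_zpowers]
    exact hpK.coprime_dvd_left (orderOf_dvd_of_pow_eq_one ha')
  have hfix0 : Coprime.fixedBy (cN.comp (zpowers a').subtype) = ⊥ := by
    rw [Subgroup.eq_bot_iff_forall]
    intro x hx
    exact Subtype.ext (hKfix x x.2 (congrArg Subtype.val (hx ⟨a', mem_zpowers a'⟩)))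
  have hfix : ∀ v, ψ a' v = v → v = 1 := by
    intro v hv
    have hq := fixedBy_quotAct (cN.comp (zpowers a').subtype) Φ (fun g x hx => hΦi g x hx) hcopA
      hsA hfix0
    rw [← mem_bot (G := K ⧸ Φ), ← hq]
    rintro ⟨_, i, rfl⟩
    show ψ (a' ^ i) v = v
    rw [map_zpow]
    exact zpow_mem (show ψ a' ∈ MulAction.stabilizer (MulAut (K ⧸ Φ)) v from hv) i
  have h1 := hom_eq_one_of_fpf ψ hp ha' (S := S.subgroupOf N) (fun s hs => hS s hs)
    (fun s hs h => Subtype.ext (hSfix s hs (congrArg Subtype.val h))) hfix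
    (by rw [Coprime.card_subgroupOf hSK]
        exact hcop.coprime_dvd_right (card_quotient_dvd_card Φ))
  refine Coprime.le_centralizer_of_frattini hSK
    (hcop.coprime_dvd_right (card_subgroup_dvd_card Φ)) fun s hs k hk => ?_
  have h2 := DFunLike.congr_fun (h1 ⟨s, hSK hs⟩ hs) ((⟨k, hk⟩ : K) : K ⧸ Φ)
  rw [hψ, quotAct_mk, MulAut.one_apply, QuotientGroup.eq_iff_div_mem] at h2
  refine ⟨_, h2, ?_⟩
  simp [hcN, div_eq_mul_inv, Subgroup.normalizerMonoidHom]
  rfl

end Cfsg.Agent.FittingHeight
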