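import Cfsg.Agent.Lib.FittingHeight.PQStageOne

/-!
# A nonabelian group of order `p q` without fixed points

In the linear configuration `M` is nilpotent. `S` is a minimal invariant `s`-subgroup not centralising
`O_t(M)`, `Q ≤ O_t(M)` minimal with the same property.
-/

namespace Cfsg.Agent.FittingHeight

open Subgroup SemidirectProduct Module
open scoped commutatorElement IsMulCommutative

universe u

variable {M : Type*} [Group M] {A : Type*} [Group A] {φ : A →* MulAut M} {k : Type*} [Field k]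
  {E : Type*} [AddCommGroup E] [Module k E] (ρ : M ⋊[φ] A →* Module.End k E)

theorem inv_conj_mem_wStab {Γ : Type*} [Group Γ] {L : Subgroup Γ} {χ : L →* k} {n x : Γ}
    (hn : n ∈ normalizer (L : Set Γ)) (hx : x ∈ wStab k L (twist k L n hn χ)) :
    n⁻¹ * x * n ∈ wStab k L χ := by
  obtain ⟨hxN, he⟩ := hx
  refine ⟨mul_mem (mul_mem (inv_mem hn) hxN) hn, ?_⟩
  rw [← twist_twist (mul_mem (inv_mem hn) hxN) hn, ← twist_twist (inv_mem hn) hxN, he,
    twist_twist, twist_congr _ (one_mem _) (inv_mul_cancel n), twist_one]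

theorem inl_mul_inr_mul (u w : M) (e f : A) :
    (inl u * inr e : M ⋊[φ] A) * (inl w * inr f) = inl (u * φ e w) * inr (e * f) := by
  rw [map_mul inl, map_mul inr, inl_apply]
  group

theorem wRes_eq_of_inl_mem {Q : Subgroup M} {χ : (Q.map (inl : M →* M ⋊[φ] A)) →* k} {g : M}
    (hg : (inl g : M ⋊[φ] A) ∈ wStab k (Q.map inl) χ) {x : M} (hx : x ∈ Q)
    (hgx : g * x * g⁻¹ ∈ Q) : wVal Q χ (g * x * g⁻¹) = wVal Q χ x := by
  rw [wVal_of_mem hgx, wVal_of_mem hx, ← apply_eq_of_mem_wStab hg ⟨inl x, mem_map_of_mem _ hx⟩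
    (by rw [← map_inv, ← map_mul, ← map_mul]; exact mem_map_of_mem _ hgx)]
  congr 1
  exact Subtype.ext (by
    show inl (g * x * g⁻¹) = inl g * inl x * (inl g)⁻¹
    rw [map_mul, map_mul, map_inv])

theorem exists_stab_generator [Finite A] {B : Subgroup A} {b : A} {p q : ℕ}
    (hA : IsFrobPQ B b p q) {H : Subgroup A} (hne : H ≠ ⊥) (htop : H ≠ ⊤) :
    (H = B ∧ b ∈ H) ∨ ∃ a, a ∉ B ∧ a ∈ H ∧ H = zpowers a := by
  obtain ⟨⟨e, he⟩, he1⟩ := Subgroup.ne_bot_iff_exists_ne_one.1 hne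
  have he1' : e ≠ 1 := fun h => he1 (Subtype.ext h)
  by_cases heB : e ∈ B
  · refine Or.inl ?_
    have hBH : B ≤ H := (hA.eq_zpowers heB he1').le.trans (zpowers_le.2 he)
    refine ⟨le_antisymm (fun x hx => ?_) hBH, hBH hA.b_mem⟩
    by_contra hxB
    exact htop (hA.gen x hxB e heB he1' H hx he)
  · refine Or.inr ⟨e, heB, he, le_antisymm (fun x hx => ?_) (zpowers_le.2 he)⟩
    by_contra hxe
    by_cases hxB : x ∈ B
    · exact htop (hA.gen e heB x hxB (fun h => hxe (h ▸ one_mem _)) H he hx)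
    · exact htop (hA.gen2 e heB x hxe hxB H he hx)

theorem inv_conj_aux (f : MulAut M) (g : M) : g⁻¹ * (g * f g⁻¹)⁻¹ * g⁻¹⁻¹ = g⁻¹ * f g := by
  rw [map_inv]; group

theorem bijective_commutator_of_fpf [Finite M] {S : Subgroup M} (hSi : ∀ e, ∀ x ∈ S, φ e x ∈ S)
    {a : A} (hfix : ∀ x ∈ S, φ a x = x → x = 1) :
    ∀ g ∈ S, ∃ u ∈ S, u⁻¹ * φ a u = g := by
  intro g hg
  let f : S → S := fun t => ⟨(t : M)⁻¹ * φ a t, mul_mem (inv_mem t.2) (hSi a t t.2)⟩
  have hf : Function.Injective f := fun t t' h => by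
    have h' : (t : M)⁻¹ * φ a t = (t' : M)⁻¹ * φ a t' := congrArg Subtype.val h
    have : φ a ((t' : M) * (t : M)⁻¹) = (t' : M) * (t : M)⁻¹ := by
      rw [map_mul, map_inv]
      calc φ a t' * (φ a t)⁻¹ = t' * ((t' : M)⁻¹ * φ a t') * ((t : M)⁻¹ * φ a t)⁻¹ *
          (t : M)⁻¹ := by group
        _ = (t' : M) * (t : M)⁻¹ := by rw [← h']; group
    exact Subtype.ext (mul_inv_eq_one.1 (hfix _ (mul_mem t'.2 (inv_mem t.2)) this)).symm
  obtain ⟨t, ht⟩ := (Finite.injective_iff_surjective.1 hf) ⟨g, hg⟩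
  exact ⟨t, t.2, congrArg Subtype.val ht⟩

section Config

variable [Finite M] [Fintype A] {B : Subgroup A} {b : A} {p q : ℕ} (hA : IsFrobPQ B b p q)
  (hcop : (Nat.card A).Coprime (Nat.card M)) (hfix : Coprime.fixedBy φ = ⊥)
  (hsum : ∀ v, ∑ a : A, ρ (inr a) v = 0) {Q S : Subgroup M} (hQi : ∀ e, ∀ x ∈ Q, φ e x ∈ Q)
  (hSi : ∀ e, ∀ x ∈ S, φ e x ∈ S) (hSQ : S ≤ normalizer (Q : Set M)) (hQS : ⁅Q, S⁆ = Q)
  (hcomm : ∀ g ∈ S, ∀ g' ∈ S, ⁅g, g'⁆ ∈ centralizer (Q : Set M))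
  (hab : (∀ g ∈ S, φ b g = g) ∨ ∀ g ∈ S, φ b g = g → g ∈ centralizer (Q : Set M))
  (hcopSQ : (Nat.card S).Coprime (Nat.card Q))

include hA hfix in
theorem eq_one_of_fixed_two {a : A} (ha : a ∉ B) {x : M} (hax : φ a x = x) (hbx : φ b x = x) :
    x = 1 := by
  have htop := hA.gen a ha b hA.b_mem hA.b_ne_one
    ((MulAction.stabilizer (MulAut M) x).comap φ) hax hbx
  have : x ∈ Coprime.fixedBy φ := fun e =>
    (htop.ge (mem_top e) : φ e ∈ MulAction.stabilizer (MulAut M) x)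
  rwa [hfix, mem_bot] at this

include hA hcop in
/-- An invariant subgroup containing the fixed points of `b` and the coset of `g` contains `g`. -/
theorem mem_of_coset_fixed {T : Subgroup M} (hTS : T ≤ S) (hTb : ∀ x ∈ T, φ b x ∈ T)
    (hCb : ∀ g ∈ S, φ b g = g → g ∈ T) {g : M} (hg : g ∈ S) (hgb : g⁻¹ * φ b g ∈ T) : g ∈ T := by
  have hTz : ∀ e : zpowers b, ∀ x ∈ T, (φ.comp (zpowers b).subtype) e x ∈ T := by
    rintro ⟨e, he⟩ x hx
    obtain ⟨i, rfl⟩ : ∃ i : ℕ, b ^ i = e := mem_powers_iff_mem_zpowers.2 he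
    show φ (b ^ i) x ∈ T
    induction i with
    | zero => rwa [pow_zero, map_one, MulAut.one_apply]
    | succ i ih =>
      rw [pow_succ', map_mul, MulAut.mul_apply]
      exact hTb _ (ih (pow_mem (mem_zpowers b) i))
  have hmem : (⟨b, mem_zpowers b⟩ : zpowers b) ∈ cosetStab (φ.comp (zpowers b).subtype) T hTz g :=
    hgb
  obtain ⟨n, hn, hnfix⟩ := Coprime.exists_fixed_mul_mem_hom (φ.comp (zpowers b).subtype) hTz
    ((hcop.coprime_dvd_left (card_subgroup_dvd_card _)).coprime_dvd_right (card_subgroup_dvd_card T))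
    (Or.inl (Group.isSolvable_of_comm fun x y => mul_comm' x y)) (k := g) (by
      rintro ⟨_, i, rfl⟩
      exact zpow_mem hmem i)
  have h := hCb (g * n) (mul_mem hg (hTS hn)) (hnfix ⟨b, mem_zpowers b⟩)
  exact (T.mul_mem_cancel_right hn).1 h

include ρ hA hcop hfix hsum hQi hSi hSQ hQS hcomm hab hcopSQ in
/-- The abelian stage. -/
theorem wVal_eq_one_of_comm [IsMulCommutative Q]
    (hQb : (∀ g ∈ S, φ b g = g) → ∀ x ∈ Q, φ b x = x → x = 1)
    {χ : (Q.map (inl : M →* M ⋊[φ] A)) →* k} {v : E} (hv0 : v ≠ 0)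
    (hv : v ∈ weightSpace ρ (Q.map inl) χ) : ∀ x ∈ Q, wVal Q χ x = 1 := by
  classical
  by_contra hne
  have hnormS : ∀ g ∈ S, (inl g : M ⋊[φ] A) ∈
      normalizer ((Q.map inl : Subgroup (M ⋊[φ] A)) : Set (M ⋊[φ] A)) := fun g hg =>
    le_normalizer_map inl (mem_map_of_mem _ (hSQ hg))
  let NT : ((Q.map (inl : M →* M ⋊[φ] A)) →* k) → Prop := fun χ =>
    ∃ x ∈ Q, wVal Q χ x ≠ 1
  have hNT : NT χ := by
    push Not at hne
    exact hne
  let Tof : ((Q.map (inl : M →* M ⋊[φ] A)) →* k) → Subgroup M := fun χ =>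
    S ⊓ (wStab k (Q.map inl) χ).comap inl
  have hTc : ∀ χ, ∀ g ∈ S, ∀ g' ∈ S, ⁅g, g'⁆ ∈ Tof χ := fun χ g hg g' hg' =>
    ⟨by rw [commutatorElement_def]; exact S.mul_mem (S.mul_mem (S.mul_mem hg hg') (S.inv_mem hg)) (S.inv_mem hg'),
      centralizer_le_wStab χ (inl_mem_centralizer (hcomm g hg g' hg'))⟩
  have hTn : ∀ χ, ∀ t ∈ Tof χ, ∀ g ∈ S, g * t * g⁻¹ ∈ Tof χ := fun χ t ht g hg => by
    have := mul_mem (hTc χ g hg t ht.1) ht
    rwa [commutatorElement_def, inv_mul_cancel_right] at this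
  -- a translated weight is occurring and non-trivial
  have htrans : ∀ (χ : (Q.map (inl : M →* M ⋊[φ] A)) →* k) (v : E), v ≠ 0 →
      v ∈ weightSpace ρ (Q.map inl) χ → NT χ → ∀ g, ∀ hg : g ∈ S,
      ρ (inl g⁻¹) v ≠ 0 ∧
      ρ (inl g⁻¹) v ∈ weightSpace ρ (Q.map inl)
        (twist k (Q.map inl) (inl g⁻¹) (hnormS _ (inv_mem hg)) χ) ∧
      NT (twist k (Q.map inl) (inl g⁻¹) (hnormS _ (inv_mem hg)) χ) := by
    intro χ v hv0 hv hnt g hg
    refine ⟨fun h => hv0 ?_, mapsTo_weightSpace ρ _ hv, ?_⟩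
    · have := congrArg (ρ (inl g)) h
      rwa [← apply_mul, ← map_mul, mul_inv_cancel, map_one, apply_one, map_zero] at this
    · obtain ⟨x, hx, hx1⟩ := hnt
      have hgx : g⁻¹ * x * g⁻¹⁻¹ ∈ Q := (mem_normalizer_iff.1 (hSQ (inv_mem hg)) x).1 hx
      refine ⟨_, hgx, ?_⟩
      rw [wVal_of_mem hgx, twist_apply]
      rw [wVal_of_mem hx] at hx1
      refine fun h => hx1 (Eq.trans (congrArg χ (Subtype.ext ?_)) h)
      show (inl x : M ⋊[φ] A) = (inl g⁻¹)⁻¹ * inl (g⁻¹ * x * g⁻¹⁻¹) * inl g⁻¹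
      rw [← map_inv, ← map_mul, ← map_mul]
      congr 1
      group
  -- a translate is stabilised by some `e ≠ 1`
  have hK : ∀ (χ : (Q.map (inl : M →* M ⋊[φ] A)) →* k) (v : E), v ≠ 0 →
      v ∈ weightSpace ρ (Q.map inl) χ → NT χ → ∀ g ∈ S, ∃ e, e ≠ 1 ∧
      (inl (g * φ e g⁻¹) * inr e : M ⋊[φ] A) ∈ wStab k (Q.map inl) χ := by
    intro χ v hv0 hv hnt g hg
    obtain ⟨h1, h2, -⟩ := htrans χ v hv0 hv hnt g hg
    obtain ⟨⟨e, he⟩, he1⟩ :=
      Subgroup.ne_bot_iff_exists_ne_one.1 (aStab_ne_bot ρ hQi h2 h1 (hsum _))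
    refine ⟨e, fun h => he1 (Subtype.ext h), ?_⟩
    have h3 := inv_conj_mem_wStab (hnormS _ (inv_mem hg)) (mem_aStab.1 he)
    refine (congrArg (· ∈ wStab k (Q.map inl) χ) ?_).mp h3
    rw [map_mul inl g, inl_apply, map_inv (inl : M →* M ⋊[φ] A) g]
    group
  -- the elements of `A` fixing the orbit
  let Sig : ((Q.map (inl : M →* M ⋊[φ] A)) →* k) → Subgroup A := fun χ =>
    { carrier := {e | ∃ u ∈ S, (inl u * inr e : M ⋊[φ] A) ∈ wStab k (Q.map inl) χ}
      one_mem' := ⟨1, one_mem S, by rw [map_one, map_one, mul_one]; exact one_mem _⟩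
      mul_mem' := fun {e f} ⟨u, hu, hue⟩ ⟨w, hw, hwf⟩ => ⟨u * φ e w, mul_mem hu (hSi e w hw), by
        rw [← inl_mul_inr_mul]; exact mul_mem hue hwf⟩
      inv_mem' := fun {e} ⟨u, hu, hue⟩ => ⟨φ e⁻¹ u⁻¹, hSi _ _ (inv_mem hu), by
        have h := inv_mem hue
        rw [mul_inv_rev, ← map_inv, ← map_inv] at h
        refine (congrArg (· ∈ wStab k (Q.map inl) χ) ?_).mp h
        rw [inl_apply, inv_mul_cancel_right]⟩ }
  have hproper : ∀ (χ : (Q.map (inl : M →* M ⋊[φ] A)) →* k), NT χ → aStab Q χ ≠ ⊤ := by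
    rintro χ ⟨x, hx, hx1⟩ h
    apply hx1
    rw [wVal_of_mem hx]
    exact wRes_eq_one_of_forall_mem hcop hfix hQi (fun e => h.ge (mem_top e)) ⟨x, hx⟩
  have haT : ∀ (χ : (Q.map (inl : M →* M ⋊[φ] A)) →* k) {a : A}, a ∈ aStab Q χ →
      ∀ g ∈ S, (∃ e ∈ zpowers a, e ≠ 1 ∧
        (inl (g * φ e g⁻¹) * inr e : M ⋊[φ] A) ∈ wStab k (Q.map inl) χ) →
      orderOf a = p ∨ orderOf a = q → g * φ a g⁻¹ ∈ Tof χ := by
    intro χ a haS g hg ⟨e, he, he1, hmem⟩ hord
    have hpr : (orderOf a).Prime := by rcases hord with h | h <;> rw [h]; exacts [hA.hp, hA.hq]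
    have hze : zpowers e = zpowers a := by
      refine eq_of_le_of_card_ge (zpowers_le.2 he) ?_
      rw [Nat.card_zpowers, Nat.card_zpowers]
      rcases (Nat.dvd_prime hpr).1 (Nat.card_zpowers a ▸ (zpowers a).orderOf_dvd_natCard he) with h | h
      · exact absurd (orderOf_eq_one_iff.1 h) he1
      · exact h.ge
    let Nd : Subgroup A :=
      { carrier := {f | (inl (g * φ f g⁻¹) * inr f : M ⋊[φ] A) ∈ wStab k (Q.map inl) χ}
        one_mem' := by
          show (inl (g * φ 1 g⁻¹) * inr 1 : M ⋊[φ] A) ∈ wStab k (Q.map inl) χ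
          rw [map_one φ, MulAut.one_apply, mul_inv_cancel, map_one, map_one, mul_one]
          exact one_mem _
        mul_mem' := fun {e f} he hf => by
          show (inl (g * φ (e * f) g⁻¹) * inr (e * f) : M ⋊[φ] A) ∈ wStab k (Q.map inl) χ
          rw [show g * φ (e * f) g⁻¹ = (g * φ e g⁻¹) * φ e (g * φ f g⁻¹) by
            rw [map_mul φ, MulAut.mul_apply, map_mul, map_inv (φ e) g]; group, ← inl_mul_inr_mul]
          exact mul_mem he hf
        inv_mem' := fun {e} he => by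
          show (inl (g * φ e⁻¹ g⁻¹) * inr e⁻¹ : M ⋊[φ] A) ∈ wStab k (Q.map inl) χ
          refine (congrArg (· ∈ wStab k (Q.map inl) χ) ?_).mp (inv_mem he)
          rw [map_mul inl, map_mul inl, inl_apply, inl_apply]
          simp only [map_inv]
          group }
    have hNd : a ∈ Nd := (zpowers_le.2 (show e ∈ Nd from hmem)) (hze.ge (mem_zpowers a))
    refine ⟨mul_mem hg (hSi a _ (inv_mem hg)), ?_⟩
    show (inl (g * φ a g⁻¹) : M ⋊[φ] A) ∈ wStab k (Q.map inl) χ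
    have := mul_mem (show _ ∈ wStab k (Q.map inl) χ from hNd) (inv_mem (mem_aStab.1 haS))
    rwa [mul_inv_cancel_right] at this
  have hQb' : ∀ (χ : (Q.map (inl : M →* M ⋊[φ] A)) →* k), NT χ → (∀ g ∈ S, φ b g = g) →
      b ∉ aStab Q χ := by
    rintro χ ⟨x, hx, hx1⟩ hS hbS
    apply hx1
    rw [wVal_of_mem hx]
    exact weight_eq_one_of_fixedPointFree le_rfl (hQi b) (mem_aStab.1 hbS) (hQb hS)
      (mem_map_of_mem _ hx)
  -- `S` fixing the weight is a contradiction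
  have hST : ∀ (χ : (Q.map (inl : M →* M ⋊[φ] A)) →* k), NT χ → ¬ S ≤ Tof χ := by
    rintro χ ⟨x, hx, hx1⟩ hle
    apply hx1
    let Ker : Subgroup M :=
      { carrier := {y | y ∈ Q ∧ wVal Q χ y = 1}
        one_mem' := ⟨one_mem Q, wVal_one⟩
        mul_mem' := fun ha hb => ⟨mul_mem ha.1 hb.1, by rw [wVal_mul ha.1 hb.1, ha.2, hb.2,
          mul_one]⟩
        inv_mem' := fun ha => ⟨inv_mem ha.1, by rw [wVal_inv ha.1, ha.2, inv_one]⟩ }
    have hK : ⁅Q, S⁆ ≤ Ker := Subgroup.commutator_le.2 fun y hy g hg => by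
      have hgy := (mem_normalizer_iff.1 (hSQ hg) y⁻¹).1 (inv_mem hy)
      rw [commutatorElement_def, show y * g * y⁻¹ * g⁻¹ = y * (g * y⁻¹ * g⁻¹) by group]
      refine ⟨mul_mem hy hgy, ?_⟩
      rw [wVal_mul hy hgy, wRes_eq_of_inl_mem (hle hg).2 (inv_mem hy) hgy, ← wVal_mul hy (inv_mem hy),
        mul_inv_cancel, wVal_one]
    exact (hK (hQS.ge hx)).2
  -- `b` does not fix an occurring weight
  have hb1 : ∀ (χ : (Q.map (inl : M →* M ⋊[φ] A)) →* k) (v : E), v ≠ 0 →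
      v ∈ weightSpace ρ (Q.map inl) χ → NT χ → b ∉ aStab Q χ := by
    intro χ v hv0 hv hnt hbS
    rcases hab with hS | hS
    · exact hQb' χ hnt hS hbS
    apply hST χ hnt
    have hCb : ∀ g ∈ S, φ b g = g → g ∈ Tof χ := fun g hg h =>
      ⟨hg, centralizer_le_wStab χ (inl_mem_centralizer (hS g hg h))⟩
    have hTb : ∀ x ∈ Tof χ, φ b x ∈ Tof χ := fun x hx => ⟨hSi b x hx.1, by
      show (inl (φ b x) : M ⋊[φ] A) ∈ wStab k (Q.map inl) χ
      rw [inl_apply]
      exact mul_mem (mul_mem (mem_aStab.1 hbS) hx.2) (inv_mem (mem_aStab.1 hbS))⟩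
    intro g hg
    obtain ⟨e, he1, hmem⟩ := hK χ v hv0 hv hnt g hg
    by_cases heB : e ∈ B
    · have h := haT χ hbS g hg ⟨e, hA.hB.le heB, he1, hmem⟩ (Or.inr hA.ob)
      refine mem_of_coset_fixed hA hcop (T := Tof χ) inf_le_left hTb hCb hg ?_
      have h' := hTn χ _ (inv_mem h) g⁻¹ (inv_mem hg)
      rwa [inv_conj_aux] at h'
    · -- the orbit would be fixed by all of `A`
      exfalso
      set w := g * φ e g⁻¹
      have hwS : w ∈ S := mul_mem hg (hSi e _ (inv_mem hg))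
      have hcB : e * b * e⁻¹ ∈ B := hA.normal.conj_mem b hA.b_mem e
      have hc1 : e * b * e⁻¹ ≠ 1 := fun h => hA.b_ne_one (by
        have := congrArg (fun z => e⁻¹ * z * e) h
        simpa [mul_assoc] using this)
      have hBst : B ≤ aStab Q χ := (hA.eq_zpowers hA.b_mem hA.b_ne_one).le.trans (zpowers_le.2 hbS)
      have hwT : w ∈ Tof χ := by
        have h1 : w * φ (e * b * e⁻¹) w⁻¹ ∈ Tof χ := by
          refine ⟨mul_mem hwS (hSi _ _ (inv_mem hwS)), ?_⟩
          show (inl (w * φ (e * b * e⁻¹) w⁻¹) : M ⋊[φ] A) ∈ wStab k (Q.map inl) χ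
          have := mul_mem (mul_mem (mul_mem hmem (mem_aStab.1 hbS)) (inv_mem hmem))
            (inv_mem (mem_aStab.1 (hBst hcB)))
          refine (congrArg (· ∈ wStab k (Q.map inl) χ) ?_).mp this
          rw [map_mul inl w, inl_apply, map_inv (inl : M →* M ⋊[φ] A) w]
          simp only [map_mul, map_inv]
          group
        let Fix : Subgroup A :=
          { carrier := {f | f ∈ aStab Q χ ∧ w * φ f w⁻¹ ∈ Tof χ}
            one_mem' := ⟨one_mem _, by simp [one_mem]⟩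
            mul_mem' := fun {f f'} hf hf' => ⟨mul_mem hf.1 hf'.1, by
              rw [show w * φ (f * f') w⁻¹ = (w * φ f w⁻¹) * φ f (w * φ f' w⁻¹) by
                rw [map_mul φ, MulAut.mul_apply, map_mul, map_inv (φ f) w]; group]
              refine mul_mem hf.2 ⟨hSi f _ hf'.2.1, ?_⟩
              show (inl (φ f _) : M ⋊[φ] A) ∈ wStab k (Q.map inl) χ
              rw [inl_apply]
              exact mul_mem (mul_mem (mem_aStab.1 hf.1) hf'.2.2) (inv_mem (mem_aStab.1 hf.1))⟩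
            inv_mem' := fun {f} hf => ⟨inv_mem hf.1, by
              have : φ f⁻¹ (w * φ f w⁻¹)⁻¹ = w * φ f⁻¹ w⁻¹ := by
                rw [mul_inv_rev, map_mul, map_inv (φ f), inv_inv, ← MulAut.mul_apply, ← map_mul,
                  inv_mul_cancel, map_one, MulAut.one_apply]
              rw [← this]
              refine ⟨hSi _ _ (inv_mem hf.2.1), ?_⟩
              show (inl (φ f⁻¹ _) : M ⋊[φ] A) ∈ wStab k (Q.map inl) χ
              rw [inl_apply]
              exact mul_mem (mul_mem (mem_aStab.1 (inv_mem hf.1)) (inv_mem hf.2).2)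
                (inv_mem (mem_aStab.1 (inv_mem hf.1)))⟩ }
        have hbF : b ∈ Fix := (zpowers_le.2 (show e * b * e⁻¹ ∈ Fix from ⟨hBst hcB, h1⟩))
          ((hA.eq_zpowers hcB hc1).le hA.b_mem)
        refine mem_of_coset_fixed hA hcop (T := Tof χ) inf_le_left hTb hCb hwS ?_
        have h' := hTn χ _ (inv_mem hbF.2) w⁻¹ (inv_mem hwS)
        rwa [inv_conj_aux] at h'
      have heS : e ∈ aStab Q χ := by
        have := mul_mem (inv_mem (show (inl w : M ⋊[φ] A) ∈ wStab k (Q.map inl) χ from hwT.2)) hmem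
        rwa [inv_mul_cancel_left] at this
      exact hproper χ hnt (hA.gen e heB b hA.b_mem hA.b_ne_one _ heS hbS)
  -- so a reflection-like element fixes the weight
  obtain ⟨a, haB, haS, -⟩ : ∃ a, a ∉ B ∧ a ∈ aStab Q χ ∧ aStab Q χ = zpowers a :=
    (exists_stab_generator hA (aStab_ne_bot ρ hQi hv hv0 (hsum v)) (hproper χ hNT)).resolve_left
      fun h => hb1 χ v hv0 hv hNT h.2
  have hoa : orderOf a = p := by
    have := Fact.mk hA.hp
    exact orderOf_eq_prime (hA.pow_p a haB) fun h => haB (h ▸ one_mem B)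
  have hSig : Sig χ ≠ ⊤ := by
    intro htop
    obtain ⟨u, huS, hub⟩ := htop.ge (mem_top b)
    rcases hab with hS | hS
    · -- commuting parts separate
      have hcm : Commute (inl u : M ⋊[φ] A) (inr b) := by
        show inl u * inr b = inr b * inl u
        conv_lhs => rw [← hS u huS, inl_apply, inv_mul_cancel_right]
      have h1 := pow_mem hub (Nat.card S)
      rw [hcm.mul_pow, ← map_pow, ← map_pow,
        show u ^ Nat.card S = 1 from
          congrArg Subtype.val (pow_card_eq_one' (x := (⟨u, huS⟩ : S))), map_one, one_mul] at h1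
      have hbS' : b ^ Nat.card S ∈ aStab Q χ := h1
      have hco : (Nat.card S).Coprime (orderOf b) :=
        (hcop.coprime_dvd_left (orderOf_dvd_natCard b)).symm.coprime_dvd_left
          (card_subgroup_dvd_card S)
      obtain ⟨m, hm⟩ := exists_pow_eq_self_of_coprime hco
      exact hb1 χ v hv0 hv hNT (hm ▸ pow_mem hbS' m)
    · -- some translate is fixed by `b`
      have hCb : ∀ g ∈ S, φ b g = g → g ∈ Tof χ := fun g hg h =>
        ⟨hg, centralizer_le_wStab χ (inl_mem_centralizer (hS g hg h))⟩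
      have hTb : ∀ x ∈ Tof χ, φ b x ∈ Tof χ := fun x hx => by
        have h1 : u * φ b x * u⁻¹ ∈ Tof χ := ⟨S.mul_mem (S.mul_mem huS (hSi b x hx.1)) (S.inv_mem huS), by
          show (inl (u * φ b x * u⁻¹) : M ⋊[φ] A) ∈ wStab k (Q.map inl) χ
          have := mul_mem (mul_mem hub hx.2) (inv_mem hub)
          refine (congrArg (· ∈ wStab k (Q.map inl) χ) ?_).mp this
          rw [map_mul, map_mul, map_inv, inl_apply]
          group⟩
        have := hTn χ _ h1 u⁻¹ (inv_mem huS)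
        rwa [show u⁻¹ * (u * φ b x * u⁻¹) * u⁻¹⁻¹ = φ b x by group] at this
      set T' := (Tof χ).subgroupOf S with hT'
      have hT'n : T'.Normal := ⟨fun t ht g => hTn χ t ht g g.2⟩
      have hqc : ∀ x y : S, (x : S ⧸ T') * y = (y : S ⧸ T') * x := fun x y => by
        rw [← QuotientGroup.mk_mul, ← QuotientGroup.mk_mul, QuotientGroup.eq]
        have := hTc χ _ (inv_mem y.2) _ (inv_mem x.2)
        rw [commutatorElement_def, inv_inv, inv_inv] at this
        show (((x : M) * y)⁻¹ * ((y : M) * x)) ∈ Tof χ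
        rwa [show ((x : M) * y)⁻¹ * ((y : M) * x) = (y : M)⁻¹ * (x : M)⁻¹ * y * x by group]
      let F : S ⧸ T' → S ⧸ T' := fun z =>
        ((z.out * ⟨φ b (z.out : M), hSi b _ z.out.2⟩⁻¹ : S) : S ⧸ T')
      have hF : Function.Injective F := by
        intro z z' he
        let mb : S → S := fun y => ⟨φ b (y : M), hSi b _ y.2⟩
        have he' : (z.out : S ⧸ T') * (mb z.out : S ⧸ T')⁻¹ =
            (z'.out : S ⧸ T') * (mb z'.out : S ⧸ T')⁻¹ := he
        set k' := z'.out⁻¹ * z.out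
        have hk : (k' : S ⧸ T') = (mb k' : S ⧸ T') := by
          have hmb : mb k' = (mb z'.out)⁻¹ * mb z.out := Subtype.ext (by
            show φ b ((z'.out : M)⁻¹ * z.out) = (φ b (z'.out : M))⁻¹ * φ b (z.out : M)
            rw [map_mul, map_inv])
          rw [hmb, QuotientGroup.mk_mul, QuotientGroup.mk_mul, QuotientGroup.mk_inv,
            QuotientGroup.mk_inv]
          calc (z'.out : S ⧸ T')⁻¹ * z.out = (z'.out : S ⧸ T')⁻¹ *
                ((z.out : S ⧸ T') * (mb z.out : S ⧸ T')⁻¹) * mb z.out := by group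
            _ = _ := by rw [he']; group
        rw [QuotientGroup.eq] at hk
        have hk' := mem_of_coset_fixed hA hcop (T := Tof χ) inf_le_left hTb hCb k'.2 hk
        rw [← QuotientGroup.out_eq' z, ← QuotientGroup.out_eq' z']
        exact ((QuotientGroup.eq.2 (show z'.out⁻¹ * z.out ∈ T' from hk')).symm :
          (z.out : S ⧸ T') = (z'.out : S ⧸ T'))
      obtain ⟨z, hz⟩ := (Finite.injective_iff_surjective.1 hF) ((⟨u, huS⟩ : S) : S ⧸ T')
      set g := z.out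
      have hgu : ((g * ⟨φ b (g : M), hSi b _ g.2⟩⁻¹)⁻¹ * ⟨u, huS⟩ : S) ∈ T' :=
        QuotientGroup.eq.1 hz
      change ((g : M) * (φ b (g : M))⁻¹)⁻¹ * u ∈ Tof χ at hgu
      have hmem : (inl ((g : M) * φ b (g : M)⁻¹) * inr b : M ⋊[φ] A) ∈ wStab k (Q.map inl) χ := by
        have ht : u * (((g : M) * (φ b (g : M))⁻¹)⁻¹ * u)⁻¹ * u⁻¹ ∈ Tof χ :=
          hTn χ _ (inv_mem hgu) u huS
        have := mul_mem (show (inl _ : M ⋊[φ] A) ∈ wStab k (Q.map inl) χ from ht.2) hub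
        refine (congrArg (· ∈ wStab k (Q.map inl) χ) ?_).mp this
        rw [map_inv (φ b)]
        simp only [map_mul, map_inv, coe_comap]
        group
      obtain ⟨h1, h2, h3⟩ := htrans χ v hv0 hv hNT g g.2
      refine hb1 _ _ h1 h2 h3 ?_
      refine mem_aStab.2 ?_
      have hn := hnormS _ (inv_mem g.2)
      refine (mem_wStab_iff (inr_mem_normalizer hQi b)).2 ?_
      obtain ⟨hN, he⟩ := hmem
      rw [twist_twist]
      have e1 : (inr b : M ⋊[φ] A) * inl (g : M)⁻¹ =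
          inl (g : M)⁻¹ * (inl ((g : M) * φ b (g : M)⁻¹) * inr b) := by
        rw [map_mul inl (g : M), inl_apply, map_inv (inl : M →* M ⋊[φ] A) (g : M)]
        group
      rw [twist_congr _ (mul_mem hn hN) e1, ← twist_twist hn hN, he]
  have haSig : a ∈ Sig χ := ⟨1, one_mem S, by rw [map_one, one_mul]; exact mem_aStab.1 haS⟩
  have hSigeq : ∀ e ∈ Sig χ, e ∈ zpowers a := by
    intro e he
    by_contra hea
    by_cases heB : e ∈ B
    · exact hSig (hA.gen a haB e heB (fun h => hea (h ▸ one_mem _)) _ haSig he)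
    · exact hSig (hA.gen2 a haB e hea heB _ haSig he)
  have hTa : ∀ g ∈ S, g⁻¹ * φ a g ∈ Tof χ := by
    intro g hg
    obtain ⟨e, he1, hmem⟩ := hK χ v hv0 hv hNT g hg
    have := haT χ haS g hg ⟨e, hSigeq e ⟨_, mul_mem hg (hSi e _ (inv_mem hg)), hmem⟩, he1, hmem⟩
      (Or.inl hoa)
    have h' := hTn χ _ (inv_mem this) g⁻¹ (inv_mem hg)
    rwa [inv_conj_aux] at h'
  -- average over the translates by `B`
  obtain ⟨x, hx, hx1⟩ := hNT
  apply hx1
  have hres := eq_one_of_translates (ι := Fin q) hSQ hQS hcopSQ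
    (fun i y => wVal Q χ (φ (b ^ (i : ℕ)) y))
    (fun i => by rw [map_one, wVal_one])
    (fun i y hy z hz => by rw [map_mul, wVal_mul (hQi _ y hy) (hQi _ z hz)])
    (fun y hy => prod_translates_eq_one hA hcop hfix hQi haB haS hy)
    (fun i => (Tof χ).map (φ (b ^ (i : ℕ))⁻¹ : M →* M))
    (fun i => by rintro _ ⟨t, ht, rfl⟩; exact hSi _ t ht.1)
    (fun i => by
      rintro _ ⟨t, ht, rfl⟩ g hg
      refine ⟨φ (b ^ (i : ℕ)) g * t * (φ (b ^ (i : ℕ)) g)⁻¹, hTn χ t ht _ (hSi _ g hg), ?_⟩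
      show φ (b ^ (i : ℕ))⁻¹ (φ (b ^ (i : ℕ)) g * t * (φ (b ^ (i : ℕ)) g)⁻¹) = _
      rw [map_mul, map_mul, map_inv (φ (b ^ (i : ℕ))⁻¹), ← MulAut.mul_apply, ← map_mul,
        inv_mul_cancel, map_one, MulAut.one_apply]
      rfl)
    (fun i => by
      rintro _ ⟨t, ht, rfl⟩ y hy
      have e : φ (b ^ (i : ℕ)) ((φ (b ^ (i : ℕ))⁻¹ : M →* M) t) = t := by
        show φ (b ^ (i : ℕ)) (φ (b ^ (i : ℕ))⁻¹ t) = t
        rw [← MulAut.mul_apply, ← map_mul, mul_inv_cancel, map_one, MulAut.one_apply]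
      rw [map_mul, map_mul, map_inv (φ (b ^ (i : ℕ))), e]
      exact wRes_eq_of_inl_mem ht.2 (hQi _ y hy)
        ((mem_normalizer_iff.1 (hSQ ht.1) _).1 (hQi _ y hy)))
    ⟨0, hA.hq.pos⟩
    (fun i hi => by
      have hne : (b ^ (i : ℕ))⁻¹ ≠ 1 := fun h => hi (Fin.ext (by
        have h' := orderOf_dvd_of_pow_eq_one (inv_eq_one.1 h)
        rw [hA.ob] at h'
        exact Nat.eq_zero_of_dvd_of_lt h' i.2))
      have h0 : (Tof χ).map (φ (b ^ ((⟨0, hA.hq.pos⟩ : Fin q) : ℕ))⁻¹ : M →* M) = Tof χ := by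
        ext t
        simp
      rw [h0]
      exact le_sup_map_of_commutators hA hcop hfix hSi inf_le_left haB hTa
        (inv_mem (pow_mem hA.b_mem _)) hne) x hx
  simpa using hres

end Config

end Cfsg.Agent.FittingHeight
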