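import Cfsg.Agent.Lib.FittingHeight.FrobPQ

/-!
# The linear configuration for a nonabelian group of order `p q`
-/

namespace Cfsg.Agent.FittingHeight

open Subgroup SemidirectProduct Module
open scoped commutatorElement IsMulCommutative

universe u

theorem sum_eq_sum_range_pow {A : Type*} [Group A] {N : Type*} [AddCommMonoid N] {H : Subgroup A}
    [Fintype H] {h : A} (hH : H = zpowers h) {ℓ : ℕ} (ho : orderOf h = ℓ) (hℓ : ℓ ≠ 0)
    (F : A → N) : ∑ e : H, F e = ∑ i ∈ Finset.range ℓ, F (h ^ i) := by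
  classical
  subst hH ho
  have hf : IsOfFinOrder h := orderOf_pos_iff.1 (Nat.pos_of_ne_zero hℓ)
  rw [← Fin.sum_univ_eq_sum_range (fun i => F (h ^ i))]
  exact (Fintype.sum_equiv (finEquivZPowers hf) (fun i : Fin (orderOf h) => F (h ^ (i : ℕ)))
    (fun e => F (e : A)) fun i => by simp [finEquivZPowers_apply]).symm

theorem coreProp_frobPQ {A : Type*} [Group A] [Fintype A] {B : Subgroup A} {b : A} {p q : ℕ}
    (hA : IsFrobPQ B b p q) : CoreProp.{u} A (fun _ => True) := by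
  classical
  intro M _ _ _ φ r k _ _ d ρ hr hchar hcop hAk hfix hfaith hsum hOr hheight
  suffices hnil : Group.IsNilpotent M by
    obtain ⟨n, hn⟩ := Subgroup.nilpotent_iff_lowerCentralSeries.1 hnil
    exact ⟨n, trivial, hn⟩
  obtain ⟨n₀, -, hn₀⟩ := hheight
  have hpM : p.Coprime (Nat.card M) :=
    hcop.coprime_dvd_left (by rw [hA.cardA]; exact dvd_mul_right p q)
  have hqM : q.Coprime (Nat.card M) :=
    hcop.coprime_dvd_left (by rw [hA.cardA]; exact dvd_mul_left q p)
  have hpk : (p : k) ≠ 0 := fun h => hAk (by rw [hA.cardA, Nat.cast_mul, h, zero_mul])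
  have hqk : (q : k) ≠ 0 := fun h => hAk (by rw [hA.cardA, Nat.cast_mul, h, mul_zero])
  refine isNilpotent_of_forall_centralizes hn₀ fun s _ => ?_
  obtain ⟨Ssyl, hSsi⟩ := Coprime.exists_invariant_sylow_hom φ hcop (Or.inl hA.isSolvable) s
  refine ⟨Ssyl, fun t ht hts => ?_⟩
  have htF := Fact.mk ht
  set Q0 := pCore t M with hQ0
  have hQ0p : IsPGroup t Q0 := PCore.isPGroup_pCore
  have hQ0n : Q0.Normal := Components.pCore_normal' t
  have hQ0i : ∀ a, ∀ x ∈ Q0, φ a x ∈ Q0 := fun a x hx => by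
    have h := PCore.map_pCore_mulEquiv (p := t) (φ a)
    rw [hQ0, ← h]
    exact mem_map_of_mem _ hx
  by_cases htr : t = r
  · subst htr
    rw [show Q0 = ⊥ from hOr _ hQ0n hQ0i hQ0p]
    exact fun x _ => mem_centralizer_iff.2 fun y hy => by
      rw [SetLike.mem_coe, mem_bot] at hy
      rw [hy, one_mul, mul_one]
  have hQ0k : (Nat.card Q0 : k) ≠ 0 := by
    obtain ⟨e, he⟩ := hQ0p.exists_card_eq
    rw [he, Nat.cast_pow]
    refine pow_ne_zero _ fun h => htr ?_
    exact ((Nat.prime_dvd_prime_iff_eq hr ht).1 ((CharP.cast_eq_zero_iff k r t).1 h)).symm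
  by_contra hcon
  -- a minimal `S`
  obtain ⟨S, ⟨hSle, hSi, hSne⟩, hSmin⟩ := Set.Finite.exists_minimal
    (s := {S : Subgroup M | S ≤ (Ssyl : Subgroup M) ∧ (∀ a, ∀ x ∈ S, φ a x ∈ S) ∧
      ¬ S ≤ centralizer (Q0 : Set M)}) (Set.toFinite _) ⟨_, le_rfl, hSsi, hcon⟩
  have hSp : IsPGroup s S := Ssyl.isPGroup'.to_le hSle
  have hsmall : ∀ {R : Subgroup M}, R ≤ S → (∀ a, ∀ x ∈ R, φ a x ∈ R) → R ≠ S →
      R ≤ centralizer (Q0 : Set M) := by
    intro R hRS hRi hne
    by_contra hR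
    exact hne (le_antisymm hRS (hSmin ⟨hRS.trans hSle, hRi, hR⟩ hRS))
  have hmapS : ∀ a, S.map (φ a : M →* M) = S := map_eq_of_invariant φ hSi
  have hSne1 : S ≠ ⊥ := by
    rintro rfl
    exact hSne bot_le
  have hcommS : ∀ g ∈ S, ∀ g' ∈ S, ⁅g, g'⁆ ∈ centralizer (Q0 : Set M) := by
    have hle : ⁅S, S⁆ ≤ centralizer (Q0 : Set M) := by
      refine hsmall (commutator_le_self S) (fun a x hx => ?_) fun h => ?_
      · have := mem_map_of_mem (φ a : M →* M) hx
        rwa [map_commutator, hmapS] at this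
      · have := hSp.isNilpotent
        obtain ⟨m, hm⟩ := Subgroup.nilpotent_iff_lowerCentralSeries.1 this
        have hle : ∀ i, S ≤ S.lowerCentralSeries i := by
          intro i
          induction i with
          | zero => exact le_rfl
          | succ i ih => exact h.ge.trans (commutator_mono ih le_rfl)
        refine hSne1 (eq_bot_iff.2 ((hle m).trans ?_))
        rw [← Subgroup.top_subtype_lowerCentralSeries, hm, Subgroup.map_bot]
    exact fun g hg g' hg' => hle (commutator_mem_commutator hg hg')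
  have hab0 : (∀ g ∈ S, φ b g = g) ∨
      ∀ g ∈ S, φ b g = g → g ∈ centralizer (Q0 : Set M) := by
    by_cases h : ∀ g ∈ S, φ b g = g
    · exact Or.inl h
    refine Or.inr fun g hg hgb => ?_
    have hC : S ⊓ MonoidHom.eqLocus (φ b : M →* M) (MonoidHom.id M) ≤
        centralizer (Q0 : Set M) := by
      refine hsmall inf_le_left (fun a x hx => ⟨hSi a x hx.1, ?_⟩) fun e => h fun g hg => (e.ge hg).2
      have hc : a⁻¹ * b * a ∈ B := by
        have := hA.normal.conj_mem b hA.b_mem a⁻¹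
        rwa [inv_inv] at this
      have hfx : φ (a⁻¹ * b * a) x = x :=
        (zpowers_le.2 (show b ∈ (MulAction.stabilizer (MulAut M) x).comap φ from hx.2))
          (hA.hB.le hc)
      show φ b (φ a x) = φ a x
      rw [← MulAut.mul_apply, ← map_mul, show b * a = a * (a⁻¹ * b * a) by group, map_mul,
        MulAut.mul_apply, hfx]
    exact hC ⟨hg, hgb⟩
  have hcopSt : ∀ {R : Subgroup M}, IsPGroup t R → (Nat.card S).Coprime (Nat.card R) := by
    intro R hR
    obtain ⟨e, he⟩ := hSp.exists_card_eq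
    obtain ⟨f, hf⟩ := hR.exists_card_eq
    rw [he, hf]
    exact Nat.Coprime.pow e f ((Nat.coprime_primes Fact.out ht).2 (Ne.symm hts))
  -- a minimal `Q`
  obtain ⟨Q, ⟨hQ0le, hQi, hSQ, hQne⟩, hQmin⟩ := Set.Finite.exists_minimal
    (s := {Q : Subgroup M | Q ≤ Q0 ∧ (∀ a, ∀ x ∈ Q, φ a x ∈ Q) ∧
      S ≤ normalizer (Q : Set M) ∧ ¬ S ≤ centralizer (Q : Set M)}) (Set.toFinite _)
    ⟨Q0, le_rfl, hQ0i, by rw [normalizer_eq_top]; exact le_top, hSne⟩
  have hQp : IsPGroup t Q := hQ0p.to_le hQ0le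
  have hQk : (Nat.card Q : k) ≠ 0 := natCard_ne_zero_of_le hQ0k hQ0le
  have hmin : ∀ {R : Subgroup M}, R ≤ Q → (∀ a, ∀ x ∈ R, φ a x ∈ R) →
      S ≤ normalizer (R : Set M) → R ≠ Q → S ≤ centralizer (R : Set M) := by
    intro R hRQ hRi hRn hne
    by_contra hR
    exact hne (le_antisymm hRQ (hQmin ⟨hRQ.trans hQ0le, hRi, hRn, hR⟩ hRQ))
  have hcomm : ∀ g ∈ S, ∀ g' ∈ S, ⁅g, g'⁆ ∈ centralizer (Q : Set M) := fun g hg g' hg' =>
    centralizer_le hQ0le (hcommS g hg g' hg')
  have hab : (∀ g ∈ S, φ b g = g) ∨ ∀ g ∈ S, φ b g = g → g ∈ centralizer (Q : Set M) :=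
    hab0.imp id fun h g hg hgb => centralizer_le hQ0le (h g hg hgb)
  have hmapQ : ∀ a, Q.map (φ a : M →* M) = Q := map_eq_of_invariant φ hQi
  have hcopSQ : (Nat.card S).Coprime (Nat.card Q) := hcopSt hQp
  have hcommQ : ⁅Q, S⁆ = Q := by
    by_contra hne
    have hi : ∀ a, ∀ x ∈ ⁅Q, S⁆, φ a x ∈ ⁅Q, S⁆ := fun a x hx => by
      have := mem_map_of_mem (φ a : M →* M) hx
      rwa [map_commutator, hmapQ, hmapS] at this
    exact hQne (Coprime.le_centralizer_of_commutator_le_centralizer hSQ hcopSQ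
      (Or.inr (by have := hQp.isNilpotent; infer_instance))
      (hmin (Coprime.commutator_le_left_of_le_normalizer hSQ) hi
        (normalizer_commutator_ge_right Q S) hne))
  have hQne1 : Q ≠ ⊥ := by
    rintro rfl
    exact hQne fun x _ => mem_centralizer_iff.2 fun y hy => by
      rw [SetLike.mem_coe, mem_bot] at hy
      rw [hy, one_mul, mul_one]
  set Z : Subgroup M := ⁅Q, Q⁆ with hZ
  have hZQ : Z ≤ Q := commutator_le_self Q
  have hZi : ∀ a, ∀ x ∈ Z, φ a x ∈ Z := fun a x hx => by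
    have := mem_map_of_mem (φ a : M →* M) hx
    rwa [map_commutator, hmapQ] at this
  have hZS : S ≤ centralizer (Z : Set M) := by
    refine hmin hZQ hZi ?_ fun h => ?_
    · intro x hx
      refine mem_normalizer_iff.2 fun y => ?_
      have hx' : Q.map (MulAut.conj x : M →* M) = Q := by
        ext z
        constructor
        · rintro ⟨z', hz', rfl⟩
          exact (mem_normalizer_iff.1 (hSQ hx) z').1 hz'
        · intro hz
          refine ⟨x⁻¹ * z * x, (mem_normalizer_iff.1 (hSQ hx) _).2 ?_, ?_⟩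
          · rwa [show x * (x⁻¹ * z * x) * x⁻¹ = z by group]
          · show x * (x⁻¹ * z * x) * x⁻¹ = z
            group
      have hZx : Z.map (MulAut.conj x : M →* M) = Z := by rw [hZ, map_commutator, hx']
      constructor
      · intro hy
        have := mem_map_of_mem (MulAut.conj x : M →* M) hy
        rwa [hZx] at this
      · intro hy
        obtain ⟨y', hy', he⟩ := hZx.ge hy
        rwa [(MulAut.conj x).injective he] at hy'
    · have := hQp.isNilpotent
      obtain ⟨m, hm⟩ := Subgroup.nilpotent_iff_lowerCentralSeries.1 this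
      have hle : ∀ i, Q ≤ Q.lowerCentralSeries i := by
        intro i
        induction i with
        | zero => exact le_rfl
        | succ i ih => exact h.ge.trans (commutator_mono ih le_rfl)
      refine hQne1 (eq_bot_iff.2 ((hle m).trans ?_))
      rw [← Subgroup.top_subtype_lowerCentralSeries, hm, Subgroup.map_bot]
  have hZc : Z ≤ centralizer (Q : Set M) := by
    rw [← commutator_eq_bot_iff_le_centralizer]
    have h1 : ⁅⁅S, Z⁆, Q⁆ = ⊥ := by
      rw [commutator_eq_bot_iff_le_centralizer.2 hZS, commutator_bot_left]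
    have h2 : ⁅⁅Z, Q⁆, S⁆ = ⊥ := by
      refine commutator_eq_bot_iff_le_centralizer.2 ?_
      have : ⁅Z, Q⁆ ≤ Z := (commutator_mono hZQ le_rfl).trans_eq rfl
      exact this.trans (le_centralizer_iff.1 hZS)
    have h3 : ⁅⁅Q, S⁆, Z⁆ = ⊥ := commutator_commutator_eq_bot_of_rotate h1 h2
    rwa [hcommQ, commutator_comm] at h3
  -- fixed points of `b` on `Q` when `b` centralises `S`
  have hQbS : (∀ g ∈ S, φ b g = g) → ∀ x ∈ Q, φ b x = x → x ∈ centralizer (S : Set M) := by
    intro hS x hx hxb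
    obtain ⟨a, ha⟩ : ∃ a, a ∉ B := by
      by_contra h
      push Not at h
      have h1 : B = ⊤ := eq_top_iff.2 fun y _ => h y
      have h2 : Nat.card B = q := by rw [hA.hB, Nat.card_zpowers, hA.ob]
      rw [h1, Subgroup.card_top, hA.cardA] at h2
      exact absurd h2 (ne_of_gt (lt_mul_left hA.hq.pos hA.hp.one_lt))
    set R : Subgroup M := Q ⊓ MonoidHom.eqLocus (φ b : M →* M) (MonoidHom.id M) with hR
    have hRn : S ≤ normalizer (R : Set M) := by
      intro y hy
      rw [mem_normalizer_iff]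
      intro z
      have he : φ b (y * z * y⁻¹) = y * φ b z * y⁻¹ := by rw [map_mul, map_mul, map_inv, hS y hy]
      have hQy := mem_normalizer_iff.1 (hSQ hy) z
      refine ⟨fun hz => ⟨hQy.1 hz.1, ?_⟩, fun hz => ⟨hQy.2 hz.1, ?_⟩⟩
      · show φ b (y * z * y⁻¹) = _
        rw [he, show φ b z = z from hz.2]
        rfl
      · show φ b z = z
        have h' : φ b (y * z * y⁻¹) = y * z * y⁻¹ := hz.2
        rw [he, mul_left_inj, mul_right_inj] at h'
        exact h'
    have hRi : ∀ e, ∀ y ∈ R, φ e y ∈ R := fun e y hy => ⟨hQi e y hy.1, by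
      have hc : e⁻¹ * b * e ∈ B := by
        have := hA.normal.conj_mem b hA.b_mem e⁻¹
        rwa [inv_inv] at this
      have hfx : φ (e⁻¹ * b * e) y = y :=
        (zpowers_le.2 (show b ∈ (MulAction.stabilizer (MulAut M) y).comap φ from hy.2))
          (hA.hB.le hc)
      show φ b (φ e y) = φ e y
      rw [← MulAut.mul_apply, ← map_mul, show b * e = e * (e⁻¹ * b * e) by group, map_mul,
        MulAut.mul_apply, hfx]⟩
    have hfin : Finite (M ⋊[φ] A) := Coprime.finite_semidirectProduct φ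
    have hinl : Function.Injective (inl : M → M ⋊[φ] A) := inl_injective
    have key := le_centralizer_of_fpf (Γ := M ⋊[φ] A) hA.hp (a := inr a)
      (by rw [← map_pow, hA.pow_p a ha, map_one]) (K := R.map inl) (S := S.map inl)
      ((hQp.to_le inf_le_left).map inl)
      ((map_mono hRn).trans (le_normalizer_map inl))
      (inr_mem_normalizer hRi a)
      (by rw [← Nat.card_congr (S.equivMapOfInjective inl hinl).toEquiv,
            ← Nat.card_congr (R.equivMapOfInjective inl hinl).toEquiv]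
          exact hcopSt (hQp.to_le inf_le_left))
      (by rw [← Nat.card_congr (R.equivMapOfInjective inl hinl).toEquiv]
          exact hpM.coprime_dvd_right (card_subgroup_dvd_card R))
      (by
        rintro _ ⟨y, hy, rfl⟩
        exact ⟨φ a y, hSi a y hy, inl_apply a y⟩)
      (by
        rintro _ ⟨y, hy, rfl⟩ h
        rw [← inl_apply] at h
        rw [eq_one_of_fixed_two hA hfix ha (hinl h) (hS y hy), map_one])
      (by
        rintro _ ⟨y, hy, rfl⟩ h
        rw [← inl_apply] at h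
        rw [eq_one_of_fixed_two hA hfix ha (hinl h) hy.2, map_one])
    refine mem_centralizer_iff.2 fun g hg => (hinl ?_).symm
    rw [map_mul, map_mul]
    exact mem_centralizer_iff.1 (key (mem_map_of_mem _ hg)) _ (mem_map_of_mem _ ⟨hx, hxb⟩)
  by_cases hZ1 : Z = ⊥
  · -- `Q` is abelian
    have hQcomm : IsMulCommutative Q := ⟨⟨fun x y => Subtype.ext (by
      have : ⁅(x : M), (y : M)⁆ ∈ Z := commutator_mem_commutator x.2 y.2
      rw [hZ1, mem_bot] at this
      exact (commutatorElement_eq_one_iff_commute.1 this).eq)⟩⟩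
    have hQS1 : Q ⊓ centralizer (S : Set M) = ⊥ := by
      have := Coprime.inf_centralizer_inf_commutator_eq_bot hSQ hcopSQ
      rwa [hcommQ, inf_assoc, inf_comm (centralizer _), ← inf_assoc, inf_idem] at this
    obtain ⟨z₀, hz₀, hz₀1⟩ : ∃ z ∈ Q, z ≠ 1 := by
      obtain ⟨⟨z, hz⟩, hz1⟩ := Subgroup.ne_bot_iff_exists_ne_one.1 hQne1
      exact ⟨z, hz, fun h => hz1 (Subtype.ext h)⟩
    obtain ⟨χ, v, hv0, hv, hχ⟩ := exists_weight_ne_one ρ hQcomm hQk hfaith hz₀ hz₀1
    apply hχ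
    rw [wRes_eq_wVal]
    exact wVal_eq_one_of_comm ρ hA hcop hfix hsum hQi hSi hSQ hcommQ hcomm hab hcopSQ
      (fun hS x hx hxb => by
        have := hQbS hS x hx hxb
        have h' : x ∈ Q ⊓ centralizer (S : Set M) := ⟨hx, this⟩
        rwa [hQS1, mem_bot] at h') hv0 hv z₀ hz₀
  -- `Q` is not abelian
  obtain ⟨z₀, hz₀, hz₀1⟩ : ∃ z ∈ Z, z ≠ 1 := by
    obtain ⟨⟨z, hz⟩, hz1⟩ := Subgroup.ne_bot_iff_exists_ne_one.1 hZ1
    exact ⟨z, hz, fun h => hz1 (Subtype.ext h)⟩
  have hZcomm : IsMulCommutative Z := ⟨⟨fun x y => Subtype.ext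
    (mem_centralizer_iff.1 (hZc y.2) x (hZQ x.2))⟩⟩
  obtain ⟨χ, v, hv0, hv, hχ⟩ := exists_weight_ne_one ρ hZcomm
    (natCard_ne_zero_of_le hQk hZQ) hfaith hz₀ hz₀1
  have hmemZ : ∀ {x y}, x ∈ Q → y ∈ Q → ⁅x, y⁆ ∈ Z := fun hx hy => commutator_mem_commutator hx hy
  let P : M → M → k := pairVal Z χ
  have hcen : ∀ {z x}, z ∈ Z → x ∈ Q → x * z = z * x := fun {z x} hz hx =>
    mem_centralizer_iff.1 (hZc hz) x hx
  have hP1 : ∀ x, P x 1 = 1 := fun x => by
    show wVal Z χ ⁅x, 1⁆ = 1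
    rw [commutatorElement_one_right, wVal_one]
  have hPr : ∀ {x y y'}, x ∈ Q → y ∈ Q → y' ∈ Q → P x (y * y') = P x y * P x y' := by
    intro x y y' hx hy hy'
    show wVal Z χ ⁅x, y * y'⁆ = wVal Z χ ⁅x, y⁆ * wVal Z χ ⁅x, y'⁆
    rw [← wVal_mul (hmemZ hx hy) (hmemZ hx hy')]
    congr 1
    calc ⁅x, y * y'⁆ = ⁅x, y⁆ * (y * ⁅x, y'⁆ * y⁻¹) := by simp only [commutatorElement_def]; group
      _ = ⁅x, y⁆ * ⁅x, y'⁆ := by rw [hcen (hmemZ hx hy') hy, mul_inv_cancel_right]
  have hPsw : ∀ {x y}, x ∈ Q → y ∈ Q → P y x = (P x y)⁻¹ := by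
    intro x y hx hy
    show wVal Z χ ⁅y, x⁆ = (wVal Z χ ⁅x, y⁆)⁻¹
    rw [← wVal_inv (hmemZ hx hy), commutatorElement_inv]
  have hPS : ∀ {g x y}, g ∈ S → x ∈ Q → y ∈ Q → P (g * x * g⁻¹) (g * y * g⁻¹) = P x y := by
    intro g x y hg hx hy
    show wVal Z χ ⁅g * x * g⁻¹, g * y * g⁻¹⁆ = wVal Z χ ⁅x, y⁆
    congr 1
    rw [show ⁅g * x * g⁻¹, g * y * g⁻¹⁆ = g * ⁅x, y⁆ * g⁻¹ by
      simp only [commutatorElement_def]; group,
      ← mem_centralizer_iff.1 (hZS hg) _ (hmemZ hx hy), mul_inv_cancel_right]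
  have hQc : ∀ {g x}, g ∈ S → x ∈ Q → g * x * g⁻¹ ∈ Q := fun {g x} hg hx =>
    (mem_normalizer_iff.1 (hSQ hg) x).1 hx
  let T : Subgroup M :=
    { carrier := {g | g ∈ S ∧ ∀ x ∈ Q, ∀ y ∈ Q, P x (g * y * g⁻¹) = P x y}
      one_mem' := ⟨one_mem S, fun x _ y _ => by simp⟩
      mul_mem' := fun {g g'} hg hg' => ⟨mul_mem hg.1 hg'.1, fun x hx y hy => by
        rw [show g * g' * y * (g * g')⁻¹ = g * (g' * y * g'⁻¹) * g⁻¹ by group,
          hg.2 x hx _ (hQc hg'.1 hy), hg'.2 x hx y hy]⟩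
      inv_mem' := fun {g} hg => ⟨inv_mem hg.1, fun x hx y hy => by
        have h := hg.2 x hx _ (hQc (inv_mem hg.1) hy)
        rw [show g * (g⁻¹ * y * g⁻¹⁻¹) * g⁻¹ = y by group] at h
        exact h.symm⟩ }
  have hTS : T ≤ S := fun g hg => hg.1
  have hTC : ∀ g ∈ S, g ∈ centralizer (Q : Set M) → g ∈ T := fun g hg hgc =>
    ⟨hg, fun x _ y hy => by rw [← mem_centralizer_iff.1 hgc y hy, mul_inv_cancel_right]⟩
  have hTn : ∀ t ∈ T, ∀ g ∈ S, g * t * g⁻¹ ∈ T := fun t ht g hg => by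
    have h1 : ⁅g, t⁆ ∈ S := by
      rw [commutatorElement_def]
      exact S.mul_mem (S.mul_mem (S.mul_mem hg ht.1) (S.inv_mem hg)) (S.inv_mem ht.1)
    have := mul_mem (hTC _ h1 (hcomm g hg t ht.1)) ht
    rwa [commutatorElement_def, inv_mul_cancel_right] at this
  have hne : ∃ x ∈ Q, ∃ y ∈ Q, P x y ≠ 1 := by
    by_contra h
    push Not at h
    apply hχ
    let Ker : Subgroup M :=
      { carrier := {z | z ∈ Z ∧ wVal Z χ z = 1}
        one_mem' := ⟨one_mem Z, wVal_one⟩
        mul_mem' := fun ha hb => ⟨mul_mem ha.1 hb.1, by rw [wVal_mul ha.1 hb.1, ha.2, hb.2,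
          mul_one]⟩
        inv_mem' := fun ha => ⟨inv_mem ha.1, by rw [wVal_inv ha.1, ha.2, inv_one]⟩ }
    have hle : Z ≤ Ker := Subgroup.commutator_le.2 fun x hx y hy =>
      (⟨hmemZ hx hy, h x hx y hy⟩ : _ ∧ _)
    rw [wRes_eq_wVal]
    exact (hle hz₀).2
  have hkill : ∀ {x}, x ∈ Q → (∀ g ∈ S, ∀ y ∈ Q, P x (g * y * g⁻¹) = P x y) →
      ∀ y ∈ Q, P x y = 1 := by
    intro x hx hinv
    let Ker : Subgroup M :=
      { carrier := {y | y ∈ Q ∧ P x y = 1}
        one_mem' := ⟨one_mem Q, hP1 x⟩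
        mul_mem' := fun ha hb => ⟨mul_mem ha.1 hb.1, by rw [hPr hx ha.1 hb.1, ha.2, hb.2, mul_one]⟩
        inv_mem' := fun {y} hy => ⟨inv_mem hy.1, by
          have := hPr hx hy.1 (inv_mem hy.1)
          rwa [mul_inv_cancel, hP1, hy.2, one_mul, eq_comm] at this⟩ }
    have hK : ⁅Q, S⁆ ≤ Ker := Subgroup.commutator_le.2 fun y hy g hg => by
      rw [commutatorElement_def, show y * g * y⁻¹ * g⁻¹ = y * (g * y⁻¹ * g⁻¹) by group]
      refine ⟨mul_mem hy (hQc hg (inv_mem hy)), ?_⟩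
      rw [hPr hx hy (hQc hg (inv_mem hy)), hinv g hg _ (inv_mem hy), ← hPr hx hy (inv_mem hy),
        mul_inv_cancel, hP1]
    exact fun y hy => (hK (hcommQ.ge hy)).2
  have hTtop : ¬ S ≤ T := fun hle => by
    obtain ⟨x, hx, y, hy, hxy⟩ := hne
    exact hxy (hkill hx (fun g hg y hy => (hle hg).2 x hx y hy) y hy)
  have hsumW : ∀ {h : A} {ℓ : ℕ}, aStab Z χ = zpowers h → orderOf h = ℓ → ℓ ≠ 0 →
      ∀ w ∈ weightSpace ρ (Z.map inl) χ, ∑ i ∈ Finset.range ℓ, ρ (inr (h ^ i)) w = 0 := by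
    intro h ℓ hH ho hℓ w hw
    rw [← sum_eq_sum_range_pow hH ho hℓ (fun e => ρ (inr e) w)]
    exact sum_aStab_eq_zero ρ hZi hw (hsum w)
  have htoT : ∀ {h : A}, (∀ g ∈ S, ∀ x ∈ Q, ∀ y ∈ Q,
      P (φ h g * x * (φ h g)⁻¹) y = P (g * x * g⁻¹) y) → ∀ g ∈ S, g⁻¹ * φ h g ∈ T := by
    intro h hmain g hg
    have hgh : g⁻¹ * φ h g ∈ S := mul_mem (inv_mem hg) (hSi h g hg)
    refine ⟨hgh, fun x hx y hy => ?_⟩
    have key : P (g⁻¹ * φ h g * y * (g⁻¹ * φ h g)⁻¹) x = P y x := by
      rw [← hPS hg (hQc hgh hy) hx, ← hPS hg hy hx, ← hmain g hg y hy _ (hQc hg hx)]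
      congr 1
      group
    rw [hPsw (hQc hgh hy) hx, hPsw hy hx, key]
  have hproper : aStab Z χ ≠ ⊤ := fun h => hχ
    (wRes_eq_one_of_forall_mem hcop hfix hZi (fun e => h.ge (mem_top e)) ⟨z₀, hz₀⟩)
  have hhB : ∀ {h : A}, h ∈ aStab Z χ → ∀ {x y}, x ∈ Q → y ∈ Q → P (φ h x) (φ h y) = P x y := by
    intro h hh x y hx hy
    show wVal Z χ ⁅φ h x, φ h y⁆ = wVal Z χ ⁅x, y⁆
    rw [← map_commutatorElement]
    exact wVal_act hZi hh (hmemZ hx hy)
  rcases exists_stab_generator hA (aStab_ne_bot ρ hZi hv hv0 (hsum v)) hproper with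
    ⟨hHB, hbS⟩ | ⟨a, haB, haS, hHa⟩
  · -- the stabiliser is `B`
    obtain ⟨h1, h2⟩ := stageOne_bound ρ hQi hZQ hZi hmemZ hZc hSQ hZS hSi hcomm hcopSQ hv0 hv hbS
      hA.hq hqk (by rw [← hA.ob]; exact pow_orderOf_eq_one b) hqM
      (hsumW (hHB.trans hA.hB) hA.ob hA.hq.ne_zero)
    rcases hab with hS | hS
    · obtain ⟨m, hm1, hmle, hmod, hmdvd⟩ := h2 hne fun x hx hxb => by
        -- lift to a fixed point
        let Rad : Subgroup M :=
          { carrier := {y | y ∈ Q ∧ ∀ z ∈ Q, P z y = 1}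
            one_mem' := ⟨one_mem Q, fun z _ => hP1 z⟩
            mul_mem' := fun ha hb => ⟨mul_mem ha.1 hb.1, fun z hz => by
              rw [hPr hz ha.1 hb.1, ha.2 z hz, hb.2 z hz, mul_one]⟩
            inv_mem' := fun {y} hy => ⟨inv_mem hy.1, fun z hz => by
              have := hPr hz hy.1 (inv_mem hy.1)
              rwa [mul_inv_cancel, hP1, hy.2 z hz, one_mul, eq_comm] at this⟩ }
        have hRadb : ∀ y ∈ Rad, φ b y ∈ Rad := fun y hy => ⟨hQi b y hy.1, fun z hz => by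
          have hz' : φ b (φ b⁻¹ z) = z := by
            rw [← MulAut.mul_apply, ← map_mul, mul_inv_cancel, map_one, MulAut.one_apply]
          rw [← hz', hhB hbS (hQi _ z hz) hy.1, hy.2 _ (hQi _ z hz)]⟩
        have hRz : ∀ e : zpowers b, ∀ y ∈ Rad, (φ.comp (zpowers b).subtype) e y ∈ Rad := by
          rintro ⟨e, he⟩ y hy
          obtain ⟨i, rfl⟩ : ∃ i : ℕ, b ^ i = e := mem_powers_iff_mem_zpowers.2 he
          show φ (b ^ i) y ∈ Rad
          induction i with
          | zero => rwa [pow_zero, map_one, MulAut.one_apply]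
          | succ i ih =>
            rw [pow_succ', map_mul, MulAut.mul_apply]
            exact hRadb _ (ih (pow_mem (mem_zpowers b) i))
        have hxb' : x⁻¹ * φ b x ∈ Rad := ⟨mul_mem (inv_mem hx) (hQi b x hx), fun z hz => by
          rw [hPsw (mul_mem (inv_mem hx) (hQi b x hx)) hz]
          exact inv_eq_one.2 (hxb z hz)⟩
        have hmem : (⟨b, mem_zpowers b⟩ : zpowers b) ∈
            cosetStab (φ.comp (zpowers b).subtype) Rad hRz x := hxb'
        obtain ⟨n, hn, hnfix⟩ := Coprime.exists_fixed_mul_mem_hom (φ.comp (zpowers b).subtype) hRz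
          ((hcop.coprime_dvd_left (card_subgroup_dvd_card _)).coprime_dvd_right
            (card_subgroup_dvd_card Rad))
          (Or.inl (Group.isSolvable_of_comm fun u w => mul_comm' u w)) (k := x) (by
            rintro ⟨_, i, rfl⟩
            exact zpow_mem hmem i)
        have hxn : x * n ∈ Q := mul_mem hx hn.1
        have hcs := hQbS hS (x * n) hxn (hnfix ⟨b, mem_zpowers b⟩)
        have hk := hkill hxn fun g hg y hy => by
          conv_lhs => rw [show x * n = g * (x * n) * g⁻¹ by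
            rw [mem_centralizer_iff.1 hcs g hg, mul_inv_cancel_right]]
          exact hPS hg hxn hy
        intro y hy
        have h3 := hk y hy
        show P x y = 1
        rw [hPsw hy hxn, hPr hy hx hn.1, hn.2 y hy, mul_one, inv_eq_one] at h3
        rw [hPsw hy hx, h3, inv_one]
      obtain ⟨e, he⟩ := hQp.exists_card_eq
      obtain ⟨j, -, hj⟩ := (Nat.dvd_prime_pow ht).1 (he ▸ dvd_trans (dvd_mul_right m m) hmdvd)
      have hm0 : m ≠ 0 := by rw [hj]; exact pow_ne_zero _ ht.ne_zero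
      have hdvd : q ∣ (m - 1) * (m + 1) := by
        have h := (Nat.modEq_iff_dvd' (Nat.pos_of_ne_zero (Nat.mul_ne_zero hm0 hm0))).1 hmod.symm
        rwa [show (m - 1) * (m + 1) = m * m - 1 by
          rw [mul_comm, ← Nat.mul_self_sub_mul_self_eq]]
      rcases (Nat.Prime.dvd_mul hA.hq).1 hdvd with h | h
      · exact absurd (Nat.le_of_dvd (by omega) h) (by omega)
      · have hq1 : q = m + 1 := le_antisymm (Nat.le_of_dvd (by omega) h) (by omega)
        have hpm : p ∣ t ^ j := by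
          have := hA.dvd
          rw [hq1, Nat.add_sub_cancel, hj] at this
          exact this
        have hpt : p = t := (Nat.prime_dvd_prime_iff_eq hA.hp ht).1 (hA.hp.dvd_of_dvd_pow hpm)
        have htQ : t ∣ Nat.card Q := by
          rcases Nat.eq_zero_or_pos e with rfl | he0
          · exact absurd (Subgroup.card_eq_one.1 (by simpa using he)) hQne1
          · rw [he]; exact dvd_pow_self t he0.ne'
        exact hA.hp.not_dvd_one (hpM ▸ Nat.dvd_gcd dvd_rfl
          (hpt ▸ htQ.trans (card_subgroup_dvd_card Q)))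
    · have hTb : ∀ g ∈ T, φ b g ∈ T := by
        intro g hg
        refine ⟨hSi b g hg.1, fun x hx y hy => ?_⟩
        have hinvb : ∀ z, φ b (φ b⁻¹ z) = z := fun z => by
          rw [← MulAut.mul_apply, ← map_mul, mul_inv_cancel, map_one, MulAut.one_apply]
        have e1 : φ b g * y * (φ b g)⁻¹ = φ b (g * φ b⁻¹ y * g⁻¹) := by
          rw [map_mul, map_mul, map_inv (φ b) g, hinvb]
        rw [e1, ← hinvb x, hhB hbS (hQi _ x hx) (hQc hg.1 (hQi _ y hy)),
          hg.2 _ (hQi _ x hx) _ (hQi _ y hy), ← hhB hbS (hQi _ x hx) (hQi _ y hy), hinvb, hinvb]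
      exact hTtop fun g hg => mem_of_coset_fixed hA hcop hTS hTb
        (fun g hg hgb => hTC g hg (hS g hg hgb)) hg (htoT h1 g hg)
  · -- the stabiliser has order `p`
    have hoa : orderOf a = p := by
      have := Fact.mk hA.hp
      exact orderOf_eq_prime (hA.pow_p a haB) fun h => haB (h ▸ one_mem B)
    obtain ⟨h1, -⟩ := stageOne_bound ρ hQi hZQ hZi hmemZ hZc hSQ hZS hSi hcomm hcopSQ hv0 hv haS
      hA.hp hpk (hA.pow_p a haB) hpM (hsumW hHa hoa hA.hp.ne_zero)
    have hTa := htoT h1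
    rcases hab with hS | hS
    · refine hTtop fun g hg => ?_
      obtain ⟨u, hu, rfl⟩ := bijective_commutator_of_fpf hSi (a := a)
        (fun x hx h => eq_one_of_fixed_two hA hfix haB h (hS x hx)) g hg
      exact hTa u hu
    · obtain ⟨x, hx, y, hy, hxy⟩ := hne
      apply hxy
      have hres := eq_one_of_translates (ι := Fin q) hSQ hcommQ hcopSQ
        (fun i w => P (φ (b ^ (i : ℕ)) x) (φ (b ^ (i : ℕ)) w))
        (fun i => by
          show P _ (φ _ 1) = 1
          rw [map_one, hP1])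
        (fun i w hw z hz => by
          rw [map_mul, hPr (hQi _ x hx) (hQi _ w hw) (hQi _ z hz)])
        (fun w hw => by
          rw [← prod_translates_eq_one hA hcop hfix hZi haB haS (hmemZ hx hw)]
          exact Finset.prod_congr rfl fun i _ =>
            congrArg (wVal Z χ) (map_commutatorElement _ x w).symm)
        (fun i => T.map (φ (b ^ (i : ℕ))⁻¹ : M →* M))
        (fun i => by rintro _ ⟨u, hu, rfl⟩; exact hSi _ u hu.1)
        (fun i => by
          rintro _ ⟨u, hu, rfl⟩ g hg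
          refine ⟨φ (b ^ (i : ℕ)) g * u * (φ (b ^ (i : ℕ)) g)⁻¹, hTn u hu _ (hSi _ g hg), ?_⟩
          show φ (b ^ (i : ℕ))⁻¹ (φ (b ^ (i : ℕ)) g * u * (φ (b ^ (i : ℕ)) g)⁻¹) = _
          rw [map_mul, map_mul, map_inv (φ (b ^ (i : ℕ))⁻¹), ← MulAut.mul_apply, ← map_mul,
            inv_mul_cancel, map_one, MulAut.one_apply]
          rfl)
        (fun i => by
          rintro _ ⟨u, hu, rfl⟩ w hw
          have e : φ (b ^ (i : ℕ)) ((φ (b ^ (i : ℕ))⁻¹ : M →* M) u) = u := by
            show φ (b ^ (i : ℕ)) (φ (b ^ (i : ℕ))⁻¹ u) = u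
            rw [← MulAut.mul_apply, ← map_mul, mul_inv_cancel, map_one, MulAut.one_apply]
          rw [map_mul, map_mul, map_inv (φ (b ^ (i : ℕ))), e]
          exact hu.2 _ (hQi _ x hx) _ (hQi _ w hw))
        ⟨0, hA.hq.pos⟩
        (fun i hi => by
          have hne' : (b ^ (i : ℕ))⁻¹ ≠ 1 := fun h => hi (Fin.ext (by
            have h' := orderOf_dvd_of_pow_eq_one (inv_eq_one.1 h)
            rw [hA.ob] at h'
            exact Nat.eq_zero_of_dvd_of_lt h' i.2))
          have h0 : T.map (φ (b ^ ((⟨0, hA.hq.pos⟩ : Fin q) : ℕ))⁻¹ : M →* M) = T := by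
            ext u
            simp
          rw [h0]
          exact le_sup_map_of_commutators hA hcop hfix hSi hTS haB hTa
            (inv_mem (pow_mem hA.b_mem _)) hne') y hy
      simpa using hres

end Cfsg.Agent.FittingHeight
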