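import Mathlib.Algebra.Algebra.Basic
import Mathlib.Tactic.NoncommRing
import Mathlib.Algebra.Module.LinearMap.End

/-!
# Two operators commuting up to a scalar and permuted by an element of order three

`X, Y` and `(X Y)⁻¹` are permuted cyclically by `S`, `X Y = ζ Y X`, and both `S` and `X S` are
roots of `T² + T + 1`. Then `ζ = 1` or `ζ² = 1`.
-/

namespace Cfsg.Agent.FittingHeight

theorem smul_eq_of_heisenberg {k : Type*} [Field k] {R : Type*} [Ring R] [Algebra k R]
    [Nontrivial R] {X Xi Y Yi S : R} (hX : X * Xi = 1) (hX' : Xi * X = 1) (hY : Y * Yi = 1)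
    (hY' : Yi * Y = 1) (hS : S * S + S + 1 = 0) (hXS : X * S * (X * S) + X * S + 1 = 0)
    (hSX : S * X = Y * S) (hSY : S * Y = Yi * Xi * S) {ζ : k} (hζ0 : ζ ≠ 0)
    (hζ : X * Y = ζ • (Y * X)) : ζ = 1 ∨ ζ * ζ = 1 := by
  by_cases h1 : ζ = 1
  · exact Or.inl h1
  refine Or.inr ?_
  have hS3 : S * (S * S) = 1 := by
    have h : (S - 1) * (S * S + S + 1) = 0 := by rw [hS, mul_zero]
    have h' : S * (S * S) - 1 = (S - 1) * (S * S + S + 1) := by noncomm_ring
    exact sub_eq_zero.1 (h'.trans h)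
  have hA : X * Y - X = X * S - S := by
    have e : (X * S * (X * S) + X * S + 1) * S = 0 := by rw [hXS, zero_mul]
    have e1 : X * S * (X * S) * S = X * Y := by
      calc X * S * (X * S) * S = X * (S * X) * (S * S) := by noncomm_ring
        _ = X * (Y * S) * (S * S) := by rw [hSX]
        _ = X * Y * (S * (S * S)) := by noncomm_ring
        _ = X * Y := by rw [hS3, mul_one]
    have e2 : X * S * S = -(X * S) - X := by
      have h : X * (S * S + S + 1) = 0 := by rw [hS, mul_zero]
      have h' : X * S * S - (-(X * S) - X) = X * (S * S + S + 1) := by noncomm_ring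
      exact sub_eq_zero.1 (h'.trans h)
    rw [add_mul, add_mul, e1, e2, one_mul] at e
    have h' : (X * Y - X) - (X * S - S) = X * Y + (-(X * S) - X) + S := by noncomm_ring
    exact sub_eq_zero.1 (h'.trans e)
  have hB : (Y - 1) * S = Xi - Y := by
    have e : S * (X * Y - X) * (S * S) = S * (X * S - S) * (S * S) := by rw [hA]
    have e1 : S * (X * Y - X) * (S * S) = Xi - Y := by
      calc S * (X * Y - X) * (S * S) = (S * X * Y - S * X) * (S * S) := by noncomm_ring
        _ = (Y * S * Y - Y * S) * (S * S) := by rw [hSX]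
        _ = (Y * (S * Y) - Y * S) * (S * S) := by noncomm_ring
        _ = (Y * (Yi * Xi * S) - Y * S) * (S * S) := by rw [hSY]
        _ = ((Y * Yi) * Xi - Y) * (S * (S * S)) := by noncomm_ring
        _ = Xi - Y := by rw [hY, hS3, one_mul, mul_one]
    have e2 : S * (X * S - S) * (S * S) = (Y - 1) * S := by
      calc S * (X * S - S) * (S * S) = (S * X - S) * (S * (S * S)) := by noncomm_ring
        _ = Y * S - S := by rw [hS3, mul_one, hSX]
        _ = (Y - 1) * S := by noncomm_ring
    rw [← e2, ← e, e1]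
  set R0 := X * X - X + 1 - Xi with hR
  have hYXX : X * Y * X = ζ⁻¹ • (X * X * Y) := by
    have h : X * X * Y = ζ • (X * Y * X) :=
      calc X * X * Y = X * (X * Y) := mul_assoc _ _ _
        _ = X * (ζ • (Y * X)) := congrArg (X * ·) hζ
        _ = ζ • (X * Y * X) := by rw [mul_smul_comm, mul_assoc]
    rw [h, smul_smul, inv_mul_cancel₀ hζ0, one_smul]
  set E := ζ⁻¹ • (X * X) - 1 with hE
  have hEY : E * Y = R0 := by
    have hA' : (X - 1) * S = X * Y - X := by rw [hA]; noncomm_ring
    have hB' : Y * S = S + (Xi - Y) := by rw [← hB]; noncomm_ring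
    have l1 : (X - 1) * S * X = -X + 1 - Xi + Y := by
      calc (X - 1) * S * X = (X - 1) * (S * X) := by noncomm_ring
        _ = (X - 1) * (Y * S) := by rw [hSX]
        _ = (X - 1) * (S + (Xi - Y)) := by rw [hB']
        _ = (X - 1) * S + X * Xi - Xi - X * Y + Y := by noncomm_ring
        _ = (X * Y - X) + 1 - Xi - X * Y + Y := by rw [hA', hX]
        _ = -X + 1 - Xi + Y := by noncomm_ring
    have l2 : (X - 1) * S * X = ζ⁻¹ • (X * X * Y) - X * X := by
      rw [hA', sub_mul, hYXX]
    rw [hE, sub_mul, smul_mul_assoc, one_mul, hR]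
    have h := l1.symm.trans l2
    rw [sub_eq_iff_eq_add.1 (rfl : ζ⁻¹ • (X * X * Y) - X * X = _), ← h]
    noncomm_ring
  have hEX : E * X = X * E := by
    rw [hE, sub_mul, mul_sub, smul_mul_assoc, mul_smul_comm, one_mul, mul_one, mul_assoc]
  have hRX : R0 * X = X * R0 := by
    have : R0 * X = X * R0 + (X * Xi - Xi * X) := by rw [hR]; noncomm_ring
    rw [this, hX, hX', sub_self, add_zero]
  have hE0 : E = 0 := by
    have hcomm : E * (X * Y) = E * (Y * X) := by
      rw [← mul_assoc, hEX, mul_assoc, hEY, ← mul_assoc, hEY, hRX]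
    rw [hζ, mul_smul_comm] at hcomm
    have h0 : E * (Y * X) = 0 := by
      have h : (ζ - 1) • (E * (Y * X)) = 0 := by rw [sub_smul, one_smul, hcomm, sub_self]
      rw [← inv_smul_smul₀ (sub_ne_zero.2 h1) (E * (Y * X)), h, smul_zero]
    calc E = E * (Y * X) * (Xi * Yi) := by
          rw [show E * (Y * X) * (Xi * Yi) = E * (Y * (X * Xi) * Yi) by noncomm_ring, hX, mul_one,
            hY, mul_one]
      _ = 0 := by rw [h0, zero_mul]
  have hXX : X * X = ζ • (1 : R) := by
    rw [hE, sub_eq_zero] at hE0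
    calc X * X = ζ • (ζ⁻¹ • (X * X)) := by rw [smul_smul, mul_inv_cancel₀ hζ0, one_smul]
      _ = ζ • 1 := by rw [hE0]
  have hfin : (ζ * ζ * ζ) • Y = ζ • Y := by
    calc (ζ * ζ * ζ) • Y = (ζ * ζ) • (Y * (X * X)) := by rw [hXX, mul_smul_comm, mul_one, smul_smul]
      _ = X * X * Y := by
        rw [mul_assoc X X Y, hζ, mul_smul_comm, ← mul_assoc X Y X, hζ, smul_mul_assoc, smul_smul,
          mul_assoc]
      _ = ζ • Y := by rw [hXX, smul_mul_assoc, one_mul]
  have hY0 : Y ≠ 0 := fun h => by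
    rw [h, zero_mul] at hY
    exact zero_ne_one hY
  have h2 : (ζ * ζ - 1) • Y = 0 := by
    have h : ζ • ((ζ * ζ - 1) • Y) = 0 := by
      rw [smul_smul, mul_sub, mul_one, ← mul_assoc, sub_smul, hfin, sub_self]
    rw [← inv_smul_smul₀ hζ0 ((ζ * ζ - 1) • Y), h, smul_zero]
  by_contra hne
  exact hY0 (by rw [← inv_smul_smul₀ (sub_ne_zero.2 hne) Y, h2, smul_zero])

end Cfsg.Agent.FittingHeight
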