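import Cfsg.Agent.Lib.FittingHeight.Setting

/-!
# An automorphism of order four without fixed points

In the linear configuration for a cyclic group `⟨s⟩` with `s ^ 4 = 1` the group `M` is abelian.
With `τ = s²`: a non-trivial weight `χ` is fixed by `τ`, which is then `-1` on the weight space;
so elements inverted by `τ` act trivially there, and `C_M(τ)` is abelian since `s` inverts it.
-/

namespace Cfsg.Agent.FittingHeight

open Subgroup SemidirectProduct
open scoped commutatorElement

universe u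

/-- Every element is a product of a fixed point and an element inverted by an automorphism of
square one, if all orders are odd. -/
theorem exists_fixed_mul_inverted {M : Type*} [Group M] (τ : MulAut M) (hτ : ∀ m, τ (τ m) = m)
    (hodd : ∀ x : M, Odd (orderOf x)) {H : Subgroup M} (hH : ∀ x ∈ H, τ x ∈ H) {m : M}
    (hm : m ∈ H) : ∃ c ∈ H, ∃ e ∈ H, τ c = c ∧ τ e = e⁻¹ ∧ m = c * e := by
  set w := m⁻¹ * τ m with hw
  have hwH : w ∈ H := mul_mem (inv_mem hm) (hH m hm)
  have hτw : τ w = w⁻¹ := by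
    rw [hw, map_mul, map_inv, hτ, mul_inv_rev, inv_inv]
  obtain ⟨j, hj⟩ := hodd w
  set e := w ^ (j + 1) with he
  have hee : e * e = w := by
    rw [he, ← pow_add, show j + 1 + (j + 1) = orderOf w + 1 by omega, pow_succ, pow_orderOf_eq_one,
      one_mul]
  have hτe : τ e = e⁻¹ := by rw [he, map_pow, hτw, inv_pow]
  refine ⟨m * e, mul_mem hm (pow_mem hwH _), e⁻¹, inv_mem (pow_mem hwH _), ?_, ?_, ?_⟩
  · rw [map_mul, hτe]
    have : τ m = m * (e * e) := by rw [hee, hw, mul_inv_cancel_left]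
    rw [this, ← mul_assoc, mul_inv_cancel_right]
  · rw [map_inv, hτe, inv_inv]
  · rw [mul_inv_cancel_right]

/-- If `e` has odd order and its square commutes with `f`, then `e` commutes with `f`. -/
theorem commute_of_sq_commute {M : Type*} [Group M] {e f : M} (hodd : Odd (orderOf e))
    (h : Commute (e * e) f) : Commute e f := by
  obtain ⟨j, hj⟩ := hodd
  have : e = (e * e) ^ (j + 1) := by
    rw [← sq, ← pow_mul, show 2 * (j + 1) = orderOf e + 1 by omega, pow_succ, pow_orderOf_eq_one,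
      one_mul]
  rw [this]
  exact h.pow_left _

theorem coreProp_orderFour {A : Type*} [Group A] [Fintype A] (s : A) (hs : s ^ 4 = 1)
    (hgen : ∀ a, a ∈ Subgroup.zpowers s) : CoreProp.{u} A (fun n => n = 1) := by
  classical
  intro M _ _ _ φ r k _ _ d ρ hr hchar hcop hAk hfix hfaith hsum hOr _
  refine ⟨1, rfl, lowerCentralSeries_one_eq_bot_iff.2 ⟨⟨fun x y => ?_⟩⟩⟩
  -- a point fixed by `s` is trivial
  have hfs : ∀ m : M, φ s m = m → m = 1 := by
    intro m hm
    have : m ∈ Coprime.fixedBy φ := by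
      intro a
      obtain ⟨i, rfl⟩ := hgen a
      have h : φ (s ^ i) ∈ MulAction.stabilizer (MulAut M) m := by
        rw [map_zpow]; exact zpow_mem (show φ s ∈ MulAction.stabilizer (MulAut M) m from hm) i
      exact h
    rwa [hfix, mem_bot] at this
  set τ := φ (s ^ 2) with hτdef
  have hτapply : ∀ m, τ m = φ s (φ s m) := fun m => by
    rw [hτdef, sq, map_mul, MulAut.mul_apply]
  -- `τ = 1` means that an involution has no fixed point
  by_cases hτ1 : ∀ m, τ m = m
  · exact (MonoidHom.FixedPointFree.commute_all_of_involutive (φ := φ s) hfs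
      (fun m => by rw [← hτapply, hτ1]) x y).eq
  have hs2 : s ^ 2 ≠ 1 := fun h => hτ1 fun m => by rw [hτdef, h, map_one, MulAut.one_apply]
  have hord : orderOf s = 4 := by
    refine orderOf_eq_prime_pow (p := 2) (n := 1) (by simpa using hs2) (by simpa using hs)
  have hodd : ∀ m : M, Odd (orderOf m) := by
    intro m
    have h2 : 2 ∣ Nat.card A := (show 2 ∣ orderOf s by rw [hord]; norm_num).trans (orderOf_dvd_natCard s)
    have hM : Odd (Nat.card M) :=
      Nat.odd_iff.2 (Nat.two_dvd_ne_zero.1 fun h => by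
        have := hcop ▸ Nat.dvd_gcd h2 h
        norm_num at this)
    exact hM.of_dvd_nat (orderOf_dvd_natCard m)
  have hττ : ∀ m, τ (τ m) = m := fun m => by
    rw [hτdef, ← MulAut.mul_apply, ← map_mul, ← pow_add, hs, map_one, MulAut.one_apply]
  -- `C_M(τ)` is abelian
  have hCτ : ∀ {c c' : M}, τ c = c → τ c' = c' → Commute c c' := by
    intro c c' hc hc'
    set C : Subgroup M := MonoidHom.eqLocus (τ : M →* M) (MonoidHom.id M) with hC
    have hinv : ∀ m : M, m ∈ C → φ s m ∈ C := fun m hm => by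
      show τ (φ s m) = φ s m
      rw [hτapply, ← hτapply m, show τ m = m from hm]
    let f : C →* C :=
      { toFun := fun m => ⟨φ s m, hinv m m.2⟩
        map_one' := Subtype.ext (map_one (φ s))
        map_mul' := fun a b => Subtype.ext (map_mul (φ s) (a : M) b) }
    exact congrArg Subtype.val ((MonoidHom.FixedPointFree.commute_all_of_involutive (φ := f)
      (fun m hm => Subtype.ext (hfs m (congrArg Subtype.val hm)))
      (fun m => Subtype.ext ((hτapply m).symm.trans m.2))) ⟨c, hc⟩ ⟨c', hc'⟩).eq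
  -- elements of `A`
  have hA4 : ∀ a : A, a = 1 ∨ a = s ∨ a = s ^ 2 ∨ a = s ^ 3 := by
    intro a
    obtain ⟨i, hi, rfl⟩ : ∃ i < 4, s ^ i = a := by
      obtain ⟨i, rfl⟩ := hgen a
      refine ⟨(i % 4).toNat, by omega, ?_⟩
      show _ = s ^ i
      rw [← zpow_natCast, Int.toNat_of_nonneg (Int.emod_nonneg i (by norm_num))]
      conv_rhs => rw [show i = 4 * (i / 4) + i % 4 from (Int.mul_ediv_add_emod i 4).symm, zpow_add,
        zpow_mul, show s ^ (4 : ℤ) = 1 by exact_mod_cast hs, one_zpow, one_mul]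
    interval_cases i <;> simp
  -- the basic property of a non-trivial weight
  have key : ∀ (Q : Subgroup M), (∀ a, ∀ x ∈ Q, φ a x ∈ Q) →
      ∀ (χ : (Q.map (inl : M →* M ⋊[φ] A)) →* k) (v : Fin d → k), v ≠ 0 →
      v ∈ weightSpace ρ (Q.map inl) χ → (∃ l, χ l ≠ 1) →
      inr (s ^ 2) ∈ wStab k (Q.map (inl : M →* M ⋊[φ] A)) χ ∧ ρ (inr (s ^ 2)) v = -v := by
    intro Q hQ χ v hv0 hv hne
    set St : Finset A := Finset.univ.filter fun a => (inr a : M ⋊[φ] A) ∈ wStab k (Q.map inl) χ
    have hSt : ∀ a, a ∈ St ↔ (inr a : M ⋊[φ] A) ∈ wStab k (Q.map inl) χ := fun a => by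
      simp [St]
    have h0 := sum_stab_eq_zero ρ hv (fun a : A => (inr a : M ⋊[φ] A)) (inr_mem_normalizer hQ)
      (hsum v) St hSt
    have hs1 : s ∉ St := by
      rw [hSt]
      intro h
      obtain ⟨l, hl⟩ := hne
      exact hl (weight_eq_one_of_fixedPointFree le_rfl (hQ s) h (fun m _ hm => hfs m hm) l.2)
    have hs3 : s ^ 3 ∉ St := by
      rw [hSt] at hs1 ⊢
      intro h
      apply hs1
      have e : s = (s ^ 3)⁻¹ := eq_inv_of_mul_eq_one_left (by rw [← pow_succ', hs])
      rw [e, map_inv]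
      exact inv_mem h
    have h1 : (1 : A) ∈ St := by rw [hSt, map_one]; exact one_mem _
    by_cases h2 : s ^ 2 ∈ St
    · refine ⟨(hSt _).1 h2, ?_⟩
      have hSt2 : St = {1, s ^ 2} := by
        ext a
        rcases hA4 a with rfl | rfl | rfl | rfl
        · simp [h1]
        · simp only [hs1, Finset.mem_insert, Finset.mem_singleton, false_iff, not_or]
          exact ⟨fun e => by rw [e] at hs2; simp at hs2, fun e => hs1 (e ▸ h2)⟩
        · simp [h2]
        · simp only [hs3, Finset.mem_insert, Finset.mem_singleton, false_iff, not_or]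
          exact ⟨fun e => hs3 (e ▸ h1), fun e => hs3 (e ▸ h2)⟩
      rw [hSt2, Finset.sum_pair (Ne.symm hs2), map_one, apply_one] at h0
      exact eq_neg_of_add_eq_zero_right h0
    · exfalso
      have hSt1 : St = {1} := by
        ext a
        rcases hA4 a with rfl | rfl | rfl | rfl
        · simp [h1]
        · simp only [hs1, Finset.mem_singleton, false_iff]
          exact fun e => hs1 (e ▸ h1)
        · simp [h2, hs2]
        · simp only [hs3, Finset.mem_singleton, false_iff]
          exact fun e => hs3 (e ▸ h1)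
      rw [hSt1, Finset.sum_singleton, map_one, apply_one] at h0
      exact hv0 h0
  -- nilpotent invariant subgroups of order prime to `r` are abelian
  have habel : ∀ Q : Subgroup M, (∀ a, ∀ x ∈ Q, φ a x ∈ Q) → Group.IsNilpotent Q →
      (Nat.card Q : k) ≠ 0 → ∀ x ∈ Q, ∀ y ∈ Q, Commute x y := by
    intro Q hQ hQn hQk x₁ hx₁ y₁ hy₁
    by_contra hne
    set Z : Subgroup M := ⁅Q, Q⁆ ⊓ centralizer (Q : Set M) with hZdef
    have hQQ : ⁅Q, Q⁆ ≤ Q := Subgroup.commutator_le.2 fun a ha b hb => by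
      rw [commutatorElement_def]
      exact mul_mem (mul_mem (mul_mem ha hb) (inv_mem ha)) (inv_mem hb)
    have hZQ : Z ≤ Q := inf_le_left.trans hQQ
    have hmap : ∀ a, Q.map (φ a : M →* M) = Q := map_eq_of_invariant φ hQ
    have hZi : ∀ a, ∀ z ∈ Z, φ a z ∈ Z := by
      rintro a z ⟨h1, h2⟩
      refine ⟨?_, ?_⟩
      · have := mem_map_of_mem (φ a : M →* M) h1
        rwa [map_commutator, hmap] at this
      · refine mem_centralizer_iff.2 fun q hq => ?_
        obtain ⟨q', hq', rfl⟩ := (hmap a).ge hq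
        show φ a q' * φ a z = φ a z * φ a q'
        rw [← map_mul, ← map_mul, mem_centralizer_iff.1 h2 q' hq']
    obtain ⟨z₀, hz₀, hz₀1⟩ : ∃ z ∈ Z, z ≠ 1 := by
      have hcomm : commutator Q ≠ ⊥ := by
        intro h
        have h' : ⁅(⟨x₁, hx₁⟩ : Q), (⟨y₁, hy₁⟩ : Q)⁆ = (1 : Q) := by
          rw [← mem_bot (G := Q), ← h]
          exact commutator_mem_commutator (mem_top _) (mem_top _)
        exact hne (commutatorElement_eq_one_iff_commute.1 (congrArg Subtype.val h'))
      obtain ⟨⟨z, hz⟩, hz1⟩ := Subgroup.ne_bot_iff_exists_ne_one.1 (Solvable.inf_center_ne_bot hcomm)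
      refine ⟨(z : M), ⟨?_, mem_centralizer_iff.2 fun q hq => ?_⟩, fun h => hz1 (Subtype.ext (Subtype.ext h))⟩
      · have := mem_map_of_mem Q.subtype hz.1
        rwa [map_subtype_commutator] at this
      · exact congrArg Subtype.val (mem_center_iff.1 hz.2 ⟨q, hq⟩)
    set L := Z.map (inl : M →* M ⋊[φ] A) with hL
    have hLk : (Nat.card L : k) ≠ 0 := natCard_map_inl_ne_zero (natCard_ne_zero_of_le hQk hZQ)
    obtain ⟨w₀, hw₀⟩ : ∃ w, ρ (inl z₀) w ≠ w := by
      by_contra h
      push Not at h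
      exact hz₀1 (hfaith z₀ (LinearMap.ext h))
    have hcommL : ∀ a ∈ L, ∀ b ∈ L, ∀ w ∈ (⊤ : Submodule k (Fin d → k)),
        ρ a (ρ b w) = ρ b (ρ a w) := by
      rintro _ ⟨a, ha, rfl⟩ _ ⟨b, hb, rfl⟩ w -
      rw [← apply_mul, ← apply_mul, ← map_mul, ← map_mul,
        mem_centralizer_iff.1 (ha.2) b (hZQ hb)]
    obtain ⟨χ, v, -, hv0, hv, hχ⟩ := exists_weight ρ (L := L) hLk (fun _ _ _ _ => Submodule.mem_top)
      hcommL (l₀ := ⟨inl z₀, mem_map_of_mem _ hz₀⟩) (Submodule.mem_top : w₀ ∈ ⊤) hw₀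
    set W := weightSpace ρ L χ with hW
    have hQW : ∀ q ∈ Q, ∀ w ∈ W, ρ (inl q) w ∈ W := fun q hq w hw =>
      mapsTo_weightSpace_of_commute ρ (inl_mem_centralizer (mem_centralizer_iff.2 fun z (hz : z ∈ Z) =>
        (mem_centralizer_iff.1 hz.2 q hq).symm)) hw
    have hneg : ∀ w ∈ W, ρ (inr (s ^ 2)) w = -w := by
      intro w hw
      by_cases h : w = 0
      · rw [h, map_zero, neg_zero]
      · exact (key Z hZi χ w h hw ⟨_, hχ⟩).2
    have hinv : ∀ e ∈ Q, τ e = e⁻¹ → ∀ w ∈ W, ρ (inl e) w = w := by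
      intro e he hτe w hw
      have h2 : ∀ w ∈ W, ρ (inl e⁻¹) w = ρ (inl e) w := by
        intro w hw
        have hi : ((inr (s ^ 2))⁻¹ : M ⋊[φ] A) = inr (s ^ 2) := by
          rw [← map_inv, inv_eq_of_mul_eq_one_left (by rw [← pow_add, hs] : s ^ 2 * s ^ 2 = 1)]
        rw [← hτe, hτdef, inl_apply, hi, apply_mul, apply_mul, hneg w hw, map_neg, map_neg,
          hneg _ (hQW e he w hw), neg_neg]
      refine mem_fixerOf_of_sq ρ (W := W) (g := inl e) ?_ (fun w hw => ?_) w hw
      · rw [orderOf_injective _ inl_injective]; exact hodd e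
      · rw [apply_mul, ← h2 _ (hQW e he w hw), ← apply_mul, ← map_mul, inv_mul_cancel, map_one,
          apply_one]
    have hcomm2 : ∀ a ∈ Q, ∀ b ∈ Q, ∀ w ∈ W, ρ (inl (a * b)) w = ρ (inl (b * a)) w := by
      intro a ha b hb w hw
      obtain ⟨c, hc, e, he, hτc, hτe, rfl⟩ :=
        exists_fixed_mul_inverted τ hττ hodd (hQ (s ^ 2)) ha
      obtain ⟨c', hc', e', he', hτc', hτe', rfl⟩ :=
        exists_fixed_mul_inverted τ hττ hodd (hQ (s ^ 2)) hb
      simp only [map_mul, Module.End.mul_apply]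
      rw [hinv e' he' hτe' w hw, hinv e he hτe _ (hQW c' hc' w hw), hinv e he hτe w hw,
        hinv e' he' hτe' _ (hQW c hc w hw), ← apply_mul, ← apply_mul, ← map_mul, ← map_mul,
        (hCτ hτc hτc').eq]
    have hle : ⁅Q, Q⁆ ≤ (fixerOf ρ W).comap (inl : M →* M ⋊[φ] A) := by
      refine Subgroup.commutator_le.2 fun a ha b hb w hw => ?_
      have hw' : ρ (inl (a⁻¹ * b⁻¹)) w ∈ W := hQW _ (mul_mem (inv_mem ha) (inv_mem hb)) w hw
      rw [commutatorElement_def, show a * b * a⁻¹ * b⁻¹ = a * b * (a⁻¹ * b⁻¹) by group,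
        map_mul inl, apply_mul, hcomm2 a ha b hb _ hw', ← apply_mul, ← map_mul,
        show b * a * (a⁻¹ * b⁻¹) = 1 by group, map_one, apply_one]
    exact hχ (weight_eq_one_of_fixed ρ hv hv0 (hle hz₀.1 v hv))
  -- the Fitting subgroup is central
  set F := fittingSubgroup M with hF
  have hFn : F.Normal := Components.fittingSubgroup_normal M
  have hFc : F.Characteristic := Components.fittingSubgroup_characteristic M
  have hFi : ∀ a, ∀ z ∈ F, φ a z ∈ F := fun a z hz => apply_mem_of_characteristic φ a hz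
  have hFk : (Nat.card F : k) ≠ 0 := natCard_fittingSubgroup_ne_zero hr hOr
  have hFab := habel F hFi (Components.fittingSubgroup_isNilpotent M) hFk
  have hFτ : ∀ f ∈ F, τ f = f := by
    intro f hf
    set L := F.map (inl : M →* M ⋊[φ] A) with hL
    have : IsMulCommutative L := ⟨⟨by
      rintro ⟨_, a, ha, rfl⟩ ⟨_, b, hb, rfl⟩
      exact Subtype.ext (by show inl a * inl b = inl b * inl a; rw [← map_mul, ← map_mul,
        (hFab a ha b hb).eq])⟩⟩
    have hl : inl (f⁻¹ * τ f) ∈ L := mem_map_of_mem _ (mul_mem (inv_mem hf) (hFi _ f hf))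
    have := eq_one_of_forall_weight ρ (L := L) (natCard_map_inl_ne_zero hFk)
      (l₀ := ⟨_, hl⟩) (fun h => (congrArg inl (hfaith _ h)).trans (map_one _)) fun χ v hv0 hv => by
        by_cases hne : ∃ l, χ l ≠ 1
        · obtain ⟨hst, -⟩ := key F hFi χ v hv0 hv hne
          let lf : L := ⟨inl f, mem_map_of_mem _ hf⟩
          let lt' : L := ⟨inl (τ f), mem_map_of_mem _ (hFi _ f hf)⟩
          have e : (⟨_, hl⟩ : L) = lf⁻¹ * lt' := Subtype.ext (by
            show inl (f⁻¹ * τ f) = (inl f)⁻¹ * inl (τ f)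
            rw [map_mul, map_inv])
          have h2 := apply_eq_of_mem_wStab hst lf (by
            rw [← inl_apply]; exact mem_map_of_mem _ (hFi _ f hf))
          have h3 : χ lt' = χ lf := by
            rw [← h2]; congr 1; exact Subtype.ext (inl_apply _ _)
          rw [e, map_mul, h3, ← map_mul, inv_mul_cancel, map_one]
        · push Not at hne
          exact hne _
    exact (inv_mul_eq_one.1 (inl_injective (this.trans (map_one inl).symm))).symm
  have hcentral : ∀ m : M, ∀ f ∈ F, Commute m f := by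
    intro m f hf
    obtain ⟨c, -, e, -, hτc, hτe, rfl⟩ :=
      exists_fixed_mul_inverted τ hττ hodd (H := ⊤) (fun _ _ => mem_top _) (mem_top m)
    refine (hCτ hτc (hFτ f hf)).mul_left (commute_of_sq_commute (hodd e) ?_)
    have h1 := hFτ _ (hFn.conj_mem f hf e)
    rw [map_mul, map_mul, map_inv, hτe, hFτ f hf, inv_inv] at h1
    show e * e * f = f * (e * e)
    calc e * e * f = e * (e * f * e⁻¹) * e := by group
      _ = e * (e⁻¹ * f * e) * e := by rw [h1]
      _ = f * (e * e) := by group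
  have hCF : centralizer (F : Set M) ≤ F := Components.centralizer_fittingSubgroup_le
  have hall : ∀ m : M, m ∈ F := fun m =>
    hCF (mem_centralizer_iff.2 fun f hf => ((hcentral m f hf).eq).symm)
  exact (hFab x (hall x) y (hall y)).eq

end Cfsg.Agent.FittingHeight
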