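import Mathlib.LinearAlgebra.Vandermonde
import Mathlib.Algebra.MonoidAlgebra.Basic
import Mathlib.GroupTheory.OrderOfElement
import Mathlib.GroupTheory.SpecificGroups.Cyclic
import Mathlib.Tactic.Ring
import Mathlib.GroupTheory.QuotientGroup.Basic
import Mathlib.Algebra.Group.End

/-!
# A fixed-point-free operator needs room on a symplectic module

`H` is an abelian group of automorphisms of the finite abelian group `V` preserving a non-degenerate
alternating pairing, normalised by `α` of prime order `ℓ`, orders pairwise coprime. If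
`|V : C_V(α)| ≤ (ℓ - 1)²` then `α` centralises `H`: otherwise a non-degenerate piece on which
`⟨α⟩` acts freely gives `|V : C_V(α)| ≥ 4^(ℓ-1)`.
-/

namespace Cfsg.Agent.FittingHeight

open Subgroup

variable {V : Type*} [CommGroup V] {k : Type*} [Field k]

/-- Fixed points of a group of automorphisms. -/
def fixV (K : Subgroup (MulAut V)) : Subgroup V where
  carrier := {x | ∀ h ∈ K, h x = x}
  one_mem' := fun h _ => map_one h
  mul_mem' := fun {x y} hx hy h hh => by rw [map_mul, hx h hh, hy h hh]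
  inv_mem' := fun {x} hx h hh => by rw [map_inv, hx h hh]

/-- The commutator of an invariant subgroup with a group of automorphisms. -/
def commV (P : Subgroup V) (K : Subgroup (MulAut V)) : Subgroup V :=
  closure {y | ∃ h ∈ K, ∃ x ∈ P, h x / x = y}

/-- Non-degeneracy of the pairing on a subgroup. -/
def NondegOn (β : V → V →* k) (P : Subgroup V) : Prop :=
  ∀ x ∈ P, (∀ y ∈ P, β x y = 1) → x = 1

theorem fixV_antitone {K L : Subgroup (MulAut V)} (h : K ≤ L) : fixV L ≤ fixV K :=
  fun _ hx g hg => hx g (h hg)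

theorem commV_le {P : Subgroup V} {K : Subgroup (MulAut V)} (hP : ∀ h ∈ K, ∀ x ∈ P, h x ∈ P) :
    commV P K ≤ P :=
  (closure_le _).2 (by rintro _ ⟨h, hh, x, hx, rfl⟩; exact P.div_mem (hP h hh x hx) hx)

/-- An automorphism normalising `K` maps `commV P K` into `commV P' K`. -/
theorem apply_mem_commV {P P' : Subgroup V} {K : Subgroup (MulAut V)} {g : MulAut V}
    (hgP : ∀ x ∈ P, g x ∈ P') (hgK : ∀ h ∈ K, g * h * g⁻¹ ∈ K) {y : V} (hy : y ∈ commV P K) :
    g y ∈ commV P' K := by
  have hle : commV P K ≤ (commV P' K).comap (g : V →* V) := (closure_le _).2 (by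
    rintro _ ⟨h, hh, x, hx, rfl⟩
    refine subset_closure ⟨g * h * g⁻¹, hgK h hh, g x, hgP x hx, ?_⟩
    rw [MulAut.mul_apply, MulAut.mul_apply, show g⁻¹ (g x) = x from g.symm_apply_apply x]
    exact (map_div g (h x) x).symm)
  exact hle hy

variable {β : V → V →* k} (hl : ∀ x x' y, β (x * x') y = β x y * β x' y) (halt : ∀ x, β x x = 1)

include hl in
theorem pair_one_left (y : V) : β 1 y = 1 := by
  have h := hl 1 1 y
  rw [one_mul] at h
  have h0 : β 1 y ≠ 0 := fun e => by
    have := (β 1).map_mul y y⁻¹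
    rw [mul_inv_cancel, map_one, e, zero_mul] at this
    exact one_ne_zero this
  exact (mul_eq_left₀ h0).1 h.symm

include hl halt in
theorem pair_symm (x y : V) : β x y * β y x = 1 := by
  have h := halt (x * y)
  rw [hl, map_mul, map_mul, halt, halt, one_mul, mul_one] at h
  exact h

include hl halt in
theorem pair_eq_one_comm {x y : V} (h : β x y = 1) : β y x = 1 := by
  have := pair_symm hl halt x y
  rwa [h, one_mul] at this

/-- A fixed point is orthogonal to the commutator. -/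
theorem pair_fix_comm {K : Subgroup (MulAut V)} (hK : ∀ h ∈ K, ∀ x y, β (h x) (h y) = β x y)
    {P : Subgroup V} {c d : V} (hc : c ∈ fixV K) (hd : d ∈ commV P K) : β c d = 1 := by
  have hle : commV P K ≤ (β c).ker := (closure_le _).2 (by
    rintro _ ⟨h, hh, x, -, rfl⟩
    have e : β c (h x) = β c x := by
      conv_lhs => rw [← hc h hh]
      exact hK h hh c x
    have hxx := (β c).map_mul x x⁻¹
    rw [mul_inv_cancel, map_one] at hxx
    show β c (h x / x) = 1
    rw [div_eq_mul_inv, map_mul, e, ← hxx])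
  exact hle hd

variable [Finite V]

theorem le_fix_sup_comm {K : Subgroup (MulAut V)} [Finite K]
    (hcop : (Nat.card K).Coprime (Nat.card V)) {P : Subgroup V}
    (hP : ∀ h ∈ K, ∀ x ∈ P, h x ∈ P) : P ≤ (P ⊓ fixV K) ⊔ commV P K := by
  intro v hv
  let _ : Fintype K := Fintype.ofFinite K
  have hn : (∏ h : K, (h : MulAut V) v) ∈ P ⊓ fixV K := by
    refine ⟨P.prod_mem fun h _ => hP h h.2 v hv, fun g hg => ?_⟩
    rw [map_prod]
    exact Fintype.prod_equiv (Equiv.mulLeft (⟨g, hg⟩ : K)) _ _ fun h => rfl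
  have hc : (∏ h : K, v / (h : MulAut V) v) ∈ commV P K := Subgroup.prod_mem _ fun h _ => by
    rw [← inv_div]
    exact inv_mem (subset_closure ⟨h, h.2, v, hv, rfl⟩)
  have e : v ^ Nat.card K = (∏ h : K, (h : MulAut V) v) * ∏ h : K, v / (h : MulAut V) v := by
    rw [← Finset.prod_mul_distrib]
    simp [Nat.card_eq_fintype_card]
  have hco : (Nat.card K).Coprime (orderOf v) :=
    hcop.coprime_dvd_right (orderOf_dvd_natCard v)
  obtain ⟨m, hm⟩ := exists_pow_eq_self_of_coprime hco
  rw [← hm, e]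
  exact pow_mem (mul_mem_sup hn hc) m

section Split

variable {K : Subgroup (MulAut V)} [Finite K] (hcop : (Nat.card K).Coprime (Nat.card V))
  (hK : ∀ h ∈ K, ∀ x y, β (h x) (h y) = β x y) {P : Subgroup V}
  (hP : ∀ h ∈ K, ∀ x ∈ P, h x ∈ P) (hnd : NondegOn β P)

include hl halt hcop hK hP hnd in
theorem nondeg_fix : NondegOn β (P ⊓ fixV K) := by
  intro x hx hxo
  refine hnd x hx.1 fun y hy => ?_
  obtain ⟨c, hc, d, hd, rfl⟩ := mem_sup.1 (le_fix_sup_comm hcop hP hy)
  rw [map_mul, hxo c hc, pair_fix_comm hK hx.2 hd, one_mul]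

include hl halt hcop hK hP hnd in
theorem nondeg_comm : NondegOn β (commV P K) := by
  intro x hx hxo
  refine hnd x (commV_le hP hx) fun y hy => ?_
  obtain ⟨c, hc, d, hd, rfl⟩ := mem_sup.1 (le_fix_sup_comm hcop hP hy)
  rw [map_mul, hxo d hd, pair_eq_one_comm hl halt (pair_fix_comm hK hc.2 hx), one_mul]

include hl halt hcop hK hP hnd in
theorem comm_inf_fix {x : V} (hx : x ∈ commV P K) (hx' : x ∈ fixV K) : x = 1 := by
  refine hnd x (commV_le hP hx) fun y hy => ?_
  obtain ⟨c, hc, d, hd, rfl⟩ := mem_sup.1 (le_fix_sup_comm hcop hP hy)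
  rw [map_mul, pair_fix_comm hK hx' hd,
    pair_eq_one_comm hl halt (pair_fix_comm hK hc.2 hx), one_mul]

end Split

include hl halt in
/-- A non-trivial non-degenerate subgroup has at least four elements. -/
theorem four_le_card {P : Subgroup V} (hnd : NondegOn β P) (hP : P ≠ ⊥) : 4 ≤ Nat.card P := by
  classical
  obtain ⟨x, hx, hx1⟩ : ∃ x ∈ P, x ≠ 1 := by
    by_contra h
    push Not at h
    exact hP ((Subgroup.eq_bot_iff_forall _).2 h)
  obtain ⟨y, hy, hxy⟩ : ∃ y ∈ P, β x y ≠ 1 := by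
    by_contra h
    push Not at h
    exact hx1 (hnd x hx h)
  have hy1 : y ≠ 1 := fun h => hxy (by rw [h, map_one])
  have hyx : y ≠ x := fun h => hxy (by rw [h, halt])
  have hp1 : x * y ≠ 1 := fun h => hxy (by
    rw [eq_inv_of_mul_eq_one_right h]
    have := (β x).map_mul x x⁻¹
    rw [mul_inv_cancel, map_one, halt, one_mul] at this
    exact this.symm)
  have h1 : x * y ≠ x := fun h => hy1 (mul_eq_left.1 h)
  have h2 : x * y ≠ y := fun h => hx1 (mul_eq_right.1 h)
  let s : Finset P := {1, ⟨x, hx⟩, ⟨y, hy⟩, ⟨x * y, mul_mem hx hy⟩}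
  have hs : s.card = 4 := by
    rw [Finset.card_insert_of_notMem, Finset.card_insert_of_notMem, Finset.card_insert_of_notMem,
      Finset.card_singleton]
    · simp only [Finset.mem_singleton, Subtype.mk.injEq]; exact Ne.symm h2
    · simp only [Finset.mem_insert, Finset.mem_singleton, Subtype.mk.injEq, not_or]
      exact ⟨Ne.symm hyx, Ne.symm h1⟩
    · simp only [Finset.mem_insert, Finset.mem_singleton, Subtype.ext_iff, OneMemClass.coe_one,
        not_or]
      exact ⟨Ne.symm hx1, Ne.symm hy1, Ne.symm hp1⟩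
  let _ : Fintype P := Fintype.ofFinite P
  rw [Nat.card_eq_fintype_card, ← hs]
  exact Finset.card_le_univ s

/-- `H`-combinations acting on `V`. -/
noncomputable def actEnd (H : Subgroup (MulAut V)) :
    MonoidAlgebra ℤ H →+* AddMonoid.End (Additive V) :=
  MonoidAlgebra.liftNCRingHom (Int.castRingHom _)
    ({ toFun := fun h => MonoidHom.toAdditive ((h : MulAut V) : V →* V)
       map_one' := rfl
       map_mul' := fun _ _ => rfl } : H →* AddMonoid.End (Additive V))
    fun n h => Int.cast_commute n _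

theorem actEnd_of (H : Subgroup (MulAut V)) (h : H) (x : Additive V) :
    actEnd H (MonoidAlgebra.of ℤ H h) x = Additive.ofMul ((h : MulAut V) x.toMul) := by
  simp [actEnd, MonoidAlgebra.liftNCRingHom]
  rfl

/-- The Vandermonde argument. -/
theorem eq_one_of_vandermonde {H : Subgroup (MulAut V)} (hH : IsMulCommutative H)
    {W : Subgroup V} (hW : ∀ h ∈ H, ∀ x ∈ W, h x ∈ W) {n : ℕ} (u : Fin n → H)
    (hu : ∀ i j, i ≠ j → ∀ x ∈ W, ((u i : H) : MulAut V) x = ((u j : H) : MulAut V) x → x = 1)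
    (e : Fin n → V) (he : ∀ i, e i ∈ W)
    (hsum : (∀ j, ∏ i : Fin n, ((u j ^ (i : ℕ) : H) : MulAut V) (e i) = 1) ∨
      ∀ i : Fin n, ∏ j : Fin n, ((u j ^ (i : ℕ) : H) : MulAut V) (e j) = 1) :
    ∀ i, e i = 1 := by
  classical
  let _ : CommMonoid H := { (inferInstance : Monoid H) with mul_comm := hH.is_comm.comm }
  let R := MonoidAlgebra ℤ H
  let _ : CommRing R := MonoidAlgebra.commRing
  let Θ := actEnd H
  let v : Fin n → R := fun j => MonoidAlgebra.of ℤ H (u j)
  obtain ⟨N, hN, hdet⟩ : ∃ N : Matrix (Fin n) (Fin n) R,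
      (∀ i, ∑ j, Θ (N i j) (Additive.ofMul (e j)) = 0) ∧
      N.det = ∏ i : Fin n, ∏ j ∈ Finset.Ioi i, (v j - v i) := by
    rcases hsum with h | h
    · refine ⟨Matrix.vandermonde v, fun j => ?_, Matrix.det_vandermonde v⟩
      simp only [Matrix.vandermonde_apply, v, Θ, ← map_pow, actEnd_of, toMul_ofMul, ← ofMul_prod]
      rw [h j]; rfl
    · refine ⟨(Matrix.vandermonde v).transpose, fun i => ?_,
        (Matrix.det_transpose _).trans (Matrix.det_vandermonde v)⟩
      simp only [Matrix.transpose_apply, Matrix.vandermonde_apply, v, Θ, ← map_pow, actEnd_of,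
        toMul_ofMul, ← ofMul_prod]
      rw [h i]; rfl
  intro l
  have hzero : Θ N.det (Additive.ofMul (e l)) = 0 := by
    have key : ∀ j, ∑ i, Θ (N.adjugate l i * N i j) (Additive.ofMul (e j)) =
        if l = j then Θ N.det (Additive.ofMul (e l)) else 0 := by
      intro j
      have h := congrFun (congrFun (Matrix.adjugate_mul N) l) j
      rw [Matrix.mul_apply, Matrix.smul_apply, Matrix.one_apply, smul_eq_mul] at h
      have h2 : Θ (∑ i, N.adjugate l i * N i j) (Additive.ofMul (e j)) =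
          if l = j then Θ N.det (Additive.ofMul (e l)) else 0 := by
        rw [h]
        split_ifs with hlj
        · subst hlj; rw [mul_one]
        · rw [mul_zero, map_zero]; rfl
      rw [← h2, map_sum]
      exact (AddMonoidHom.finsetSum_apply _ _ _).symm
    have h0 : ∑ j, ∑ i, Θ (N.adjugate l i * N i j) (Additive.ofMul (e j)) = 0 := by
      rw [Finset.sum_comm]
      refine Finset.sum_eq_zero fun i _ => ?_
      have : ∀ j, Θ (N.adjugate l i * N i j) (Additive.ofMul (e j)) =
          Θ (N.adjugate l i) (Θ (N i j) (Additive.ofMul (e j))) := fun j => by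
        rw [map_mul]; rfl
      simp only [this]
      rw [← map_sum, hN i, map_zero]
    rw [Finset.sum_congr rfl fun j _ => key j, Finset.sum_ite_eq, if_pos (Finset.mem_univ l)] at h0
    exact h0
  let good : R → Prop := fun d => ∀ x ∈ W,
    (Θ d (Additive.ofMul x)).toMul ∈ W ∧ (Θ d (Additive.ofMul x) = 0 → x = 1)
  have hgood1 : good 1 := fun x hx => by
    rw [map_one]
    exact ⟨hx, fun h => congrArg Additive.toMul h⟩
  have hgoodmul : ∀ a b, good a → good b → good (a * b) := fun a b ha hb x hx => by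
    rw [map_mul]
    have h1 := hb x hx
    have h2 := ha _ h1.1
    exact ⟨h2.1, fun h => h1.2 (congrArg Additive.ofMul (h2.2 h))⟩
  have hgooddiff : ∀ i j, i ≠ j → good (v j - v i) := fun i j hij x hx => by
    have e : (Θ (v j - v i) (Additive.ofMul x)).toMul =
        ((u j : H) : MulAut V) x / ((u i : H) : MulAut V) x := by
      rw [map_sub]
      show (Θ (v j) (Additive.ofMul x) - Θ (v i) (Additive.ofMul x)).toMul = _
      simp only [v, Θ, actEnd_of]
      rfl
    refine ⟨?_, fun h => ?_⟩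
    · rw [e]; exact W.div_mem (hW _ (u j).2 x hx) (hW _ (u i).2 x hx)
    · rw [h] at e
      exact hu i j hij x hx (div_eq_one.1 e.symm).symm
  have hgood : good N.det := by
    rw [hdet]
    refine Finset.prod_induction _ good hgoodmul hgood1 fun i _ => ?_
    refine Finset.prod_induction _ good hgoodmul hgood1 fun j hj => ?_
    exact hgooddiff i j (Finset.mem_Ioi.1 hj).ne
  exact (hgood (e l) (he l)).2 hzero

/-- The bound. -/
theorem commute_of_small_commutator (hl : ∀ x x' y, β (x * x') y = β x y * β x' y)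
    (halt : ∀ x, β x x = 1) (hnd : ∀ x, (∀ y, β x y = 1) → x = 1)
    {H : Subgroup (MulAut V)} [Finite H] (hH : IsMulCommutative H)
    (hHβ : ∀ h ∈ H, ∀ x y, β (h x) (h y) = β x y) {α : MulAut V}
    (hαβ : ∀ x y, β (α x) (α y) = β x y) (hαH : ∀ h ∈ H, α * h * α⁻¹ ∈ H) {ℓ : ℕ} (hℓ : ℓ.Prime)
    (hαℓ : α ^ ℓ = 1) (hHV : (Nat.card H).Coprime (Nat.card V)) (hℓV : ℓ.Coprime (Nat.card V))
    (hℓH : ℓ.Coprime (Nat.card H))
    (hsmall : Nat.card V ≤ (ℓ - 1) ^ 2 * Nat.card (fixV (zpowers α))) :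
    ∀ h ∈ H, α * h * α⁻¹ = h := by
  classical
  have hℓF := Fact.mk hℓ
  have hcomm : ∀ a ∈ H, ∀ b ∈ H, a * b = b * a := fun a ha b hb =>
    congrArg Subtype.val (hH.is_comm.comm ⟨a, ha⟩ ⟨b, hb⟩)
  let δ : H →* MulAut V :=
    { toFun := fun h => (h : MulAut V)⁻¹ * (α * h * α⁻¹)
      map_one' := by simp
      map_mul' := fun a b => by
        have h1 := hcomm _ (inv_mem a.2) _ (mul_mem (inv_mem b.2) (hαH b b.2))
        simp only [Subgroup.coe_mul]
        calc ((a : MulAut V) * b)⁻¹ * (α * ((a : MulAut V) * b) * α⁻¹)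
            = (b : MulAut V)⁻¹ * ((a : MulAut V)⁻¹ * (α * a * α⁻¹)) * (α * b * α⁻¹) := by group
          _ = (a : MulAut V)⁻¹ * (α * a * α⁻¹) * ((b : MulAut V)⁻¹ * (α * b * α⁻¹)) := by
            rw [hcomm _ (inv_mem b.2) _ (mul_mem (inv_mem a.2) (hαH a a.2))]
            group }
  set H1 := δ.range with hH1
  suffices hbot : H1 = ⊥ by
    intro h hh
    have := (Subgroup.eq_bot_iff_forall _).1 hbot _ ⟨⟨h, hh⟩, rfl⟩
    exact (inv_mul_eq_one.1 this).symm
  have hH1H : H1 ≤ H := by
    rintro _ ⟨h, rfl⟩; exact mul_mem (inv_mem h.2) (hαH h h.2)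
  have hcomm1 : ∀ a ∈ H1, ∀ b ∈ H1, a * b = b * a := fun a ha b hb =>
    hcomm a (hH1H ha) b (hH1H hb)
  have hH1c : IsMulCommutative H1 := ⟨⟨fun a b => Subtype.ext (hcomm1 a a.2 b b.2)⟩⟩
  have hαH1 : ∀ h ∈ H1, α * h * α⁻¹ ∈ H1 := by
    rintro _ ⟨h, rfl⟩
    refine ⟨⟨α * h * α⁻¹, hαH h h.2⟩, ?_⟩
    show (α * (h : MulAut V) * α⁻¹)⁻¹ * (α * (α * (h : MulAut V) * α⁻¹) * α⁻¹) =
      α * ((h : MulAut V)⁻¹ * (α * h * α⁻¹)) * α⁻¹
    group
  have hfpf : ∀ h ∈ H1, α * h * α⁻¹ = h → h = 1 := by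
    rintro _ ⟨g, rfl⟩ hfix
    have hit : ∀ i : ℕ, α ^ i * (g : MulAut V) * (α ^ i)⁻¹ = g * δ g ^ i := by
      intro i
      induction i with
      | zero => simp
      | succ i ih =>
        calc α ^ (i + 1) * (g : MulAut V) * (α ^ (i + 1))⁻¹
            = α * (α ^ i * g * (α ^ i)⁻¹) * α⁻¹ := by rw [pow_succ']; group
          _ = (α * g * α⁻¹) * (α * δ g * α⁻¹) ^ i := by rw [ih, conj_pow]; group
          _ = g * (δ g) * δ g ^ i := by
            rw [hfix]
            congr 1
            show α * (g : MulAut V) * α⁻¹ = g * ((g : MulAut V)⁻¹ * (α * g * α⁻¹))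
            rw [mul_inv_cancel_left]
          _ = g * δ g ^ (i + 1) := by rw [pow_succ', mul_assoc]
    have h1 := hit ℓ
    rw [hαℓ, inv_one, mul_one, one_mul, left_eq_mul] at h1
    rw [← orderOf_eq_one_iff]
    refine Nat.eq_one_of_dvd_coprimes hℓH (orderOf_dvd_of_pow_eq_one h1) ?_
    have h := orderOf_dvd_natCard (⟨δ g, hH1H ⟨g, rfl⟩⟩ : H)
    rwa [← Subgroup.orderOf_coe] at h
  by_contra hne
  have : Finite H1 := Finite.Set.subset (H : Set (MulAut V)) hH1H
  have hcop1 : ∀ {K : Subgroup (MulAut V)}, K ≤ H1 → (Nat.card K).Coprime (Nat.card V) :=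
    fun hK => hHV.coprime_dvd_left (card_dvd_of_le (hK.trans hH1H))
  have hβ1 : ∀ {K : Subgroup (MulAut V)}, K ≤ H1 → ∀ h ∈ K, ∀ x y, β (h x) (h y) = β x y :=
    fun hK h hh => hHβ h (hH1H (hK hh))
  -- a maximal subgroup with fixed points not fixed by `H1`
  obtain ⟨K, ⟨hKH1, hKne⟩, hKmax⟩ := Set.Finite.exists_maximal
    (s := {K : Subgroup (MulAut V) | K ≤ H1 ∧ ¬ fixV K ≤ fixV H1})
    (by
      have : Finite (Subgroup H1) := Finite.of_injective _ SetLike.coe_injective
      exact Set.Finite.subset (Set.Finite.image (fun K : Subgroup H1 => K.map H1.subtype)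
        (Set.toFinite Set.univ)) fun K hK => ⟨K.subgroupOf H1, trivial,
          Subgroup.map_subgroupOf_eq_of_le hK.1⟩)
    ⟨⊥, bot_le, fun h => hne (by
      rw [Subgroup.eq_bot_iff_forall]
      intro g hg
      refine MulEquiv.ext fun x => ?_
      exact h (fun y hy => by rw [mem_bot] at hy; rw [hy]; rfl : x ∈ fixV (⊥ : Subgroup (MulAut V))) g hg)⟩
  have : Finite K := Finite.Set.subset (H1 : Set (MulAut V)) hKH1
  set P := fixV K with hP
  have hPi : ∀ h ∈ H1, ∀ x ∈ P, h x ∈ P := fun h hh x hx g hg => by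
    rw [← MulAut.mul_apply, hcomm1 g (hKH1 hg) h hh, MulAut.mul_apply, hx g hg]
  have hPnd : NondegOn β P := by
    have := nondeg_fix hl halt (hcop1 hKH1) (hβ1 hKH1) (P := ⊤) (fun _ _ _ _ => mem_top _)
      (fun x _ h => hnd x fun y => h y (mem_top y))
    rwa [top_inf_eq] at this
  set W := commV P H1 with hW
  have hWP : W ≤ P := commV_le hPi
  have hWnd : NondegOn β W := nondeg_comm hl halt (hcop1 le_rfl) (hβ1 le_rfl) hPi hPnd
  have hWfix : ∀ x ∈ W, x ∈ fixV H1 → x = 1 := fun x hx hx' =>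
    comm_inf_fix hl halt (hcop1 le_rfl) (hβ1 le_rfl) hPi hPnd hx hx'
  have hWne : W ≠ ⊥ := fun h => hKne (by
    refine (le_fix_sup_comm (hcop1 le_rfl) hPi).trans ?_
    rw [← hW, h, sup_bot_eq]
    exact inf_le_right)
  have hWi : ∀ h ∈ H1, ∀ x ∈ W, h x ∈ W := fun h hh x hx =>
    apply_mem_commV (hPi h hh) (fun g hg => mul_mem (mul_mem hh hg) (inv_mem hh)) hx
  have hW4 := four_le_card hl halt hWnd hWne
  have hfree : ∀ u ∈ H1, u ∉ K → ∀ x ∈ W, u x = x → x = 1 := by
    intro u hu huK x hx hux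
    refine hWfix x hx ?_
    have hlt : fixV (K ⊔ zpowers u) ≤ fixV H1 := by
      by_contra h
      exact huK (hKmax ⟨sup_le hKH1 (zpowers_le.2 hu), h⟩ le_sup_left (mem_sup_right (mem_zpowers u)))
    refine hlt fun g hg => ?_
    have hle : K ⊔ zpowers u ≤ MulAction.stabilizer (MulAut V) x :=
      sup_le (fun k hk => hWP hx k hk) (zpowers_le.2 hux)
    exact hle hg
  -- the image of `x ↦ α x / x`
  let D : V →* V :=
    { toFun := fun x => α x / x
      map_one' := by simp
      map_mul' := fun x y => by rw [map_mul, mul_div_mul_comm] }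
  have hDker : D.ker = fixV (zpowers α) := by
    ext x
    rw [MonoidHom.mem_ker]
    refine ⟨fun h g hg => ?_, fun h => div_eq_one.2 (h α (mem_zpowers α))⟩
    have : zpowers α ≤ MulAction.stabilizer (MulAut V) x := zpowers_le.2 (div_eq_one.1 h)
    exact this hg
  have hDrange : Nat.card D.range ≤ (ℓ - 1) ^ 2 := by
    have h := card_eq_card_quotient_mul_card_subgroup D.ker
    rw [Nat.card_congr (QuotientGroup.quotientKerEquivRange D).toEquiv] at h
    rw [h, hDker] at hsmall
    exact Nat.le_of_mul_le_mul_right hsmall Nat.card_pos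
  have hbig : ∀ (Y : Subgroup V), 4 ≤ Nat.card Y →
      ∀ f : (Fin (ℓ - 1) → Y) → V, Function.Injective (fun c => D (f c)) → False := by
    intro Y hY f hf
    have h1 : Nat.card (Fin (ℓ - 1) → Y) ≤ Nat.card D.range :=
      Nat.card_le_card_of_injective (fun c => (⟨D (f c), _, rfl⟩ : D.range)) fun a b h =>
        hf (congrArg Subtype.val h)
    rw [Nat.card_fun, Nat.card_fin] at h1
    have h3 : (ℓ - 1) ^ 2 < 4 ^ (ℓ - 1) := by
      rw [show (4 : ℕ) = 2 ^ 2 from rfl, ← pow_mul, mul_comm 2, pow_mul]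
      exact Nat.pow_lt_pow_left Nat.lt_two_pow_self two_ne_zero
    exact absurd ((Nat.pow_le_pow_left hY _).trans (h1.trans hDrange)) (not_le.2 h3)
  have hαn : ∀ i : ℕ, ∀ h ∈ H1, α ^ i * h * (α ^ i)⁻¹ ∈ H1 := by
    intro i
    induction i with
    | zero => intro h hh; simpa using hh
    | succ i ih =>
      intro h hh
      rw [pow_succ', show α * α ^ i * h * (α * α ^ i)⁻¹ = α * (α ^ i * h * (α ^ i)⁻¹) * α⁻¹ by group]
      exact hαH1 _ (ih h hh)
  have hβn : ∀ (i : ℕ) (x y : V), β ((α ^ i) x) ((α ^ i) y) = β x y := by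
    intro i
    induction i with
    | zero => intro x y; rfl
    | succ i ih => intro x y; rw [pow_succ', MulAut.mul_apply, MulAut.mul_apply, hαβ, ih]
  have hinv : ∀ {i : ℕ}, i ≤ ℓ → (α ^ i)⁻¹ = α ^ (ℓ - i) := fun hi =>
    (eq_inv_of_mul_eq_one_left (by rw [← pow_add, Nat.sub_add_cancel hi, hαℓ])).symm
  by_cases hKα : ∀ g ∈ K, α * g * α⁻¹ ∈ K
  · -- `K` is invariant
    have hαP : ∀ x ∈ P, α x ∈ P := by
      have hKmap : ∀ g ∈ K, α⁻¹ * g * α ∈ K := by
        intro g hg
        have h : ∀ i : ℕ, α ^ i * g * (α ^ i)⁻¹ ∈ K := by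
          intro i
          induction i with
          | zero => simpa using hg
          | succ i ih =>
            rw [pow_succ', show α * α ^ i * g * (α * α ^ i)⁻¹ = α * (α ^ i * g * (α ^ i)⁻¹) * α⁻¹
              by group]
            exact hKα _ ih
        have := h (ℓ - 1)
        rwa [← hinv hℓ.one_le, pow_one, inv_inv] at this
      intro x hx g hg
      have h := hx _ (hKmap g hg)
      rw [MulAut.mul_apply, MulAut.mul_apply] at h
      have := congrArg α h
      rwa [show α (α⁻¹ (g (α x))) = g (α x) from α.apply_symm_apply _] at this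
    have hαW : ∀ x ∈ W, α x ∈ W := fun x hx => apply_mem_commV hαP hαH1 hx
    have hαWn : ∀ i : ℕ, ∀ x ∈ W, (α ^ i) x ∈ W := by
      intro i
      induction i with
      | zero => exact fun x hx => hx
      | succ i ih => intro x hx; rw [pow_succ', MulAut.mul_apply]; exact hαW _ (ih x hx)
    obtain ⟨u, hu, huK⟩ : ∃ u ∈ H1, u ∉ K := by
      by_contra h
      push Not at h
      exact hKne (fixV_antitone h)
    let uu : Fin ℓ → H1 := fun j => ⟨α ^ (j : ℕ) * u * (α ^ (j : ℕ))⁻¹, hαn _ u hu⟩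
    let N : Subgroup (MulAut V) :=
      { carrier := {g | (∀ k ∈ K, g * k * g⁻¹ ∈ K) ∧ g * u * g⁻¹ * u⁻¹ ∈ K}
        one_mem' := ⟨fun k hk => by simpa using hk, by simpa using one_mem K⟩
        mul_mem' := fun {g g'} hg hg' => ⟨fun k hk => by
          rw [show g * g' * k * (g * g')⁻¹ = g * (g' * k * g'⁻¹) * g⁻¹ by group]
          exact hg.1 _ (hg'.1 k hk), by
          rw [show g * g' * u * (g * g')⁻¹ * u⁻¹ =
            g * (g' * u * g'⁻¹ * u⁻¹) * g⁻¹ * (g * u * g⁻¹ * u⁻¹) by group]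
          exact mul_mem (hg.1 _ hg'.2) hg.2⟩
        inv_mem' := fun {g} hg => by
          have hsurj : ∀ k ∈ K, g⁻¹ * k * g⁻¹⁻¹ ∈ K := by
            intro k hk
            let f : K → K := fun k => ⟨g * k * g⁻¹, hg.1 k k.2⟩
            have hf : Function.Injective f := fun a b h => Subtype.ext (by
              have := congrArg Subtype.val h
              simpa [f] using this)
            obtain ⟨k', hk'⟩ := (Finite.injective_iff_surjective.1 hf) ⟨k, hk⟩
            have e : g * (k' : MulAut V) * g⁻¹ = k := congrArg Subtype.val hk'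
            rw [← e, show g⁻¹ * (g * (k' : MulAut V) * g⁻¹) * g⁻¹⁻¹ = k' by group]
            exact k'.2
          refine ⟨hsurj, ?_⟩
          have := hsurj _ (inv_mem hg.2)
          rwa [show g⁻¹ * (g * u * g⁻¹ * u⁻¹)⁻¹ * g⁻¹⁻¹ = g⁻¹ * u * g⁻¹⁻¹ * u⁻¹ by group] at this }
    have hαN : α ∉ N := by
      intro hα
      have hall : ∀ i : ℕ, u⁻¹ * (α ^ i * u * (α ^ i)⁻¹) ∈ K := fun i => by
        have h : α ^ i * u * (α ^ i)⁻¹ * u⁻¹ ∈ K := (pow_mem hα i).2
        rwa [hcomm1 _ (hαn i u hu) _ (inv_mem hu)] at h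
      have key : ∀ m : ℕ, ∃ z ∈ H1,
          α * z * α⁻¹ = z * (u⁻¹ * (α ^ m * u * (α ^ m)⁻¹)) ∧ (u ^ m)⁻¹ * z ∈ K := by
        intro m
        induction m with
        | zero => exact ⟨1, one_mem _, by simp, by simpa using one_mem K⟩
        | succ m ih =>
          obtain ⟨z, hz, h1, h2⟩ := ih
          refine ⟨z * (α ^ m * u * (α ^ m)⁻¹), mul_mem hz (hαn m u hu), ?_, ?_⟩
          · calc α * (z * (α ^ m * u * (α ^ m)⁻¹)) * α⁻¹
                = α * z * α⁻¹ * (α ^ (m + 1) * u * (α ^ (m + 1))⁻¹) := by rw [pow_succ']; group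
              _ = z * (u⁻¹ * (α ^ m * u * (α ^ m)⁻¹)) * (α ^ (m + 1) * u * (α ^ (m + 1))⁻¹) := by
                rw [h1]
              _ = _ := by
                rw [hcomm1 u⁻¹ (inv_mem hu) _ (hαn m u hu)]
                group
          · have hc := hcomm1 _ (mul_mem (inv_mem (pow_mem hu m)) hz) _ (inv_mem hu)
            rw [show (u ^ (m + 1))⁻¹ * (z * (α ^ m * u * (α ^ m)⁻¹)) =
              u⁻¹ * ((u ^ m)⁻¹ * z) * (α ^ m * u * (α ^ m)⁻¹) by rw [pow_succ]; group, ← hc,
              mul_assoc]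
            exact mul_mem h2 (hall m)
      obtain ⟨z, hz, h1, h2⟩ := key ℓ
      rw [hαℓ, inv_one, mul_one, one_mul, inv_mul_cancel, mul_one] at h1
      rw [hfpf z hz h1, mul_one, inv_mem_iff] at h2
      have hco : ℓ.Coprime (orderOf u) := hℓH.coprime_dvd_right
        (by
          have h := orderOf_dvd_natCard (⟨u, hH1H hu⟩ : H)
          rwa [← Subgroup.orderOf_coe] at h)
      obtain ⟨m, hm⟩ := exists_pow_eq_self_of_coprime hco
      exact huK (hm ▸ pow_mem h2 m)
    have huu : ∀ i j, i ≠ j → ∀ x ∈ W, ((uu i : H1) : MulAut V) x = ((uu j : H1) : MulAut V) x →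
        x = 1 := by
      intro i j hij x hx h
      refine hfree (((uu j : H1) : MulAut V)⁻¹ * uu i) (mul_mem (inv_mem (uu j).2) (uu i).2) ?_ x hx
        (by rw [MulAut.mul_apply, h, ← MulAut.mul_apply, inv_mul_cancel, MulAut.one_apply])
      intro hK
      have hKn : ∀ i : ℕ, ∀ g ∈ K, α ^ i * g * (α ^ i)⁻¹ ∈ K := by
        intro i
        induction i with
        | zero => intro g hg; simpa using hg
        | succ i ih =>
          intro g hg
          rw [pow_succ', show α * α ^ i * g * (α * α ^ i)⁻¹ = α * (α ^ i * g * (α ^ i)⁻¹) * α⁻¹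
            by group]
          exact hKα _ (ih g hg)
      -- move to `u`
      have hd : ∃ d : ℕ, 0 < d ∧ d < ℓ ∧ α ^ d * u * (α ^ d)⁻¹ * u⁻¹ ∈ K := by
        have hK' : ((uu i : H1) : MulAut V) * ((uu j : H1) : MulAut V)⁻¹ ∈ K := by
          rwa [← hcomm1 _ (inv_mem (uu j).2) _ (uu i).2]
        rcases lt_or_gt_of_ne (Fin.val_ne_of_ne hij) with hlt | hlt
        · refine ⟨(j : ℕ) - i, by omega, by omega, ?_⟩
          have := hKn (ℓ - i) _ (inv_mem hK')
          rw [← hinv (le_of_lt i.2)] at this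
          have hp : α ^ ((j : ℕ) - i) = (α ^ (i : ℕ))⁻¹ * α ^ (j : ℕ) :=
            eq_inv_mul_of_mul_eq (by rw [← pow_add, Nat.add_sub_of_le hlt.le])
          rw [hp]
          refine (congrArg (· ∈ K) ?_).mp this
          simp only [uu]
          group
        · refine ⟨(i : ℕ) - j, by omega, by omega, ?_⟩
          have := hKn (ℓ - j) _ hK'
          rw [← hinv (le_of_lt j.2)] at this
          have hp : α ^ ((i : ℕ) - j) = (α ^ (j : ℕ))⁻¹ * α ^ (i : ℕ) :=
            eq_inv_mul_of_mul_eq (by rw [← pow_add, Nat.add_sub_of_le hlt.le])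
          rw [hp]
          refine (congrArg (· ∈ K) ?_).mp this
          simp only [uu]
          group
      obtain ⟨d, hd0, hdℓ, hdK⟩ := hd
      have hdN : α ^ d ∈ N := ⟨hKn d, hdK⟩
      have hco : d.Coprime (orderOf α) := Nat.Coprime.coprime_dvd_right
        (orderOf_dvd_of_pow_eq_one hαℓ)
        ((hℓ.coprime_iff_not_dvd.2 fun h => absurd (Nat.le_of_dvd hd0 h) (not_le.2 hdℓ)).symm)
      obtain ⟨m, hm⟩ := exists_pow_eq_self_of_coprime hco
      exact hαN (hm ▸ pow_mem hdN m)
    set W0 := W ⊓ fixV (zpowers α) with hW0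
    have hzf : Finite (zpowers α) :=
      finite_zpowers.2 (isOfFinOrder_iff_pow_eq_one.2 ⟨ℓ, hℓ.pos, hαℓ⟩)
    have hzi : ∀ g ∈ zpowers α, ∀ x ∈ W, g x ∈ W := by
      intro g hg x hx
      have ho : IsOfFinOrder α := isOfFinOrder_iff_pow_eq_one.2 ⟨ℓ, hℓ.pos, hαℓ⟩
      obtain ⟨i, rfl⟩ := (ho.mem_powers_iff_mem_zpowers.2 hg)
      exact hαWn i x hx
    have hW0nd : NondegOn β W0 := nondeg_fix hl halt
      (by
        rw [Nat.card_zpowers]
        exact hℓV.coprime_dvd_left (orderOf_dvd_of_pow_eq_one hαℓ))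
      (fun g hg x y => by
        have ho : IsOfFinOrder α := isOfFinOrder_iff_pow_eq_one.2 ⟨ℓ, hℓ.pos, hαℓ⟩
        obtain ⟨i, rfl⟩ := (ho.mem_powers_iff_mem_zpowers.2 hg)
        exact hβn i x y) hzi hWnd
    have hW0ne : W0 ≠ ⊥ := by
      intro h0
      apply hWne
      rw [Subgroup.eq_bot_iff_forall]
      intro x hx
      refine eq_one_of_vandermonde hH1c hWi uu huu (fun j => (α ^ (j : ℕ)) x)
        (fun j => hαWn _ x hx) (Or.inr fun i => ?_) ⟨0, hℓ.pos⟩
      have hw : ((⟨u, hu⟩ ^ (i : ℕ) : H1) : MulAut V) x ∈ W :=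
        hWi _ ((⟨u, hu⟩ : H1) ^ (i : ℕ)).2 x hx
      have hfix : (∏ j : Fin ℓ, (α ^ (j : ℕ)) (((⟨u, hu⟩ ^ (i : ℕ) : H1) : MulAut V) x)) ∈ W0 := by
        refine ⟨W.prod_mem fun j _ => hαWn _ _ hw, fun g hg => ?_⟩
        have : zpowers α ≤ MulAction.stabilizer (MulAut V)
            (∏ j : Fin ℓ, (α ^ (j : ℕ)) (((⟨u, hu⟩ ^ (i : ℕ) : H1) : MulAut V) x)) := by
          refine zpowers_le.2 ?_
          show α _ = _
          rw [map_prod]
          simp only [← MulAut.mul_apply, ← mul_assoc, ← pow_succ']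
          rw [Fin.prod_univ_eq_prod_range (fun j => (α ^ (j + 1) *
            ((⟨u, hu⟩ ^ (i : ℕ) : H1) : MulAut V)) x) ℓ, Fin.prod_univ_eq_prod_range (fun j =>
            (α ^ j * ((⟨u, hu⟩ ^ (i : ℕ) : H1) : MulAut V)) x) ℓ]
          obtain ⟨n, hn⟩ : ∃ n, ℓ = n + 1 := ⟨ℓ - 1, by have := hℓ.pos; omega⟩
          have hgen : ∀ g : MulAut V, ∏ j ∈ Finset.range (n + 1), (α ^ (j + 1) * g) x =
              ∏ j ∈ Finset.range (n + 1), (α ^ j * g) x := fun g => by
            rw [Finset.prod_range_succ, Finset.prod_range_succ' (fun j => (α ^ j * g) x),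
              ← hn, hαℓ, pow_zero]
          rw [show Finset.range ℓ = Finset.range (n + 1) by rw [hn]]
          exact hgen _
        exact this hg
      rw [h0, mem_bot] at hfix
      rw [← hfix]
      refine Finset.prod_congr rfl fun j _ => ?_
      simp only [uu, SubgroupClass.coe_pow, ← MulAut.mul_apply, conj_pow]
      congr 1
      group
    have hW04 := four_le_card hl halt hW0nd hW0ne
    refine hbig W0 hW04
      (fun c => ∏ i : Fin (ℓ - 1), ((⟨u, hu⟩ ^ ((i : ℕ) + 1) : H1) : MulAut V) (c i)) ?_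
    intro c c' h
    change D _ = D _ at h
    set z := (∏ i : Fin (ℓ - 1), ((⟨u, hu⟩ ^ ((i : ℕ) + 1) : H1) : MulAut V) (c i)) /
      ∏ i : Fin (ℓ - 1), ((⟨u, hu⟩ ^ ((i : ℕ) + 1) : H1) : MulAut V) (c' i) with hz
    have hz0 : z ∈ W0 := by
      refine ⟨W.div_mem (W.prod_mem fun i _ => hWi _ ((⟨u, hu⟩ : H1) ^ _).2 _ (c i).2.1)
        (W.prod_mem fun i _ => hWi _ ((⟨u, hu⟩ : H1) ^ _).2 _ (c' i).2.1), ?_⟩
      refine hDker.le ?_
      rw [MonoidHom.mem_ker, hz, map_div, h, div_self']
    obtain ⟨n, rfl⟩ : ∃ n, ℓ = n + 1 := ⟨ℓ - 1, by have := hℓ.pos; omega⟩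
    let e : Fin (n + 1) → V := Fin.cons z⁻¹ fun i : Fin n => ((c i : V) / (c' i : V))
    have he : ∀ i, e i ∈ W ∧ α (e i) = e i := by
      intro i
      refine Fin.cases ?_ (fun i => ?_) i
      · simp only [e, Fin.cons_zero]
        exact ⟨W.inv_mem hz0.1, by rw [map_inv, hz0.2 α (mem_zpowers α)]⟩
      · simp only [e, Fin.cons_succ]
        exact ⟨W.div_mem (c i).2.1 (c' i).2.1, by
          rw [map_div, (c i).2.2 α (mem_zpowers α), (c' i).2.2 α (mem_zpowers α)]⟩
    have hrel : ∏ i : Fin (n + 1), ((⟨u, hu⟩ ^ (i : ℕ) : H1) : MulAut V) (e i) = 1 := by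
      rw [Fin.prod_univ_succ]
      simp only [e, Fin.cons_zero, Fin.cons_succ, Fin.val_zero, pow_zero, Fin.val_succ, map_div,
        Finset.prod_div_distrib]
      show z⁻¹ * _ = 1
      rw [inv_mul_eq_one, hz]
      rfl
    have hall := eq_one_of_vandermonde hH1c hWi uu huu e (fun i => (he i).1) (Or.inl fun j => by
      have h1 := congrArg (α ^ (j : ℕ)) hrel
      rw [map_prod, map_one] at h1
      rw [← h1]
      refine Finset.prod_congr rfl fun i _ => ?_
      simp only [uu, SubgroupClass.coe_pow, conj_pow, MulAut.mul_apply]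
      congr 2
      have hfixi : (α ^ (j : ℕ)) (e i) = e i :=
        (pow_mem (show α ∈ MulAction.stabilizer (MulAut V) (e i) from (he i).2) (j : ℕ) : _)
      conv_lhs => rw [← hfixi]
      rw [← MulAut.mul_apply, inv_mul_cancel, MulAut.one_apply])
    funext i
    have := hall i.succ
    simp only [e, Fin.cons_succ, div_eq_one] at this
    exact Subtype.ext this
  · -- the translates of `K` are distinct
    let Ki : ℕ → Subgroup (MulAut V) := fun i => K.map (MulAut.conj (α ^ i)).toMonoidHom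
    have hKi : ∀ i, Ki i ≤ H1 := by
      rintro i _ ⟨g, hg, rfl⟩; exact hαn i g (hKH1 hg)
    have hdist : ∀ i j, i < ℓ → j < ℓ → i ≠ j → ∃ g ∈ Ki i, g ∉ Ki j := by
      intro i j hi hj hij
      by_contra hcon
      push Not at hcon
      apply hKα
      let Nm : Subgroup (MulAut V) :=
        { carrier := {g | K.map (MulAut.conj g).toMonoidHom = K}
          one_mem' := by
            show K.map (MulAut.conj (1 : MulAut V)).toMonoidHom = K
            ext x; simp
          mul_mem' := fun {a b} ha hb => by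
            show K.map _ = K
            rw [map_mul, show (MulAut.conj a * MulAut.conj b).toMonoidHom =
              (MulAut.conj a).toMonoidHom.comp (MulAut.conj b).toMonoidHom from rfl,
              ← Subgroup.map_map, hb, ha]
          inv_mem' := fun {a} ha => by
            show K.map _ = K
            conv_lhs => rw [← ha, Subgroup.map_map]
            ext x
            simp [mul_assoc] }
      have hfKi : ∀ m, Finite (Ki m) := fun m => Finite.Set.subset (H1 : Set (MulAut V)) (hKi m)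
      have hcard : ∀ m, Nat.card (Ki m) = Nat.card K := fun m =>
        (Nat.card_congr (K.equivMapOfInjective _ (MulAut.conj (α ^ m)).injective).toEquiv).symm
      have := hfKi j
      have heq : Ki i = Ki j :=
        Subgroup.eq_of_le_of_card_ge hcon (by rw [hcard, hcard])
      have hN : (α ^ j)⁻¹ * α ^ i ∈ Nm := by
        show K.map _ = K
        have h := congrArg (Subgroup.map (MulAut.conj (α ^ j)⁻¹).toMonoidHom) heq
        simp only [Ki, Subgroup.map_map] at h
        rw [map_mul, show (MulAut.conj (α ^ j)⁻¹ * MulAut.conj (α ^ i)).toMonoidHom =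
          (MulAut.conj (α ^ j)⁻¹).toMonoidHom.comp (MulAut.conj (α ^ i)).toMonoidHom from rfl, h]
        ext x
        simp
      rw [hinv hj.le, ← pow_add] at hN
      set d := (ℓ - j + i) % ℓ with hd
      have hdN : α ^ d ∈ Nm := by rwa [hd, ← pow_eq_pow_mod _ hαℓ]
      have hd0 : d ≠ 0 := by
        intro h0
        obtain ⟨c, hc⟩ := Nat.dvd_of_mod_eq_zero h0
        rcases c with _ | _ | c
        · omega
        · omega
        · have := Nat.le_mul_of_pos_right ℓ (show 0 < c + 1 by omega)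
          have : ℓ * (c + 1 + 1) = ℓ * (c + 1) + ℓ := by ring
          omega
      have hdℓ : d < ℓ := Nat.mod_lt _ hℓ.pos
      have hco : d.Coprime (orderOf α) := Nat.Coprime.coprime_dvd_right
        (orderOf_dvd_of_pow_eq_one hαℓ)
        ((hℓ.coprime_iff_not_dvd.2 fun h =>
          absurd (Nat.le_of_dvd (Nat.pos_of_ne_zero hd0) h) (not_le.2 hdℓ)).symm)
      obtain ⟨m, hm⟩ := exists_pow_eq_self_of_coprime hco
      have hαNm : α ∈ Nm := hm ▸ pow_mem hdN m
      exact fun g hg => (show K.map _ = K from hαNm).le ⟨g, hg, rfl⟩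
    have horth : ∀ i j, i < ℓ → j < ℓ → i ≠ j → ∀ x ∈ W, ∀ y ∈ W,
        β ((α ^ i) x) ((α ^ j) y) = 1 := by
      intro i j hi hj hij x hx y hy
      obtain ⟨g, hgi, hgj⟩ := hdist i j hi hj hij
      obtain ⟨g0, hg0, rfl⟩ := hgi
      set g' := (α ^ j)⁻¹ * (α ^ i * g0 * (α ^ i)⁻¹) * α ^ j with hg'
      have hg'H : g' ∈ H1 := by
        have := hαn (ℓ - j) _ (hαn i g0 (hKH1 hg0))
        rwa [← hinv hj.le, inv_inv, ← hg'] at this
      have hg'K : g' ∉ K := fun h => hgj ⟨g', h, by
        show α ^ j * g' * (α ^ j)⁻¹ = α ^ i * g0 * (α ^ i)⁻¹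
        rw [hg']; group⟩
      have : Finite (zpowers g') := Finite.Set.subset (H1 : Set (MulAut V)) (zpowers_le.2 hg'H)
      have hzi : ∀ h ∈ zpowers g', ∀ w ∈ W, h w ∈ W := fun h hh => hWi h (zpowers_le.2 hg'H hh)
      obtain ⟨c, hc, d, hd, hyd⟩ := mem_sup.1
        (le_fix_sup_comm (hcop1 (zpowers_le.2 hg'H)) hzi hy)
      have hc1 : c = 1 := hfree g' hg'H hg'K c hc.1 (hc.2 g' (mem_zpowers g'))
      rw [hc1, one_mul] at hyd
      have hji : ∀ v, (α ^ j) ((α ^ j)⁻¹ v) = v := fun v => (α ^ j).apply_symm_apply v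
      rw [← hji ((α ^ i) x), hβn, ← hyd]
      refine pair_fix_comm (K := zpowers g') (hβ1 (zpowers_le.2 hg'H)) ?_ hd
      intro h hh
      refine (zpowers_le.2 (show g' ∈ MulAction.stabilizer (MulAut V) _ from ?_)) hh
      show g' ((α ^ j)⁻¹ ((α ^ i) x)) = (α ^ j)⁻¹ ((α ^ i) x)
      rw [hg', MulAut.mul_apply, MulAut.mul_apply, hji, MulAut.mul_apply, MulAut.mul_apply,
        show (α ^ i)⁻¹ ((α ^ i) x) = x from (α ^ i).symm_apply_apply x, hWP hx g0 hg0]
    refine hbig W hW4 (fun c => ∏ i : Fin (ℓ - 1), (α ^ (i : ℕ)) (c i : V)) ?_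
    intro c c' h
    change D _ = D _ at h
    obtain ⟨n, rfl⟩ : ∃ n, ℓ = n + 1 := ⟨ℓ - 1, by have := hℓ.pos; omega⟩
    let w : Fin n → V := fun i => (c i : V) / (c' i : V)
    have hwW : ∀ i, w i ∈ W := fun i => W.div_mem (c i).2 (c' i).2
    have hfix : α (∏ i : Fin n, (α ^ (i : ℕ)) (w i)) = ∏ i : Fin n, (α ^ (i : ℕ)) (w i) := by
      rw [← div_eq_one]
      show D _ = 1
      simp only [w, map_div, Finset.prod_div_distrib]
      exact (div_eq_one.2 h)
    have hbr : ∀ (y : V), β (∏ i : Fin n, (α ^ (i : ℕ)) (w i)) y =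
        ∏ i : Fin n, β ((α ^ (i : ℕ)) (w i)) y := fun y =>
      map_prod ({ toFun := fun x => β x y, map_one' := pair_one_left hl y,
                  map_mul' := fun a b => hl a b y } : V →* k) _ _
    have key : ∀ m : ℕ, ∀ (hm : m < n), w ⟨m, hm⟩ = 1 := by
      intro m
      induction m using Nat.strong_induction_on with
      | _ m ih =>
        intro hm
        refine hWnd _ (hwW _) fun y hy => ?_
        have h1 := hbr ((α ^ m) y)
        rw [Finset.prod_eq_single (⟨m, hm⟩ : Fin n) (fun i _ hi => horth i m (by omega) (by omega)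
          (fun e => hi (Fin.ext e)) _ (hwW i) _ hy) (fun h => absurd (Finset.mem_univ _) h),
          hβn] at h1
        rw [← h1, ← hfix, map_prod]
        let f : V →* k :=
          { toFun := fun x => β x ((α ^ m) y)
            map_one' := pair_one_left hl _
            map_mul' := fun a b => hl a b _ }
        refine (map_prod f _ _).trans ?_
        refine Finset.prod_eq_one fun i _ => ?_
        show β (α ((α ^ (i : ℕ)) (w i))) _ = 1
        rw [← MulAut.mul_apply, ← pow_succ']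
        by_cases he : (i : ℕ) + 1 = m
        · have hwi : w i = 1 := ih i (by omega) i.2
          rw [hwi, map_one, pair_one_left hl]
        · exact horth _ m (by omega) (by omega) he _ (hwW i) _ hy
    funext i
    exact Subtype.ext (div_eq_one.1 (key i i.2))

end Cfsg.Agent.FittingHeight
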