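import Cfsg.Agent.Lib.FittingHeight.TwistedBound
import Cfsg.Agent.Lib.FittingHeight.SympBound
import Mathlib.GroupTheory.PGroup

/-!
# An operator of prime period on a group that is abelian up to scalars

`π : Q → End W` with commutator pairing `P`, the radical acting by scalars; `A` with
`1 + A + ⋯ + A^(ℓ-1) = 0` induces `α`. An abelian group of automorphisms preserving `P`, normalised
by `α`, commutes with `α` modulo the radical; and if `α` is fixed-point-free modulo the radical, its
index is `m²` with `m ≤ ℓ - 1`, `ℓ ∣ m² - 1`.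
-/

namespace Cfsg.Agent.FittingHeight

open Subgroup Module

variable {k : Type*} [Field k] {W : Type*} [AddCommGroup W] [Module k W] [Nontrivial W]
  {Q : Type*} [Group Q] {π : Q →* End k W} {P : Q → Q → k}
  (hP : ∀ x y, π x * π y = P x y • (π y * π x))

include hP

theorem pairing_unique {x y : Q} {c : k} (h : π x * π y = c • (π y * π x)) : P x y = c := by
  have hne : π y * π x ≠ 0 := by rw [← map_mul]; exact apply_ne_zero _
  exact smul_left_injective k hne ((hP x y).symm.trans h)

theorem pairing_mul_left (x x' y : Q) : P (x * x') y = P x y * P x' y := by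
  refine pairing_unique hP ?_
  rw [map_mul, mul_assoc, hP x' y, mul_smul_comm, ← mul_assoc, hP x y, smul_mul_assoc, smul_smul,
    mul_assoc, mul_comm (P x' y)]

theorem pairing_self (x : Q) : P x x = 1 := pairing_unique hP (by rw [one_smul])

theorem pairing_mul_right (x y y' : Q) : P x (y * y') = P x y * P x y' := by
  refine pairing_unique hP ?_
  rw [map_mul, ← mul_assoc, hP x y, smul_mul_assoc, mul_assoc, hP x y', mul_smul_comm, smul_smul,
    ← mul_assoc]

theorem pairing_one_left (y : Q) : P 1 y = 1 :=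
  pairing_unique hP (by rw [map_one, one_mul, mul_one, one_smul])

theorem pairing_one_right (x : Q) : P x 1 = 1 :=
  pairing_unique hP (by rw [map_one, one_mul, mul_one, one_smul])

variable (hrad : ∀ x, (∀ y, P x y = 1) → x ∈ scalarSub π)

include hrad

theorem mem_scalarSub_iff_pairing {x : Q} : x ∈ scalarSub π ↔ ∀ y, P x y = 1 := by
  refine ⟨fun ⟨c, hc⟩ y => pairing_unique hP ?_, hrad x⟩
  rw [hc, smul_mul_assoc, one_mul, mul_smul_comm, mul_one, one_smul]

theorem pairing_congr_left {x x' : Q} (e : (x : Q ⧸ scalarSub π) = x') (y : Q) : P x y = P x' y := by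
  have h := (mem_scalarSub_iff_pairing hP hrad).1 (QuotientGroup.eq.1 e)
  conv_rhs => rw [show x' = x * (x⁻¹ * x') by group, pairing_mul_left hP, h y, mul_one]

theorem pairing_congr_right {y y' : Q} (e : (y : Q ⧸ scalarSub π) = y') (x : Q) :
    P x y = P x y' := by
  obtain ⟨c, hc⟩ := QuotientGroup.eq.1 e
  have h : P x (y⁻¹ * y') = 1 := pairing_unique hP (by
    rw [hc, smul_mul_assoc, one_mul, mul_smul_comm, mul_one, one_smul])
  conv_rhs => rw [show y' = y * (y⁻¹ * y') by group, pairing_mul_right hP, h, mul_one]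

omit hrad in
theorem mem_of_commute (hrad : ∀ x, (∀ y, P x y = 1) → x ∈ scalarSub π) (x : Q)
    (hx : ∀ y, π x * π y = π y * π x) : x ∈ scalarSub π :=
  hrad x fun y => pairing_unique hP (by rw [one_smul]; exact hx y)

omit hrad in
/-- An automorphism preserving the pairing preserves the radical. -/
theorem apply_mem_scalarSub (hrad : ∀ x, (∀ y, P x y = 1) → x ∈ scalarSub π) {g : MulAut Q}
    (hg : ∀ x y, P (g x) (g y) = P x y) {x : Q} (hx : x ∈ scalarSub π) : g x ∈ scalarSub π := by
  refine hrad _ fun y => ?_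
  rw [← g.apply_symm_apply y, hg]
  exact (mem_scalarSub_iff_pairing hP hrad).1 hx _

omit hrad in
theorem map_scalarSub (hrad : ∀ x, (∀ y, P x y = 1) → x ∈ scalarSub π) {g : MulAut Q}
    (hg : ∀ x y, P (g x) (g y) = P x y) :
    (scalarSub π).map (g : Q →* Q) = scalarSub π := by
  refine le_antisymm ?_ fun x hx => ⟨g.symm x, ?_, g.apply_symm_apply x⟩
  · rintro _ ⟨x, hx, rfl⟩; exact apply_mem_scalarSub hP hrad hg hx
  · refine apply_mem_scalarSub hP hrad (g := g.symm) (fun x y => ?_) hx
    conv_rhs => rw [← g.apply_symm_apply x, ← g.apply_symm_apply y, hg]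

omit hrad in
/-- The automorphism induced on the quotient by the radical. -/
noncomputable def radQuot (hrad : ∀ x, (∀ y, P x y = 1) → x ∈ scalarSub π) (g : MulAut Q)
    (hg : ∀ x y, P (g x) (g y) = P x y) : MulAut (Q ⧸ scalarSub π) :=
  QuotientGroup.congr _ _ g (map_scalarSub hP hrad hg)

omit hrad in
theorem radQuot_mk (hrad : ∀ x, (∀ y, P x y = 1) → x ∈ scalarSub π) (g : MulAut Q)
    (hg : ∀ x y, P (g x) (g y) = P x y) (x : Q) :
    radQuot hP hrad g hg (x : Q ⧸ scalarSub π) = ((g x : Q) : Q ⧸ scalarSub π) := rfl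

omit hrad in
/-- The induced action of a group. -/
noncomputable def radHom (hrad : ∀ x, (∀ y, P x y = 1) → x ∈ scalarSub π) {S : Type*} [Group S]
    (γ : S →* MulAut Q) (hγ : ∀ g x y, P (γ g x) (γ g y) = P x y) :
    S →* MulAut (Q ⧸ scalarSub π) where
  toFun g := radQuot hP hrad (γ g) (hγ g)
  map_one' := MulEquiv.ext fun q => by
    induction q using QuotientGroup.induction_on with | _ x => ?_
    rw [radQuot_mk, map_one, MulAut.one_apply, MulAut.one_apply]
  map_mul' g g' := MulEquiv.ext fun q => by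
    induction q using QuotientGroup.induction_on with | _ x => ?_
    rw [MulAut.mul_apply, radQuot_mk, radQuot_mk, radQuot_mk, map_mul, MulAut.mul_apply]

omit hrad in
/-- The pairing on the quotient. -/
noncomputable def radPair (hrad : ∀ x, (∀ y, P x y = 1) → x ∈ scalarSub π)
    (q : Q ⧸ scalarSub π) : Q ⧸ scalarSub π →* k where
  toFun q' := P q.out q'.out
  map_one' := by
    refine (pairing_congr_right hP hrad (y' := 1) (QuotientGroup.out_eq' _) q.out).trans ?_
    exact pairing_one_right hP _
  map_mul' q₁ q₂ := by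
    rw [pairing_congr_right hP hrad (y' := q₁.out * q₂.out)
      (by rw [QuotientGroup.mk_mul, QuotientGroup.out_eq', QuotientGroup.out_eq',
        QuotientGroup.out_eq']) q.out, pairing_mul_right hP]

omit hrad in
theorem radPair_mk (hrad : ∀ x, (∀ y, P x y = 1) → x ∈ scalarSub π) (x y : Q) :
    radPair hP hrad (x : Q ⧸ scalarSub π) (y : Q ⧸ scalarSub π) = P x y := by
  show P _ _ = _
  rw [pairing_congr_left hP hrad (QuotientGroup.out_eq' (x : Q ⧸ scalarSub π)),
    pairing_congr_right hP hrad (QuotientGroup.out_eq' (y : Q ⧸ scalarSub π))]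

omit hrad in
theorem pairing_apply {A Ai : End k W} (hAi : Ai * A = 1) {α : MulAut Q}
    (hα : ∀ x, A * π x = π (α x) * A) (x y : Q) : P (α x) (α y) = P x y := by
  refine (pairing_unique hP (x := x) (y := y) ?_).symm
  have h1 : A * (π x * π y) = P (α x) (α y) • (A * (π y * π x)) := by
    rw [← mul_assoc, hα, mul_assoc, hα, ← mul_assoc, hP, smul_mul_assoc, mul_assoc, ← hα,
      ← mul_assoc, ← hα, mul_assoc]
  have h2 := congrArg (Ai * ·) h1
  simpa only [← mul_assoc, hAi, one_mul, mul_smul_comm] using h2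

omit hrad in
/-- The result. -/
theorem pairing_bound [IsAlgClosed k] [FiniteDimensional k W] [Finite Q]
    (hrad : ∀ x, (∀ y, P x y = 1) → x ∈ scalarSub π) {S : Type*} [Group S] [Finite S]
    (γ : S →* MulAut Q) (hγ : ∀ g x y, P (γ g x) (γ g y) = P x y)
    (hγc : ∀ g g' x, (γ g (γ g' x) : Q ⧸ scalarSub π) = γ g' (γ g x))
    {ℓ : ℕ} (hℓ : ℓ.Prime) (hℓk : (ℓ : k) ≠ 0) (A : End k W)
    (hA : ∑ i ∈ Finset.range ℓ, A ^ i = 0) (α : MulAut Q) (hαℓ : α ^ ℓ = 1)
    (hα : ∀ x, A * π x = π (α x) * A) (τ : S → S) (hτ : ∀ g x, α (γ g x) = γ (τ g) (α x))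
    (hcop : (Nat.card S).Coprime (Nat.card Q)) (hℓQ : ℓ.Coprime (Nat.card Q))
    (hℓS : ℓ.Coprime (Nat.card S)) :
    (∀ g x y, P (γ (τ g) x) y = P (γ g x) y) ∧
    ((∃ x y, P x y ≠ 1) → (∀ x, (∀ y, P (x⁻¹ * α x) y = 1) → ∀ y, P x y = 1) →
      ∃ m, m ≠ 1 ∧ m ≤ ℓ - 1 ∧ m * m ≡ 1 [MOD ℓ] ∧ m * m ∣ Nat.card Q) := by
  obtain ⟨n, hn⟩ : ∃ n, ℓ = n + 1 := ⟨ℓ - 1, by have := hℓ.pos; omega⟩
  have hAℓ : A ^ ℓ = 1 := by
    have h := geom_sum_mul A ℓ
    rw [hA, zero_mul] at h
    exact sub_eq_zero.1 h.symm
  have hAA' : A ^ n * A = 1 := by rw [← pow_succ, ← hn, hAℓ]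
  have hαP := pairing_apply hP hAA' hα
  set αb := radQuot hP hrad α hαP with hαb
  obtain ⟨hsq, hbound⟩ := twisted_bound (fun x y => ⟨_, hP x y⟩) (mem_of_commute hP hrad) hℓ hℓk A
    hA α hα αb (fun x => radQuot_mk hP hrad α hαP x)
  let _ : CommGroup (Q ⧸ scalarSub π) :=
    { (inferInstance : Group (Q ⧸ scalarSub π)) with
      mul_comm := fun a b => by
        induction a using QuotientGroup.induction_on with | _ a => ?_
        induction b using QuotientGroup.induction_on with | _ b => ?_
        rw [← QuotientGroup.mk_mul, ← QuotientGroup.mk_mul, QuotientGroup.eq]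
        refine hrad _ fun y => ?_
        have hinv : ∀ z, P z⁻¹ y * P z y = 1 := fun z => by
          rw [← pairing_mul_left hP, inv_mul_cancel, pairing_one_left hP]
        rw [mul_inv_rev, pairing_mul_left hP, pairing_mul_left hP, pairing_mul_left hP]
        calc P b⁻¹ y * P a⁻¹ y * (P b y * P a y) = (P b⁻¹ y * P b y) * (P a⁻¹ y * P a y) := by ring
          _ = 1 := by rw [hinv, hinv, one_mul] }
  have hαbℓ : αb ^ ℓ = 1 := by
    have hit : ∀ i : ℕ, ∀ x : Q,
        (αb ^ i) (x : Q ⧸ scalarSub π) = (((α ^ i) x : Q) : Q ⧸ scalarSub π) := by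
      intro i
      induction i with
      | zero => intro x; rfl
      | succ i ih =>
        intro x
        rw [pow_succ', pow_succ', MulAut.mul_apply, MulAut.mul_apply, ih, hαb, radQuot_mk]
    refine MulEquiv.ext fun q => ?_
    induction q using QuotientGroup.induction_on with | _ x => ?_
    rw [hit, hαℓ]
    rfl
  have hVQ : Nat.card (Q ⧸ scalarSub π) ∣ Nat.card Q := card_quotient_dvd_card _
  have hfixiff : ∀ q, αb q = q ↔ ∀ g ∈ zpowers αb, g q = q := fun q => by
    refine ⟨fun hq g hg => ?_, fun hq => hq αb (mem_zpowers αb)⟩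
    have hle : zpowers αb ≤ MulAction.stabilizer (MulAut (Q ⧸ scalarSub π)) q := zpowers_le.2 hq
    exact hle hg
  have hfixcard : Nat.card {q // αb q = q} = Nat.card (fixV (zpowers αb)) :=
    Nat.card_congr (Equiv.subtypeEquivRight hfixiff)
  refine ⟨fun g x y => ?_, fun hne hfree => ?_⟩
  · set ψ := radHom hP hrad γ hγ
    have hψα : ∀ g, αb * ψ g * αb⁻¹ = ψ (τ g) := fun g => by
      rw [mul_inv_eq_iff_eq_mul]
      refine MulEquiv.ext fun q => ?_
      induction q using QuotientGroup.induction_on with | _ x => ?_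
      show αb (radQuot hP hrad (γ g) (hγ g) (x : Q ⧸ scalarSub π)) =
        radQuot hP hrad (γ (τ g)) (hγ (τ g)) (αb (x : Q ⧸ scalarSub π))
      rw [radQuot_mk, hαb, radQuot_mk, radQuot_mk, radQuot_mk, hτ]
    have hcomm : IsMulCommutative ψ.range := by
      refine ⟨⟨?_⟩⟩
      rintro ⟨_, g, rfl⟩ ⟨_, g', rfl⟩
      refine Subtype.ext (MulEquiv.ext fun q => ?_)
      induction q using QuotientGroup.induction_on with | _ x => ?_
      show radQuot hP hrad (γ g) (hγ g) (radQuot hP hrad (γ g') (hγ g') (x : Q ⧸ scalarSub π)) =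
        radQuot hP hrad (γ g') (hγ g') (radQuot hP hrad (γ g) (hγ g) (x : Q ⧸ scalarSub π))
      rw [radQuot_mk, radQuot_mk, radQuot_mk, radQuot_mk]
      exact hγc g g' x
    have hkey := commute_of_small_commutator (β := radPair hP hrad) (α := αb)
      (fun a b c => by
        induction a using QuotientGroup.induction_on with | _ a => ?_
        induction b using QuotientGroup.induction_on with | _ b => ?_
        induction c using QuotientGroup.induction_on with | _ c => ?_
        rw [← QuotientGroup.mk_mul, radPair_mk, radPair_mk, radPair_mk]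
        exact pairing_mul_left hP a b c)
      (fun a => by
        induction a using QuotientGroup.induction_on with | _ a => ?_
        rw [radPair_mk]; exact pairing_self hP a)
      (fun a ha => by
        induction a using QuotientGroup.induction_on with | _ a => ?_
        rw [QuotientGroup.eq_one_iff]
        refine hrad a fun y => ?_
        have := ha (y : Q ⧸ scalarSub π)
        rwa [radPair_mk] at this)
      (H := ψ.range) hcomm
      (by
        rintro _ ⟨g, rfl⟩ a b
        induction a using QuotientGroup.induction_on with | _ a => ?_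
        induction b using QuotientGroup.induction_on with | _ b => ?_
        show radPair hP hrad (radQuot hP hrad (γ g) (hγ g) (a : Q ⧸ scalarSub π))
          (radQuot hP hrad (γ g) (hγ g) (b : Q ⧸ scalarSub π)) = _
        rw [radQuot_mk, radQuot_mk, radPair_mk, radPair_mk]
        exact hγ g a b)
      (fun a b => by
        induction a using QuotientGroup.induction_on with | _ a => ?_
        induction b using QuotientGroup.induction_on with | _ b => ?_
        rw [hαb, radQuot_mk, radQuot_mk, radPair_mk, radPair_mk]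
        exact hαP a b)
      (by rintro _ ⟨g, rfl⟩; exact ⟨_, (hψα g).symm⟩)
      hℓ hαbℓ
      ((hcop.coprime_dvd_left (card_range_dvd ψ)).coprime_dvd_right hVQ)
      (hℓQ.coprime_dvd_right hVQ)
      (hℓS.coprime_dvd_right (card_range_dvd ψ))
      (by
        rw [← hfixcard]
        exact (Subgroup.index_eq_card (scalarSub π) ▸ hbound :))
      (ψ g) ⟨_, rfl⟩
    rw [hψα] at hkey
    exact pairing_congr_left hP hrad (DFunLike.congr_fun hkey (x : Q ⧸ scalarSub π)) y
  · obtain ⟨m, hm⟩ := hsq
    have hfix1 : ∀ q, αb q = q → q = 1 := by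
      intro q hq
      induction q using QuotientGroup.induction_on with | _ x => ?_
      rw [hαb, radQuot_mk, QuotientGroup.eq] at hq
      rw [QuotientGroup.eq_one_iff]
      refine hrad x (hfree x ((mem_scalarSub_iff_pairing hP hrad).1 ?_))
      have h2 := inv_mem hq
      rwa [mul_inv_rev, inv_inv] at h2
    have hF : Nat.card {q // αb q = q} = 1 := by
      have : Subsingleton {q // αb q = q} :=
        ⟨fun a b => Subtype.ext ((hfix1 _ a.2).trans (hfix1 _ b.2).symm)⟩
      have : Nonempty {q // αb q = q} := ⟨⟨1, map_one αb⟩⟩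
      exact Nat.card_unique
    rw [hF, mul_one] at hbound
    have hmc : m * m = Nat.card (Q ⧸ scalarSub π) := hm.symm.trans (Subgroup.index_eq_card _)
    refine ⟨m, ?_, ?_, ?_, hmc ▸ hVQ⟩
    · rintro rfl
      obtain ⟨x, y, hxy⟩ := hne
      apply hxy
      have htop : scalarSub π = ⊤ := index_eq_one.1 (by rw [hm])
      exact (mem_scalarSub_iff_pairing hP hrad).1 (by rw [htop]; exact mem_top x) y
    · rw [hm, ← sq] at hbound
      exact (pow_le_pow_iff_left₀ (Nat.zero_le _) (Nat.zero_le _) two_ne_zero).1 hbound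
    · rw [hmc]
      have := Fact.mk hℓ
      have hpg : IsPGroup ℓ (zpowers αb) := by
        intro g
        refine ⟨1, Subtype.ext ?_⟩
        obtain ⟨i, hi⟩ := g.2
        rw [pow_one, SubgroupClass.coe_pow, ← hi, ← zpow_natCast, ← zpow_mul, mul_comm, zpow_mul,
          zpow_natCast, hαbℓ, one_zpow]
        rfl
      have h1 := hpg.card_modEq_card_fixedPoints (Q ⧸ scalarSub π)
      have h2 : Nat.card (MulAction.fixedPoints (zpowers αb) (Q ⧸ scalarSub π)) = 1 := by
        rw [← hF]
        exact Nat.card_congr (Equiv.subtypeEquivRight fun q =>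
          ⟨fun hq => hq ⟨αb, mem_zpowers αb⟩, fun hq g => (hfixiff q).1 hq g g.2⟩)
      rwa [h2] at h1

end Cfsg.Agent.FittingHeight
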