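import Cfsg.Agent.Lib.FittingHeight.PQTools
import Cfsg.Agent.Lib.FittingHeight.PairingBound

/-!
# The nonabelian stage

`Q` has centralised central commutator subgroup `Z`, a weight `χ` of `Z` is stabilised by `h` of
prime order with `1 + h + ⋯ + h^(ℓ-1) = 0` on the weight space. Then `g` and `φ h g` (`g ∈ S`)
act in the same way modulo the radical of `(x, y) ↦ χ [x, y]`; and if `h` has no fixed point modulo
the radical, its index is a square `m²` with `m ≤ ℓ - 1` and `ℓ ∣ m² - 1`.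
-/

namespace Cfsg.Agent.FittingHeight

open Subgroup SemidirectProduct Module
open scoped commutatorElement IsMulCommutative

variable {M : Type*} [Group M] [Finite M] {A : Type*} [Group A] [Finite A] {φ : A →* MulAut M}
  {k : Type*} [Field k] [IsAlgClosed k] {E : Type*} [AddCommGroup E] [Module k E]
  [FiniteDimensional k E] (ρ : M ⋊[φ] A →* Module.End k E)

/-- The pairing. -/
noncomputable def pairVal (Z : Subgroup M)
    (χ : (Z.map (inl : M →* M ⋊[φ] A)) →* k) (x y : M) : k :=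
  wVal Z χ ⁅x, y⁆

theorem stageOne_bound {Q S Z : Subgroup M} (hQi : ∀ e, ∀ x ∈ Q, φ e x ∈ Q)
    (hZQ : Z ≤ Q) (hZi : ∀ e, ∀ x ∈ Z, φ e x ∈ Z)
    (hmemZ : ∀ {x y}, x ∈ Q → y ∈ Q → ⁅x, y⁆ ∈ Z) (hZc : Z ≤ centralizer (Q : Set M))
    (hSQ : S ≤ normalizer (Q : Set M)) (hSZ : S ≤ centralizer (Z : Set M))
    (hSi : ∀ e, ∀ x ∈ S, φ e x ∈ S) (hcomm : ∀ g ∈ S, ∀ g' ∈ S, ⁅g, g'⁆ ∈ centralizer (Q : Set M))
    (hcopSQ : (Nat.card S).Coprime (Nat.card Q))
    {χ : (Z.map (inl : M →* M ⋊[φ] A)) →* k} {v : E} (hv0 : v ≠ 0)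
    (hv : v ∈ weightSpace ρ (Z.map inl) χ) {h : A} (hh : h ∈ aStab Z χ) {ℓ : ℕ}
    (hℓ : ℓ.Prime) (hℓk : (ℓ : k) ≠ 0) (hhℓ : h ^ ℓ = 1) (hℓM : ℓ.Coprime (Nat.card M))
    (hsum : ∀ w ∈ weightSpace ρ (Z.map inl) χ,
      ∑ i ∈ Finset.range ℓ, ρ (inr (h ^ i)) w = 0) :
    (∀ g ∈ S, ∀ x ∈ Q, ∀ y ∈ Q,
      pairVal Z χ (φ h g * x * (φ h g)⁻¹) y = pairVal Z χ (g * x * g⁻¹) y) ∧
    ((∃ x ∈ Q, ∃ y ∈ Q, pairVal Z χ x y ≠ 1) →
      (∀ x ∈ Q, (∀ y ∈ Q, pairVal Z χ (x⁻¹ * φ h x) y = 1) → ∀ y ∈ Q, pairVal Z χ x y = 1) →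
      ∃ m, m ≠ 1 ∧ m ≤ ℓ - 1 ∧ m * m ≡ 1 [MOD ℓ] ∧ m * m ∣ Nat.card Q) := by
  classical
  set W := weightSpace ρ (Z.map (inl : M →* M ⋊[φ] A)) χ with hW
  let B : M → M → k := pairVal Z χ
  have hcen : ∀ {z x}, z ∈ Z → x ∈ Q → x * z = z * x := fun {z x} hz hx =>
    mem_centralizer_iff.1 (hZc hz) x hx
  have hB1 : ∀ y, B 1 y = 1 := fun y => by
    show wVal Z χ ⁅1, y⁆ = 1
    rw [commutatorElement_one_left, wVal_one]
  have hBl : ∀ {x x' y}, x ∈ Q → x' ∈ Q → y ∈ Q → B (x * x') y = B x y * B x' y := by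
    intro x x' y hx hx' hy
    show wVal Z χ ⁅x * x', y⁆ = wVal Z χ ⁅x, y⁆ * wVal Z χ ⁅x', y⁆
    rw [← wVal_mul (hmemZ hx hy) (hmemZ hx' hy)]
    congr 1
    have hc := hcen (hmemZ hx' hy) (mul_mem hy (inv_mem hx))
    calc ⁅x * x', y⁆ = x * ⁅x', y⁆ * (y * x⁻¹ * y⁻¹) := by
          simp only [commutatorElement_def]; group
      _ = x * (⁅x', y⁆ * (y * x⁻¹)) * y⁻¹ := by group
      _ = x * ((y * x⁻¹) * ⁅x', y⁆) * y⁻¹ := by rw [hc]
      _ = x * y * x⁻¹ * (⁅x', y⁆ * y⁻¹) := by group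
      _ = x * y * x⁻¹ * (y⁻¹ * ⁅x', y⁆) := by rw [hcen (hmemZ hx' hy) (inv_mem hy)]
      _ = ⁅x, y⁆ * ⁅x', y⁆ := by simp only [commutatorElement_def]; group
  have hBh : ∀ {x y}, x ∈ Q → y ∈ Q → B (φ h x) (φ h y) = B x y := by
    intro x y hx hy
    show wVal Z χ ⁅φ h x, φ h y⁆ = wVal Z χ ⁅x, y⁆
    rw [← map_commutatorElement]
    exact wVal_act hZi hh (hmemZ hx hy)
  -- a weight space of the radical
  let R : Subgroup M :=
    { carrier := {x | x ∈ Q ∧ ∀ y ∈ Q, B x y = 1}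
      one_mem' := ⟨one_mem Q, fun y _ => hB1 y⟩
      mul_mem' := fun hx hy => ⟨mul_mem hx.1 hy.1, fun z hz => by
        rw [hBl hx.1 hy.1 hz, hx.2 z hz, hy.2 z hz, one_mul]⟩
      inv_mem' := fun {x} hx => ⟨inv_mem hx.1, fun y hy => by
        have := hBl hx.1 (inv_mem hx.1) hy
        rwa [mul_inv_cancel, hB1, hx.2 y hy, one_mul, eq_comm] at this⟩ }
  have hRQ : R ≤ Q := fun x hx => hx.1
  have hQW : ∀ x ∈ Q, ∀ w ∈ W, ρ (inl x) w ∈ W := fun x hx w hw =>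
    mapsTo_weightSpace_of_commute ρ (inl_mem_centralizer (mem_centralizer_iff.2 fun z hz =>
      (hcen hz hx).symm)) hw
  have hswap : ∀ {x y}, x ∈ Q → y ∈ Q → ∀ w ∈ W,
      ρ (inl x) (ρ (inl y) w) = B x y • ρ (inl y) (ρ (inl x) w) := by
    intro x y hx hy w hw
    rw [← apply_mul, ← apply_mul, ← map_mul, ← map_mul,
      show x * y = ⁅x, y⁆ * (y * x) by simp only [commutatorElement_def]; group, map_mul inl,
      apply_mul, apply_eq_wVal_smul ρ (hQW _ (mul_mem hy hx) w hw) (hmemZ hx hy)]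
    rfl
  have hcommR : ∀ {x y}, x ∈ R → y ∈ Q → ∀ w ∈ W,
      ρ (inl x) (ρ (inl y) w) = ρ (inl y) (ρ (inl x) w) := fun {x y} hx hy w hw => by
    rw [hswap hx.1 hy w hw, hx.2 y hy, one_smul]
  let T : (R.map (inl : M →* M ⋊[φ] A)) → Module.End k W := fun l => (ρ (l : M ⋊[φ] A)).restrict
    (by
      obtain ⟨_, x, hx, rfl⟩ := l
      exact hQW x (hRQ hx))
  have hWne : (⊤ : Submodule k W) ≠ ⊥ := by
    intro e
    have : (⟨v, hv⟩ : W) ∈ (⊥ : Submodule k W) := e ▸ Submodule.mem_top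
    exact hv0 (congrArg Subtype.val ((Submodule.mem_bot k).1 this))
  obtain ⟨w0, -, hw00, hw0⟩ := LinRep.CharOrbit.common_eigenvector T
    (fun l l' => LinearMap.ext fun w => Subtype.ext (by
      obtain ⟨_, x, hx, rfl⟩ := l
      obtain ⟨_, y, hy, rfl⟩ := l'
      exact hcommR hx (hRQ hy) w w.2))
    ⊤ hWne (fun _ _ _ => Submodule.mem_top)
  choose c hc using hw0
  have hinj : ∀ {a b : k}, a • w0 = b • w0 → a = b := fun h' => smul_left_injective k hw00 h'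
  have hTmul : ∀ l l', T (l * l') = T l * T l' := fun l l' =>
    LinearMap.ext fun w => Subtype.ext (apply_mul ρ _ _ _)
  let ψ : (R.map (inl : M →* M ⋊[φ] A)) →* k :=
    { toFun := c
      map_one' := hinj (by
        rw [← hc, one_smul]
        exact Subtype.ext (apply_one ρ _))
      map_mul' := fun a b => hinj (by
        rw [← hc, hTmul, Module.End.mul_apply, hc, map_smul, hc, smul_smul, mul_comm]) }
  have hψw : ((w0 : W) : E) ∈ weightSpace ρ (R.map inl) ψ := fun l =>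
    congrArg Subtype.val (hc l)
  set W' : Submodule k E := W ⊓ weightSpace ρ (R.map inl) ψ with hW'
  -- `h` fixes `ψ`
  have hRh : ∀ x ∈ R, φ h x ∈ R := by
    intro x hx
    refine ⟨hQi h x hx.1, fun y hy => ?_⟩
    have hy' : φ h (φ h⁻¹ y) = y := by
      rw [← MulAut.mul_apply, ← map_mul, mul_inv_cancel, map_one, MulAut.one_apply]
    rw [← hy', hBh hx.1 (hQi _ y hy), hx.2 _ (hQi _ y hy)]
  have hRhn : ∀ i : ℕ, ∀ x ∈ R, φ (h ^ i) x ∈ R := by
    intro i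
    induction i with
    | zero => intro x hx; rwa [pow_zero, map_one, MulAut.one_apply]
    | succ i ih => intro x hx; rw [pow_succ', map_mul, MulAut.mul_apply]; exact hRh _ (ih x hx)
  have hRz : ∀ e ∈ zpowers h, ∀ x ∈ R, φ e x ∈ R := by
    intro e he
    obtain ⟨i, rfl⟩ : ∃ i : ℕ, h ^ i = e := mem_powers_iff_mem_zpowers.2 he
    exact hRhn i
  have hnR : ∀ e ∈ zpowers h, (inr e : M ⋊[φ] A) ∈
      normalizer ((R.map inl : Subgroup (M ⋊[φ] A)) : Set (M ⋊[φ] A)) := by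
    intro e he
    rw [mem_normalizer_iff_map_conj_eq]
    refine le_antisymm ?_ fun g hg => ?_
    · rintro _ ⟨_, ⟨g, hg, rfl⟩, rfl⟩
      exact ⟨φ e g, hRz e he g hg, inl_apply e g⟩
    · obtain ⟨g, hg, rfl⟩ := hg
      refine ⟨inl (φ e⁻¹ g), mem_map_of_mem _ (hRz _ (inv_mem he) g hg), ?_⟩
      show inr e * inl (φ e⁻¹ g) * (inr e)⁻¹ = inl g
      rw [← inl_apply, ← MulAut.mul_apply, ← map_mul, mul_inv_cancel, map_one, MulAut.one_apply]
  have hψh : (inr h : M ⋊[φ] A) ∈ wStab k (R.map inl) ψ := by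
    by_contra hns
    have h2 := sum_stab_eq_zero ρ hψw (fun i : Fin ℓ => (inr (h ^ (i : ℕ)) : M ⋊[φ] A))
      (fun i => hnR _ (pow_mem (mem_zpowers h) _))
      (by
        rw [Fin.sum_univ_eq_sum_range (fun i => ρ (inr (h ^ i)) ((w0 : W) : E)) ℓ]
        exact hsum _ w0.2)
      {⟨0, hℓ.pos⟩} (fun i => by
        rw [Finset.mem_singleton]
        constructor
        · rintro rfl
          show inr (h ^ 0) ∈ _
          rw [pow_zero, map_one]
          exact one_mem _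
        · intro hi
          by_contra hi0
          apply hns
          have hi' : (i : ℕ) ≠ 0 := fun e => hi0 (Fin.ext e)
          have hco : (i : ℕ).Coprime (orderOf h) := Nat.Coprime.coprime_dvd_right
            (orderOf_dvd_of_pow_eq_one hhℓ)
            ((hℓ.coprime_iff_not_dvd.2 fun hd =>
              absurd (Nat.le_of_dvd (Nat.pos_of_ne_zero hi') hd) (not_le.2 i.2)).symm)
          obtain ⟨n, hn⟩ := exists_pow_eq_self_of_coprime hco
          rw [← hn, map_pow]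
          exact pow_mem hi n)
    simp only [Finset.sum_singleton, pow_zero, map_one, apply_one] at h2
    exact hw00 (Subtype.ext h2)
  have hQW' : ∀ y ∈ Q, ∀ w ∈ W', ρ (inl y) w ∈ W' := by
    intro y hy w hw
    refine ⟨hQW y hy w hw.1, ?_⟩
    rintro ⟨_, x, hx, rfl⟩
    show ρ (inl x) (ρ (inl y) w) = _
    rw [hcommR hx hy w hw.1, hw.2 ⟨_, mem_map_of_mem _ hx⟩, map_smul]
  have hhW' : ∀ w ∈ W', ρ (inr h) w ∈ W' := by
    intro w hw
    obtain ⟨hN, he⟩ := (mem_aStab.1 hh : inr h ∈ wStab k _ χ)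
    have h1 := mapsTo_weightSpace ρ hN hw.1
    rw [he] at h1
    obtain ⟨hN', he'⟩ := hψh
    have h2 := mapsTo_weightSpace ρ hN' hw.2
    rw [he'] at h2
    exact ⟨h1, h2⟩
  have : Nontrivial W' :=
    ⟨⟨⟨_, w0.2, hψw⟩, 0, fun e => hw00 (Subtype.ext (congrArg Subtype.val e :))⟩⟩
  let π : Q →* Module.End k W' :=
    { toFun := fun x => (ρ (inl (x : M))).restrict (hQW' x x.2)
      map_one' := LinearMap.ext fun w => Subtype.ext (by
        show ρ (inl (1 : M)) (w : E) = w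
        rw [map_one, apply_one])
      map_mul' := fun x y => LinearMap.ext fun w => Subtype.ext (by
        show ρ (inl ((x : M) * y)) (w : E) = ρ (inl (x : M)) (ρ (inl (y : M)) (w : E))
        rw [map_mul, apply_mul]) }
  have hππ : ∀ x y : Q, π x * π y = B x y • (π y * π x) := fun x y =>
    LinearMap.ext fun w => Subtype.ext (hswap x.2 y.2 w w.2.1)
  have hrad : ∀ x : Q, (∀ y : Q, B x y = 1) → x ∈ scalarSub π := fun x hx =>
    ⟨ψ ⟨inl (x : M), mem_map_of_mem _ ⟨x.2, fun y hy => hx ⟨y, hy⟩⟩⟩, LinearMap.ext fun w =>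
      Subtype.ext (w.2.2 ⟨inl (x : M), mem_map_of_mem _ ⟨x.2, fun y hy => hx ⟨y, hy⟩⟩⟩)⟩
  let Ah : Module.End k W' := (ρ (inr h)).restrict hhW'
  have hAsum : ∑ i ∈ Finset.range ℓ, Ah ^ i = 0 := by
    have hpow : ∀ i : ℕ, ∀ w : W', ((Ah ^ i) w : E) = ρ (inr (h ^ i)) (w : E) := by
      intro i
      induction i with
      | zero => intro w; rw [pow_zero, pow_zero, map_one, apply_one]; rfl
      | succ i ih =>
        intro w
        rw [pow_succ', Module.End.mul_apply, pow_succ', map_mul, apply_mul, ← ih w]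
        rfl
    refine LinearMap.ext fun w => Subtype.ext ?_
    rw [LinearMap.sum_apply, Submodule.coe_sum]
    simp only [hpow]
    exact hsum _ w.2.1
  let γS : S →* MulAut Q := Q.normalizerMonoidHom.comp (Subgroup.inclusion hSQ)
  have hγS : ∀ (g : S) (x : Q), ((γS g x : Q) : M) = g * x * (g : M)⁻¹ := fun g x => rfl
  have hγP : ∀ (g : S) (x y : Q), B (γS g x) (γS g y) = B x y := by
    intro g x y
    rw [hγS, hγS]
    show wVal Z χ ⁅(g : M) * x * (g : M)⁻¹, (g : M) * y * (g : M)⁻¹⁆ = wVal Z χ ⁅(x : M), (y : M)⁆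
    congr 1
    rw [show ⁅(g : M) * x * (g : M)⁻¹, (g : M) * y * (g : M)⁻¹⁆ =
      (g : M) * ⁅(x : M), (y : M)⁆ * (g : M)⁻¹ by simp only [commutatorElement_def]; group,
      ← mem_centralizer_iff.1 (hSZ g.2) _ (hmemZ x.2 y.2), mul_inv_cancel_right]
  have hαℓ : restrictAct φ Q hQi h ^ ℓ = 1 := by rw [← map_pow, hhℓ, map_one]
  obtain ⟨h1, h2⟩ := pairing_bound (P := fun x y : Q => B x y) hππ hrad γS hγP
    (fun g g' x => congrArg _ (Subtype.ext (by
      show (g : M) * ((g' : M) * x * (g' : M)⁻¹) * (g : M)⁻¹ =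
        (g' : M) * ((g : M) * x * (g : M)⁻¹) * (g' : M)⁻¹
      have h1 := mem_centralizer_iff.1 (hcomm g g.2 g' g'.2)
      have hgx : (g' : M) * ((g : M) * x * (g : M)⁻¹) * (g' : M)⁻¹ ∈ Q :=
        (mem_normalizer_iff.1 (hSQ g'.2) _).1 ((mem_normalizer_iff.1 (hSQ g.2) _).1 x.2)
      calc (g : M) * ((g' : M) * x * (g' : M)⁻¹) * (g : M)⁻¹
          = ⁅(g : M), (g' : M)⁆ * ((g' : M) * ((g : M) * x * (g : M)⁻¹) * (g' : M)⁻¹) *
            ⁅(g : M), (g' : M)⁆⁻¹ := by simp only [commutatorElement_def]; group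
        _ = _ := by rw [← h1 _ hgx, mul_inv_cancel_right])))
    hℓ hℓk Ah hAsum (restrictAct φ Q hQi h) hαℓ
    (fun x => LinearMap.ext fun w => Subtype.ext (by
      show ρ (inr h) (ρ (inl (x : M)) (w : E)) = ρ (inl (φ h (x : M))) (ρ (inr h) (w : E))
      rw [← apply_mul, ← apply_mul, inl_apply, inv_mul_cancel_right]))
    (fun g => ⟨φ h g, hSi h g g.2⟩)
    (fun g x => Subtype.ext (by
      show φ h ((g : M) * x * (g : M)⁻¹) = φ h g * φ h x * (φ h g)⁻¹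
      rw [map_mul, map_mul, map_inv]))
    hcopSQ (hℓM.coprime_dvd_right (card_subgroup_dvd_card Q))
    (hℓM.coprime_dvd_right (card_subgroup_dvd_card S))
  refine ⟨fun g hg x hx y hy => h1 ⟨g, hg⟩ ⟨x, hx⟩ ⟨y, hy⟩, fun hne hfree => h2 ?_ ?_⟩
  · obtain ⟨x, hx, y, hy, hxy⟩ := hne
    exact ⟨⟨x, hx⟩, ⟨y, hy⟩, hxy⟩
  · exact fun x hx y => hfree x x.2 (fun y hy => hx ⟨y, hy⟩) y y.2

end Cfsg.Agent.FittingHeight
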