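import Cfsg.Agent.Lib.FittingHeight.OrderFour
import Cfsg.Agent.Lib.FittingHeight.WeightValues
import Cfsg.Agent.Lib.FittingHeight.Heisenberg
import Cfsg.Agent.Lib.FittingHeight.FpfCommute
import Mathlib.GroupTheory.Perm.Fin

/-!
# The symmetric group of degree three without fixed points

In the linear configuration `M` is abelian.
-/

namespace Cfsg.Agent.FittingHeight

open Subgroup SemidirectProduct
open scoped commutatorElement IsMulCommutative

universe u

/-- The facts about `⟨s, t⟩ ≅ S₃` that are used. -/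
structure IsSymThree {A : Type*} [Group A] (s t : A) : Prop where
  s3 : s * (s * s) = 1
  s1 : s ≠ 1
  t2 : t * t = 1
  tst : t * s * t = s * s
  cases : ∀ a, a = 1 ∨ a = s ∨ a = s * s ∨ (a * a = 1 ∧ a * s * a = s * s)
  pair : ∀ a b, (a * a = 1 ∧ a * s * a = s * s) → (b * b = 1 ∧ b * s * b = s * s) → a ≠ b →
    a * b = s ∨ a * b = s * s

/-- The elements `e` with `g⁻¹ e(g) ∈ N`. -/
def cosetStab {A M : Type*} [Group A] [Group M] (φ : A →* MulAut M) (N : Subgroup M)
    (hN : ∀ a, ∀ x ∈ N, φ a x ∈ N) (g : M) : Subgroup A where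
  carrier := {e | g⁻¹ * φ e g ∈ N}
  one_mem' := by
    show g⁻¹ * φ 1 g ∈ N
    rw [map_one, MulAut.one_apply, inv_mul_cancel]
    exact one_mem N
  mul_mem' := fun {e f} he hf => by
    show g⁻¹ * φ (e * f) g ∈ N
    rw [show g⁻¹ * φ (e * f) g = (g⁻¹ * φ e g) * φ e (g⁻¹ * φ f g) by
      rw [map_mul φ, MulAut.mul_apply, map_mul, map_inv]; group]
    exact mul_mem he (hN e _ hf)
  inv_mem' := fun {e} he => by
    show g⁻¹ * φ e⁻¹ g ∈ N
    have h := inv_mem (hN e⁻¹ _ he)
    rw [map_mul, map_inv, mul_inv_rev, inv_inv, ← MulAut.mul_apply, ← map_mul, inv_mul_cancel,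
      map_one, MulAut.one_apply] at h
    exact h

theorem coreProp_symThree {A : Type*} [Group A] [Fintype A] {s t : A} (hA : IsSymThree s t) :
    CoreProp.{u} A (fun n => n = 1) := by
  classical
  intro M _ _ _ φ r k _ _ d ρ hr hchar hcop hAk hfix hfaith hsum hOr hheight
  obtain ⟨n₀, rfl, hn₀⟩ := hheight
  let Refl : A → Prop := fun a => a * a = 1 ∧ a * s * a = s * s
  have htR : Refl t := ⟨hA.t2, hA.tst⟩
  have hrs : ∀ {a}, Refl a → a * s = s * s * a ∧ s * a = a * (s * s) := fun {a} ha => by
    refine ⟨?_, ?_⟩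
    · calc a * s = a * s * (a * a) := by rw [ha.1, mul_one]
        _ = a * s * a * a := by group
        _ = s * s * a := by rw [ha.2]
    · calc s * a = a * a * (s * a) := by rw [ha.1, one_mul]
        _ = a * (a * s * a) := by group
        _ = a * (s * s) := by rw [ha.2]
  have hr1 : ∀ {a}, Refl a → a ≠ 1 := fun {a} ha h => hA.s1 (by
    have := ha.2
    rw [h, one_mul, mul_one] at this
    exact mul_left_cancel (a := s) (by rw [mul_one]; exact this.symm))
  have hgen : ∀ {a}, Refl a → ∀ H : Subgroup A, a ∈ H → s ∈ H → H = ⊤ := by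
    intro a ha H haH hsH
    refine top_le_iff.1 fun b _ => ?_
    rcases hA.cases b with rfl | rfl | rfl | hb
    · exact one_mem H
    · exact hsH
    · exact mul_mem hsH hsH
    · by_cases e : a = b
      · exact e ▸ haH
      have hab : a * b ∈ H := by
        rcases hA.pair a b ha hb e with h | h <;> rw [h]
        · exact hsH
        · exact mul_mem hsH hsH
      exact (Subgroup.mul_mem_cancel_left H haH).1 hab
  -- orders
  have hs3 : s ^ 3 = 1 := by rw [pow_three]; exact hA.s3
  have hos : orderOf s = 3 := by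
    have := Fact.mk Nat.prime_three
    exact orderOf_eq_prime hs3 hA.s1
  have hot : orderOf t = 2 := by
    have := Fact.mk Nat.prime_two
    exact orderOf_eq_prime (by rw [sq]; exact hA.t2) (hr1 htR)
  have h3M : Nat.Coprime 3 (Nat.card M) :=
    hcop.coprime_dvd_left (hos ▸ orderOf_dvd_natCard s)
  have h2M : Nat.Coprime 2 (Nat.card M) :=
    hcop.coprime_dvd_left (hot ▸ orderOf_dvd_natCard t)
  have hodd : ∀ m : M, Odd (orderOf m) := fun m =>
    (Nat.coprime_two_left.1 h2M).of_dvd_nat (orderOf_dvd_natCard m)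
  have hsA : Group.IsSolvable (zpowers s) := Group.isSolvable_of_comm fun x y => mul_comm' x y
  have hsAA : Group.IsSolvable A := by
    have hn : (zpowers s).Normal := by
      refine ⟨fun x hx g => ?_⟩
      obtain ⟨i, rfl⟩ := hx
      show g * s ^ i * g⁻¹ ∈ zpowers s
      rw [← conj_zpow]
      refine zpow_mem ?_ i
      rcases hA.cases g with rfl | rfl | rfl | hg
      · simpa using mem_zpowers s
      · simpa using mem_zpowers s
      · rw [show s * s * s * (s * s)⁻¹ = s by group]; exact mem_zpowers s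
      · rw [show g⁻¹ = g from inv_eq_of_mul_eq_one_left hg.1, hg.2]
        exact mul_mem (mem_zpowers s) (mem_zpowers s)
    refine Group.isSolvable_of_ker_le_range (zpowers s).subtype (QuotientGroup.mk' (zpowers s))
      (by rw [QuotientGroup.ker_mk', range_subtype]) (hG' := hsA) (hG'' := ?_)
    refine Group.isSolvable_of_comm fun x y => ?_
    induction x using QuotientGroup.induction_on with | _ x => ?_
    induction y using QuotientGroup.induction_on with | _ y => ?_
    have hcls : ∀ z : A, (z : A ⧸ zpowers s) = 1 ∨ (z : A ⧸ zpowers s) = t := by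
      intro z
      have hz : ∀ w ∈ zpowers s, ((w : A) : A ⧸ zpowers s) = 1 := fun w hw =>
        (QuotientGroup.eq_one_iff w).2 hw
      rcases hA.cases z with rfl | rfl | rfl | h
      · exact Or.inl rfl
      · exact Or.inl (hz _ (mem_zpowers _))
      · exact Or.inl (hz _ (mul_mem (mem_zpowers _) (mem_zpowers _)))
      · by_cases e : z = t
        · exact Or.inr (by rw [e])
        refine Or.inr (QuotientGroup.eq.2 ?_)
        rw [inv_eq_of_mul_eq_one_left h.1]
        rcases hA.pair z t h htR e with h' | h' <;> rw [h']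
        · exact mem_zpowers s
        · exact mul_mem (mem_zpowers s) (mem_zpowers s)
    rcases hcls x with h | h <;> rcases hcls y with h' | h' <;> rw [h, h'] <;> simp
  -- a point fixed by a reflection and by `s`
  have hfix2 : ∀ {a}, Refl a → ∀ m : M, φ a m = m → φ s m = m → m = 1 := by
    intro a ha m ham hsm
    have htop := hgen ha ((MulAction.stabilizer (MulAut M) m).comap φ) ham hsm
    have : m ∈ Coprime.fixedBy φ := fun b =>
      (htop.ge (mem_top b) : φ b ∈ MulAction.stabilizer (MulAut M) m)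
    rwa [hfix, mem_bot] at this
  set C : Subgroup M := MonoidHom.eqLocus (φ s : M →* M) (MonoidHom.id M) with hCdef
  have hrC : ∀ {a}, Refl a → ∀ m ∈ C, φ a m ∈ C := fun {a} ha m hm => by
    show φ s (φ a m) = φ a m
    rw [← MulAut.mul_apply, ← map_mul, (hrs ha).2, map_mul, map_mul, MulAut.mul_apply,
      MulAut.mul_apply, show φ s m = m from hm, show φ s m = m from hm]
  have hinvC : ∀ {a}, Refl a → ∀ m ∈ C, φ a m = m⁻¹ ∧ ∀ m' ∈ C, Commute m m' := by
    intro a ha m hm
    let f : C →* C :=
      { toFun := fun x => ⟨φ a x, hrC ha x x.2⟩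
        map_one' := Subtype.ext (map_one (φ a))
        map_mul' := fun x y => Subtype.ext (map_mul (φ a) (x : M) y) }
    have hf : MonoidHom.FixedPointFree f := fun x hx =>
      Subtype.ext (hfix2 ha x (congrArg Subtype.val hx) x.2)
    have hf2 : Function.Involutive f := fun x => Subtype.ext (by
      show φ a (φ a x) = x
      rw [← MulAut.mul_apply, ← map_mul, ha.1, map_one, MulAut.one_apply])
    exact ⟨congrArg Subtype.val (congrFun (hf.coe_eq_inv_of_involutive hf2) ⟨m, hm⟩),
      fun m' hm' => congrArg Subtype.val (hf.commute_all_of_involutive hf2 ⟨m, hm⟩ ⟨m', hm'⟩).eq⟩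
  -- the two types of non-trivial weights
  have key : ∀ (Q : Subgroup M), IsMulCommutative Q → (∀ a, ∀ x ∈ Q, φ a x ∈ Q) →
      ∀ (χ : (Q.map (inl : M →* M ⋊[φ] A)) →* k) (v : Fin d → k), v ≠ 0 →
      v ∈ weightSpace ρ (Q.map inl) χ → (∃ x ∈ Q, wVal Q χ x ≠ 1) →
      (s ∈ aStab Q χ ∧ ∀ w ∈ weightSpace ρ (Q.map inl) χ,
        ρ (inr s) (ρ (inr s) w) + ρ (inr s) w + w = 0) ∨
      (∃ a, Refl a ∧ a ∈ aStab Q χ ∧ ∀ w ∈ weightSpace ρ (Q.map inl) χ, ρ (inr a) w = -w) := by
    intro Q hQc hQ χ v hv0 hv hne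
    have hnotall : ∀ {a}, Refl a → a ∈ aStab Q χ → s ∉ aStab Q χ := by
      intro a ha haS hsS
      obtain ⟨x, hx, hx1⟩ := hne
      apply hx1
      rw [wVal_of_mem hx]
      exact wRes_eq_one_of_forall_mem hcop hfix hQ
        (fun b => (hgen ha (aStab Q χ) haS hsS).ge (mem_top b)) ⟨x, hx⟩
    let St : Finset A := Finset.univ.filter fun a => a ∈ aStab Q χ
    have hsumW : ∀ w ∈ weightSpace ρ (Q.map inl) χ, ∑ a ∈ St, ρ (inr a) w = 0 := fun w hw =>
      sum_stab_eq_zero ρ hw (fun a : A => (inr a : M ⋊[φ] A)) (inr_mem_normalizer hQ) (hsum w) St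
        (fun a => by simp [St, mem_aStab])
    have hss : s * s ≠ 1 := fun h => hA.s1 (by
      have := hA.s3
      rwa [h, mul_one] at this)
    by_cases hsS : s ∈ aStab Q χ
    · refine Or.inl ⟨hsS, fun w hw => ?_⟩
      have hSt : St = {s * s, s, 1} := by
        ext a
        simp only [St, Finset.mem_filter, Finset.mem_univ, true_and, Finset.mem_insert,
          Finset.mem_singleton]
        rcases hA.cases a with rfl | rfl | rfl | ha
        · exact ⟨fun _ => Or.inr (Or.inr rfl), fun _ => one_mem _⟩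
        · exact ⟨fun _ => Or.inr (Or.inl rfl), fun _ => hsS⟩
        · exact ⟨fun _ => Or.inl rfl, fun _ => mul_mem hsS hsS⟩
        · refine ⟨fun h => absurd hsS (hnotall ha h), ?_⟩
          rintro (rfl | rfl | rfl)
          · exact mul_mem hsS hsS
          · exact hsS
          · exact one_mem _
      have h := hsumW w hw
      rw [hSt, Finset.sum_insert, Finset.sum_insert, Finset.sum_singleton, map_mul inr, apply_mul,
        map_one, apply_one, ← add_assoc] at h
      · exact h
      · simpa using hA.s1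
      · simp only [Finset.mem_insert, Finset.mem_singleton, not_or]
        exact ⟨fun h => hA.s1 (mul_left_cancel (a := s) (by rw [mul_one]; exact h)), hss⟩
    · obtain ⟨⟨a, ha⟩, ha1⟩ :=
        Subgroup.ne_bot_iff_exists_ne_one.1 (aStab_ne_bot ρ hQ hv hv0 (hsum v))
      have hss' : s * s ∉ aStab Q χ := fun h => hsS (by
        have := inv_mem h
        rwa [inv_eq_of_mul_eq_one_left hA.s3] at this)
      have hcl : ∀ b ∈ aStab Q χ, b = 1 ∨ Refl b := by
        intro b hb
        rcases hA.cases b with rfl | rfl | rfl | hb'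
        · exact Or.inl rfl
        · exact absurd hb hsS
        · exact absurd hb hss'
        · exact Or.inr hb'
      have haR : Refl a := (hcl a ha).resolve_left fun h => ha1 (Subtype.ext h)
      refine Or.inr ⟨a, haR, ha, fun w hw => ?_⟩
      have hSt : St = {a, 1} := by
        ext b
        simp only [St, Finset.mem_filter, Finset.mem_univ, true_and, Finset.mem_insert,
          Finset.mem_singleton]
        refine ⟨fun hb => ?_, ?_⟩
        · rcases hcl b hb with h | h
          · exact Or.inr h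
          refine Or.inl ?_
          by_contra e
          rcases hA.pair a b haR h (Ne.symm e) with h' | h'
          · exact hsS (h' ▸ mul_mem ha hb)
          · exact hss' (h' ▸ mul_mem ha hb)
        · rintro (rfl | rfl)
          · exact ha
          · exact one_mem _
      have h := hsumW w hw
      rw [hSt, Finset.sum_pair (hr1 haR), map_one, apply_one] at h
      exact eq_neg_of_add_eq_zero_left h
  have hpres : ∀ (Q : Subgroup M) (χ : (Q.map (inl : M →* M ⋊[φ] A)) →* k), ∀ e ∈ aStab Q χ,
      (inr e : M ⋊[φ] A) ∈ presSub ρ (weightSpace ρ (Q.map inl) χ) := by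
    intro Q χ e he
    have h : ∀ g ∈ wStab k (Q.map (inl : M →* M ⋊[φ] A)) χ,
        ∀ w ∈ weightSpace ρ (Q.map inl) χ, ρ g w ∈ weightSpace ρ (Q.map inl) χ := by
      intro g hg w hw
      obtain ⟨hN, hg'⟩ := hg
      have := mapsTo_weightSpace ρ hN hw
      rwa [hg'] at this
    exact ⟨h _ he, h _ (inv_mem he)⟩
  -- nilpotent invariant subgroups of order prime to `r` are abelian
  have habel : ∀ Q : Subgroup M, (∀ a, ∀ x ∈ Q, φ a x ∈ Q) → Group.IsNilpotent Q →
      (Nat.card Q : k) ≠ 0 → IsMulCommutative Q := by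
    intro Q hQ hQn hQk
    by_contra hnc
    have hne : ⁅Q, Q⁆ ≠ ⊥ := fun h => hnc ⟨⟨fun x y => Subtype.ext
      (mem_centralizer_iff.1 (commutator_eq_bot_iff_le_centralizer.1 h y.2) x x.2)⟩⟩
    obtain ⟨Y, hYQ, hQY, hZ1, hZY, hZc, hYQ', hYf⟩ := exists_before_last_commutator hQn hne
    set Z := ⁅Y, Q⁆ with hZdef
    set Q' := ⁅Q, Q⁆ with hQ'def
    have hZQ : Z ≤ Q := hZY.trans hYQ
    have hmapQ : ∀ a, Q.map (φ a : M →* M) = Q := map_eq_of_invariant φ hQ
    have hYi : ∀ a, ∀ x ∈ Y, φ a x ∈ Y := fun a x hx =>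
      (hYf _ (hmapQ a)).le (mem_map_of_mem (φ a : M →* M) hx)
    have hZi : ∀ a, ∀ x ∈ Z, φ a x ∈ Z := fun a x hx => by
      have := mem_map_of_mem (φ a : M →* M) hx
      rwa [hZdef, map_commutator, hmapQ, hYf _ (hmapQ a)] at this
    have hQ'i : ∀ a, ∀ x ∈ Q', φ a x ∈ Q' := fun a x hx => by
      have := mem_map_of_mem (φ a : M →* M) hx
      rwa [hQ'def, map_commutator, hmapQ] at this
    have hQ'Q : Q' ≤ Q := Subgroup.commutator_le.2 fun a ha b hb => by
      rw [commutatorElement_def]
      exact mul_mem (mul_mem (mul_mem ha hb) (inv_mem ha)) (inv_mem hb)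
    have hZcomm : IsMulCommutative Z := ⟨⟨fun x y => Subtype.ext
      (mem_centralizer_iff.1 (hZc y.2) x (hZQ x.2))⟩⟩
    obtain ⟨z₀, hz₀, hz₀1⟩ : ∃ z ∈ Z, z ≠ 1 := by
      obtain ⟨⟨z, hz⟩, hz1⟩ := Subgroup.ne_bot_iff_exists_ne_one.1 hZ1
      exact ⟨z, hz, fun h => hz1 (Subtype.ext h)⟩
    obtain ⟨χ, v, hv0, hv, hχ'⟩ := exists_weight_ne_one ρ hZcomm
      (natCard_ne_zero_of_le hQk hZQ) hfaith hz₀ hz₀1
    rw [wRes_eq_wVal] at hχ'
    set W := weightSpace ρ (Z.map (inl : M →* M ⋊[φ] A)) χ with hWdef
    have hQW : ∀ x ∈ Q, ∀ w ∈ W, ρ (inl x) w ∈ W := fun x hx w hw =>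
      mapsTo_weightSpace_of_commute ρ (inl_mem_centralizer (mem_centralizer_iff.2 fun z hz =>
        (mem_centralizer_iff.1 (hZc hz) x hx).symm)) hw
    let B : M → M → k := fun x y => wVal Z χ ⁅x, y⁆
    have hmemZ : ∀ {x y}, x ∈ Y → y ∈ Q → ⁅x, y⁆ ∈ Z := fun hx hy =>
      commutator_mem_commutator hx hy
    have hB0 : ∀ {x y}, x ∈ Y → y ∈ Q → B x y ≠ 0 := fun hx hy => wVal_ne_zero (hmemZ hx hy)
    have hBmulL : ∀ {x x' y}, x ∈ Y → x' ∈ Y → y ∈ Q → B (x * x') y = B x y * B x' y := by
      intro x x' y hx hx' hy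
      have hc := mem_centralizer_iff.1 (hZc (hmemZ hx' hy)) x (hYQ hx)
      show wVal Z χ _ = wVal Z χ _ * wVal Z χ _
      rw [commutatorElement_mul_left_eq_conj_mul, hc, mul_inv_cancel_right,
        wVal_mul (hmemZ hx' hy) (hmemZ hx hy), mul_comm]
    have hBmulR : ∀ {x y y'}, x ∈ Y → y ∈ Q → y' ∈ Q → B x (y * y') = B x y * B x y' := by
      intro x y y' hx hy hy'
      show wVal Z χ _ = wVal Z χ _ * wVal Z χ _
      have hc := mem_centralizer_iff.1 (hZc (hmemZ hx hy')) y hy
      have e : ⁅x, y * y'⁆ = ⁅x, y⁆ * (y * ⁅x, y'⁆ * y⁻¹) := by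
        simp only [commutatorElement_def]; group
      rw [e, hc, mul_inv_cancel_right, wVal_mul (hmemZ hx hy) (hmemZ hx hy')]
    have hBQ' : ∀ {x y}, x ∈ Y → y ∈ Q' → B x y = 1 := by
      intro x y hx hy
      have h : ⁅x, y⁆ ∈ ⁅Y, Q'⁆ := commutator_mem_commutator hx hy
      rw [hYQ', mem_bot] at h
      show wVal Z χ _ = 1
      rw [h, wVal_one]
    have hBZ : ∀ {x y}, x ∈ Z → y ∈ Q → B x y = 1 := by
      intro x y hx hy
      show wVal Z χ _ = 1
      rw [commutatorElement_eq_one_iff_commute.2 (mem_centralizer_iff.1 (hZc hx) y hy).symm,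
        wVal_one]
    have hcancel : ∀ (g : M) (w : Fin d → k), ρ (inl g) (ρ (inl g⁻¹) w) = w := fun g w => by
      rw [← apply_mul, ← map_mul, mul_inv_cancel, map_one, apply_one]
    -- elements acting trivially on `W`
    have hBfixL : ∀ {x y}, x ∈ Y → y ∈ Q → (∀ w ∈ W, ρ (inl x) w = w) → B x y = 1 := by
      intro x y hx hy hfx
      have hxi : ∀ w ∈ W, ρ (inl x⁻¹) w = w := fun w hw =>
        (inv_mem (show inl x ∈ fixerOf ρ W from hfx) : (inl x)⁻¹ ∈ fixerOf ρ W) w hw |> fun h => by
          rw [map_inv]; exact h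
      refine smul_left_injective k hv0 ?_
      show wVal Z χ ⁅x, y⁆ • v = (1 : k) • v
      rw [← apply_eq_wVal_smul ρ hv (hmemZ hx hy), one_smul, commutatorElement_def]
      simp only [map_mul, Module.End.mul_apply]
      rw [hxi _ (hQW _ (inv_mem hy) v hv), hcancel, hfx v hv]
    have hBfixR : ∀ {x y}, x ∈ Y → y ∈ Q → (∀ w ∈ W, ρ (inl y) w = w) → B x y = 1 := by
      intro x y hx hy hfy
      have hyi : ∀ w ∈ W, ρ (inl y⁻¹) w = w := fun w hw =>
        (inv_mem (show inl y ∈ fixerOf ρ W from hfy) : (inl y)⁻¹ ∈ fixerOf ρ W) w hw |> fun h => by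
          rw [map_inv]; exact h
      refine smul_left_injective k hv0 ?_
      show wVal Z χ ⁅x, y⁆ • v = (1 : k) • v
      rw [← apply_eq_wVal_smul ρ hv (hmemZ hx hy), one_smul, commutatorElement_def]
      simp only [map_mul, Module.End.mul_apply]
      rw [hyi v hv, hfy _ (hQW _ (inv_mem (hYQ hx)) v hv), hcancel]
    suffices hB1 : ∀ x ∈ Y, ∀ y ∈ Q, B x y = 1 by
      refine hχ' ?_
      let Ker : Subgroup M :=
        { carrier := {z | z ∈ Z ∧ wVal Z χ z = 1}
          one_mem' := ⟨one_mem Z, wVal_one⟩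
          mul_mem' := fun ha hb => ⟨mul_mem ha.1 hb.1, by rw [wVal_mul ha.1 hb.1, ha.2, hb.2,
            mul_one]⟩
          inv_mem' := fun ha => ⟨inv_mem ha.1, by rw [wVal_inv ha.1, ha.2, inv_one]⟩ }
      have hle : Z ≤ Ker := Subgroup.commutator_le.2 fun x hx y hy =>
        (⟨hmemZ hx hy, hB1 x hx y hy⟩ : _ ∧ _)
      exact (hle hz₀).2
    have hcube : ∀ {x y}, x ∈ Y → y ∈ Q → B x y ^ 3 = 1 → B x y = 1 := fun hx hy h =>
      wVal_eq_one_of_pow (hmemZ hx hy) (h3M.coprime_dvd_right (card_subgroup_dvd_card Z)) h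
    rcases key Z hZcomm hZi χ v hv0 hv ⟨z₀, hz₀, hχ'⟩ with ⟨hsS, hquad⟩ | ⟨a, haR, haS, hneg⟩
    · -- `s` fixes the weight
      have hSp := hpres Z χ s hsS
      have hQp : ∀ x ∈ Q, (inl x : M ⋊[φ] A) ∈ presSub ρ W := fun x hx =>
        ⟨hQW x hx, fun w hw => by rw [← map_inv]; exact hQW _ (inv_mem hx) w hw⟩
      -- `x⁻¹ s(x)` fixes `W`
      have hfixu : ∀ x ∈ Y, (inl (x⁻¹ * φ s x) : M ⋊[φ] A) ∈ fixerOf ρ W := by
        intro x hx
        set u := x⁻¹ * φ s x with hu
        set u1 := φ s u with hu1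
        set u2 := φ s u1 with hu2
        have huY : u ∈ Y := mul_mem (inv_mem hx) (hYi s x hx)
        have hu1Y : u1 ∈ Y := hYi s u huY
        have hs3' : φ s (φ s (φ s x)) = x := by
          rw [← MulAut.mul_apply, ← MulAut.mul_apply, ← map_mul, ← map_mul, mul_assoc, hA.s3,
            map_one, MulAut.one_apply]
        have hprod : u * u1 * u2 = 1 := by
          rw [hu2, hu1, hu]
          simp only [map_mul, map_inv]
          rw [hs3']
          group
        have hu2' : u2 = u1⁻¹ * u⁻¹ := by
          rw [← mul_inv_rev]; exact eq_inv_of_mul_eq_one_right hprod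
        by_cases hW0 : ∀ w ∈ W, w = 0
        · exact fun w hw => by rw [hW0 w hw, map_zero]
        have : Nontrivial W := by
          push Not at hW0
          obtain ⟨w, hw, hw0⟩ := hW0
          exact ⟨⟨w, hw⟩, 0, fun h => hw0 (congrArg Subtype.val h)⟩
        let R := resRep ρ W
        let gu : presSub ρ W := ⟨inl u, hQp u (hYQ huY)⟩
        let gu1 : presSub ρ W := ⟨inl u1, hQp u1 (hYQ hu1Y)⟩
        let gs : presSub ρ W := ⟨inr s, hSp⟩
        let gx : presSub ρ W := ⟨inl x, hQp x (hYQ hx)⟩
        have hSX : gs * gu = gu1 * gs := Subtype.ext (by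
          show (inr s : M ⋊[φ] A) * inl u = inl (φ s u) * inr s
          rw [inl_apply, inv_mul_cancel_right])
        have hSY : gs * gu1 = gu1⁻¹ * gu⁻¹ * gs := Subtype.ext (by
          show (inr s : M ⋊[φ] A) * inl u1 = (inl u1)⁻¹ * (inl u)⁻¹ * inr s
          have h : (inl u2 : M ⋊[φ] A) = (inl u1)⁻¹ * (inl u)⁻¹ := by
            rw [hu2', map_mul, map_inv, map_inv]
          rw [← h, hu2, inl_apply (φ := φ) s u1, inv_mul_cancel_right])
        have hxs : gu * gs = gx⁻¹ * gs * gx := Subtype.ext (by
          show inl u * (inr s : M ⋊[φ] A) = (inl x)⁻¹ * inr s * inl x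
          rw [hu, map_mul inl, map_inv (inl : M →* M ⋊[φ] A) x, inl_apply (φ := φ) s x]
          group)
        have hq : R gs * R gs + R gs + 1 = 0 := LinearMap.ext fun w => Subtype.ext (hquad w w.2)
        have hXS : R gu * R gs * (R gu * R gs) + R gu * R gs + 1 = 0 := by
          have hd : R gx⁻¹ * R gx = 1 := by rw [← map_mul, inv_mul_cancel, map_one]
          have hd' : R gx * R gx⁻¹ = 1 := by rw [← map_mul, mul_inv_cancel, map_one]
          rw [← map_mul R gu gs, hxs]
          simp only [map_mul]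
          calc R gx⁻¹ * R gs * R gx * (R gx⁻¹ * R gs * R gx) + R gx⁻¹ * R gs * R gx + 1
              = R gx⁻¹ * R gs * (R gx * R gx⁻¹) * R gs * R gx + R gx⁻¹ * R gs * R gx +
                R gx⁻¹ * R gx := by rw [hd]; noncomm_ring
            _ = R gx⁻¹ * (R gs * R gs + R gs + 1) * R gx := by rw [hd']; noncomm_ring
            _ = 0 := by rw [hq, mul_zero, zero_mul]
        have hζ : R gu * R gu1 = wVal Z χ ⁅u, u1⁆ • (R gu1 * R gu) := by
          refine LinearMap.ext fun w => Subtype.ext ?_
          show ρ (inl u) (ρ (inl u1) (w : Fin d → k)) = _ • ρ (inl u1) (ρ (inl u) (w : Fin d → k))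
          have hw2 : ρ (inl (u1 * u)) (w : Fin d → k) ∈ W :=
            hQW _ (hYQ (mul_mem hu1Y huY)) w w.2
          rw [← apply_mul, ← apply_mul, ← map_mul, ← map_mul,
            ← apply_eq_wVal_smul ρ hw2 (hmemZ huY (hYQ hu1Y)), ← apply_mul, ← map_mul,
            commutatorElement_def]
          group
        have hh := smul_eq_of_heisenberg (k := k) (X := R gu) (Xi := R gu⁻¹) (Y := R gu1)
          (Yi := R gu1⁻¹) (S := R gs) (by rw [← map_mul, mul_inv_cancel, map_one])
          (by rw [← map_mul, inv_mul_cancel, map_one]) (by rw [← map_mul, mul_inv_cancel, map_one])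
          (by rw [← map_mul, inv_mul_cancel, map_one]) hq hXS
          (by rw [← map_mul, ← map_mul, hSX])
          (by rw [← map_mul, ← map_mul, ← map_mul, hSY]) (hB0 huY (hYQ hu1Y)) hζ
        have hζ1 : wVal Z χ ⁅u, u1⁆ = 1 := by
          rcases hh with h | h
          · exact h
          · exact wVal_eq_one_of_pow (hmemZ huY (hYQ hu1Y))
              (h2M.coprime_dvd_right (card_subgroup_dvd_card Z)) (by rw [sq]; exact h)
        rw [hζ1, one_smul] at hζ
        -- the abelian group generated on `W`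
        set P : Subgroup M := Subgroup.closure {u, u1} with hP
        have hPQ : P ≤ Q := (closure_le Q).2 (by
          rintro g (rfl | rfl)
          · exact hYQ huY
          · exact hYQ hu1Y)
        have hPs : ∀ g ∈ P, φ s g ∈ P := by
          intro g hg
          have h := mem_map_of_mem (φ s : M →* M) hg
          rw [hP, MonoidHom.map_closure] at h
          refine (closure_le _).2 ?_ h
          rintro _ ⟨g', rfl | rfl, rfl⟩
          · exact subset_closure (Or.inr rfl)
          · show u2 ∈ P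
            rw [hu2']
            exact mul_mem (inv_mem (subset_closure (Or.inr rfl)))
              (inv_mem (subset_closure (Or.inl rfl)))
        let toU : P →* (Module.End k W)ˣ := (R.comp
          ((inl.comp P.subtype).codRestrict (presSub ρ W) fun g => hQp _ (hPQ g.2))).toHomUnits
        have hcl : ∀ g h : P, toU g * toU h = toU h * toU g := by
          have hu' : (⟨u, subset_closure (Or.inl rfl)⟩ : P) ∈ ({x | (x : M) = u ∨ (x : M) = u1} : Set P) :=
            Or.inl rfl
          have hgen' : closure ({x | (x : M) = u ∨ (x : M) = u1} : Set P) = ⊤ :=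
            closure_closure_coe_preimage
          have hpairs : ∀ g h : P, ((g : M) = u ∨ (g : M) = u1) → ((h : M) = u ∨ (h : M) = u1) →
              toU g * toU h = toU h * toU g := by
            intro g h hg hh
            refine Units.ext ?_
            show R ⟨inl (g : M), _⟩ * R ⟨inl (h : M), _⟩ = R ⟨inl (h : M), _⟩ * R ⟨inl (g : M), _⟩
            rcases hg with hg | hg <;> rcases hh with hh | hh <;> simp only [hg, hh]
            · exact hζ
            · exact hζ.symm
          have h1 : ∀ g : P, ((g : M) = u ∨ (g : M) = u1) →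
              (⊤ : Subgroup P) ≤ (centralizer {toU g}).comap toU := fun g hg => by
            rw [← hgen']
            exact (closure_le _).2 fun h hh => mem_centralizer_singleton_iff.2 (hpairs h g hh hg)
          intro g h
          have h2 : (⊤ : Subgroup P) ≤ (centralizer {toU h}).comap toU := by
            rw [← hgen']
            refine (closure_le _).2 fun g' hg' => mem_centralizer_singleton_iff.2 ?_
            exact (mem_centralizer_singleton_iff.1 (h1 g' hg' (mem_top h))).symm
          exact mem_centralizer_singleton_iff.1 (h2 (mem_top g))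
        refine mem_fixerOf_of_forall_weight ρ (L := P.map inl)
          (natCard_map_inl_ne_zero (natCard_ne_zero_of_le hQk hPQ)) (W := W) ?_ ?_
          (l₀ := ⟨inl u, mem_map_of_mem _ (subset_closure (Or.inl rfl))⟩) ?_
        · rintro _ ⟨g, hg, rfl⟩ w hw
          exact hQW g (hPQ hg) w hw
        · rintro _ ⟨g, hg, rfl⟩ _ ⟨h, hh, rfl⟩ w hw
          exact congrArg Subtype.val (LinearMap.congr_fun
            (congrArg Units.val (hcl ⟨g, hg⟩ ⟨h, hh⟩)) ⟨w, hw⟩)
        · intro ψ w hw hw0 hψ
          by_cases hfs : (inr s : M ⋊[φ] A) ∈ wStab k (P.map inl) ψ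
          · have e1 : ∀ g (hg : g ∈ P), ψ ⟨inl (φ s g), mem_map_of_mem _ (hPs g hg)⟩ =
                ψ ⟨inl g, mem_map_of_mem _ hg⟩ := fun g hg => by
              rw [← apply_eq_of_mem_wStab hfs ⟨inl g, mem_map_of_mem _ hg⟩
                (by rw [← inl_apply]; exact mem_map_of_mem _ (hPs g hg))]
              congr 1
              exact Subtype.ext (inl_apply (φ := φ) s g)
            have hu0 : u ∈ P := subset_closure (Or.inl rfl)
            have hp1 : u * u1 * u2 ∈ P := by rw [hprod]; exact one_mem P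
            have h3 : ψ ⟨inl u, mem_map_of_mem _ hu0⟩ ^ 3 = 1 := by
              rw [pow_three]
              conv_lhs => arg 2; arg 1; rw [← e1 u hu0]
              conv_lhs => arg 2; arg 2; rw [← e1 u hu0, ← e1 u1 (hPs u hu0)]
              rw [← map_mul, ← map_mul]
              refine (congrArg ψ (Subtype.ext ?_)).trans (map_one ψ)
              show inl u * (inl (φ s u) * inl (φ s u1)) = 1
              rw [← map_mul, ← map_mul, ← mul_assoc, hprod, map_one]
            exact eq_one_of_pow_eq_one_of_coprime ψ _ (Nat.Coprime.coprime_dvd_right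
              (by rw [← Nat.card_congr (P.equivMapOfInjective inl inl_injective).toEquiv]
                  exact card_subgroup_dvd_card P) h3M) h3
          · exfalso
            have hNs : ∀ e ∈ zpowers s, (inr e : M ⋊[φ] A) ∈
                normalizer ((P.map inl : Subgroup (M ⋊[φ] A)) : Set (M ⋊[φ] A)) := by
              have : (inr s : M ⋊[φ] A) ∈
                  normalizer ((P.map inl : Subgroup (M ⋊[φ] A)) : Set (M ⋊[φ] A)) := by
                rw [mem_normalizer_iff_map_conj_eq]
                refine le_antisymm ?_ fun g hg => ?_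
                · rintro _ ⟨_, ⟨g, hg, rfl⟩, rfl⟩
                  exact ⟨φ s g, hPs g hg, inl_apply s g⟩
                · obtain ⟨g, hg, rfl⟩ := hg
                  refine ⟨inl (φ s (φ s g)), mem_map_of_mem _ (hPs _ (hPs g hg)), ?_⟩
                  show inr s * inl (φ s (φ s g)) * (inr s)⁻¹ = inl g
                  rw [← inl_apply, ← MulAut.mul_apply, ← MulAut.mul_apply, ← map_mul, ← map_mul,
                    mul_assoc, hA.s3, map_one, MulAut.one_apply]
              rintro e ⟨i, rfl⟩
              show inr (s ^ i) ∈ _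
              rw [map_zpow]
              exact zpow_mem this i
            have hs2 := sum_stab_eq_zero ρ hψ (fun i : Fin 3 => (inr (s ^ (i : ℕ)) : M ⋊[φ] A))
              (fun i => hNs _ (pow_mem (mem_zpowers s) _))
              (by
                rw [Fin.sum_univ_three]
                simp only [Fin.val_zero, Fin.val_one, Fin.val_two, pow_zero, pow_one, sq, map_one,
                  apply_one, map_mul inr, apply_mul]
                rw [← hquad w hw]
                rw [Module.End.one_apply]
                abel)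
              {0} (fun i => by
                rw [Finset.mem_singleton]
                fin_cases i
                · simp [one_mem]
                · exact ⟨fun h => absurd h (by decide), fun h => absurd (by simpa using h) hfs⟩
                · refine ⟨fun h => absurd h (by decide), fun h => absurd ?_ hfs⟩
                  have h' := inv_mem h
                  rw [← map_inv] at h'
                  convert h' using 2
                  rw [eq_inv_iff_mul_eq_one]
                  simp [sq, hA.s3])
            simp only [Finset.sum_singleton, Fin.val_zero, pow_zero, map_one, apply_one] at hs2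
            exact hw0 hs2
      intro x hx y hy
      -- replace `x` by a fixed point of `s`
      let K : Subgroup M := Y ⊓ (fixerOf ρ W).comap inl
      have hKi : ∀ e : zpowers s, ∀ g ∈ K, φ (e : A) g ∈ K := fun e g hg => ⟨hYi _ g hg.1, fun w hw => by
        have he := hpres Z χ e ((zpowers_le.2 hsS) e.2)
        rw [inl_apply, apply_mul, apply_mul, (hg.2 : inl g ∈ fixerOf ρ W) _ (he.2 w hw),
          ← apply_mul, mul_inv_cancel, apply_one]⟩
      have hstx : (⟨s, mem_zpowers s⟩ : zpowers s) ∈
          cosetStab (φ.comp (zpowers s).subtype) K hKi x :=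
        ⟨Y.mul_mem (Y.inv_mem hx) (hYi s x hx), hfixu x hx⟩
      obtain ⟨n, hn, hnfix⟩ := Coprime.exists_fixed_mul_mem_hom (φ.comp (zpowers s).subtype) hKi
        (by rw [Nat.card_zpowers, hos]; exact h3M.coprime_dvd_right (card_subgroup_dvd_card K))
        (Or.inl hsA) (k := x) (by
          rintro ⟨_, i, rfl⟩
          exact zpow_mem hstx i)
      have hcC : x * n ∈ C := hnfix ⟨s, mem_zpowers s⟩
      have hcY : x * n ∈ Y := mul_mem hx hn.1
      have hxc : B x y = B (x * n) y := by
        rw [hBmulL hx hn.1 hy, hBfixL hn.1 hy hn.2, mul_one]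
      rw [hxc]
      -- average `y` over `⟨s⟩`
      have hsy : ∀ {g}, g ∈ Q → B (x * n) (φ s g) = B (x * n) g := by
        intro g hg
        show wVal Z χ _ = wVal Z χ _
        rw [← wVal_act hZi hsS (hmemZ hcY hg), map_commutatorElement,
          show φ s (x * n) = x * n from hcC]
      set N := y * φ s y * φ s (φ s y) with hN
      have hNQ : N ∈ Q := mul_mem (mul_mem hy (hQ s y hy)) (hQ s _ (hQ s y hy))
      have hBN : B (x * n) N = B (x * n) y ^ 3 := by
        rw [hN, hBmulR hcY (mul_mem hy (hQ s y hy)) (hQ s _ (hQ s y hy)),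
          hBmulR hcY hy (hQ s y hy), hsy (hQ s y hy), hsy hy, pow_three, mul_assoc]
      have hstN : (⟨s, mem_zpowers s⟩ : zpowers s) ∈
          cosetStab (φ.comp (zpowers s).subtype) Q' (fun e => hQ'i e) N := by
        show N⁻¹ * φ s N ∈ Q'
        have e : N⁻¹ * φ s N = ⁅(φ s y * φ s (φ s y))⁻¹, y⁻¹⁆ := by
          have hs3y : φ s (φ s (φ s y)) = y := by
            rw [← MulAut.mul_apply, ← MulAut.mul_apply, ← map_mul, ← map_mul, mul_assoc, hA.s3,
              map_one, MulAut.one_apply]
          rw [hN, commutatorElement_def, map_mul, map_mul, hs3y]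
          group
        rw [e]
        exact commutator_mem_commutator (inv_mem (mul_mem (hQ s y hy) (hQ s _ (hQ s y hy))))
          (inv_mem hy)
      obtain ⟨n', hn', hn'fix⟩ := Coprime.exists_fixed_mul_mem_hom (φ.comp (zpowers s).subtype)
        (fun e => hQ'i e)
        (by rw [Nat.card_zpowers, hos]; exact h3M.coprime_dvd_right (card_subgroup_dvd_card Q'))
        (Or.inl hsA) (k := N) (by
          rintro ⟨_, i, rfl⟩
          exact zpow_mem hstN i)
      refine hcube hcY hy ?_
      rw [← hBN]
      have h1 : B (x * n) (N * n') = 1 := by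
        show wVal Z χ _ = 1
        rw [commutatorElement_eq_one_iff_commute.2
          ((hinvC htR _ hcC).2 _ (hn'fix ⟨s, mem_zpowers s⟩)), wVal_one]
      rwa [hBmulR hcY hNQ (hQ'Q hn'), hBQ' hcY hn', mul_one] at h1
    · -- a reflection fixes the weight
      have hap := hpres Z χ a haS
      have hinvfix : ∀ e ∈ Q, φ a e = e⁻¹ → ∀ w ∈ W, ρ (inl e) w = w := by
        intro e he hae w hw
        have h2 : ∀ w ∈ W, ρ (inl e⁻¹) w = ρ (inl e) w := by
          intro w hw
          have hi : ((inr a)⁻¹ : M ⋊[φ] A) = inr a := by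
            rw [← map_inv, inv_eq_of_mul_eq_one_left haR.1]
          rw [← hae, inl_apply, hi, apply_mul, apply_mul, hneg w hw, map_neg, map_neg,
            hneg _ (hQW e he w hw), neg_neg]
        refine mem_fixerOf_of_sq ρ (W := W) (g := inl e) ?_ (fun w hw => ?_) w hw
        · rw [orderOf_injective _ inl_injective]; exact hodd e
        · rw [apply_mul, ← h2 _ (hQW e he w hw), ← apply_mul, ← map_mul, inv_mul_cancel, map_one,
            apply_one]
      have hτ : ∀ m, φ a (φ a m) = m := fun m => by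
        rw [← MulAut.mul_apply, ← map_mul, haR.1, map_one, MulAut.one_apply]
      have hss : ∀ {g}, φ a g = g → φ a (φ s g) = φ s (φ s g) := fun {g} hg => by
        rw [← MulAut.mul_apply, ← map_mul, (hrs haR).1, map_mul, map_mul, MulAut.mul_apply,
          MulAut.mul_apply, hg]
      -- `s g` and `s² g` agree on `W`, for `g` fixed by `a`
      have hsplit : ∀ {H : Subgroup M}, (∀ e, ∀ g ∈ H, φ e g ∈ H) → ∀ {g}, g ∈ H → φ a g = g →
          ∃ c ∈ H, ∃ e ∈ H, φ a e = e⁻¹ ∧ φ s g = c * e ∧ φ s (φ s g) = c * e⁻¹ := by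
        intro H hH g hg hag
        obtain ⟨c, hc, e, he, hcc, hee, hce⟩ :=
          exists_fixed_mul_inverted (φ a) hτ hodd (hH a) (hH s g hg)
        refine ⟨c, hc, e, he, hee, hce, ?_⟩
        rw [← hss hag, hce, map_mul, hcc, hee]
      have hBsL : ∀ {x y}, x ∈ Y → φ a x = x → y ∈ Q → B (φ s (φ s x)) y = B (φ s x) y := by
        intro x y hx hax hy
        obtain ⟨c, hc, e, he, hee, h1, h2⟩ := hsplit hYi hx hax
        rw [h2, h1, hBmulL hc he hy, hBmulL hc (inv_mem he) hy,
          hBfixL he hy (hinvfix e (hYQ he) hee),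
          hBfixL (inv_mem he) hy (hinvfix _ (inv_mem (hYQ he)) (by rw [map_inv, hee]))]
      have hBsR : ∀ {x y}, x ∈ Y → y ∈ Q → φ a y = y → B x (φ s (φ s y)) = B x (φ s y) := by
        intro x y hx hy hay
        obtain ⟨c, hc, e, he, hee, h1, h2⟩ := hsplit hQ hy hay
        rw [h2, h1, hBmulR hx hc he, hBmulR hx hc (inv_mem he),
          hBfixR hx he (hinvfix e he hee),
          hBfixR hx (inv_mem he) (hinvfix _ (inv_mem he) (by rw [map_inv, hee]))]
      -- norms of points fixed by `a` over `⟨s⟩`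
      have hnorm : ∀ {H N : Subgroup M}, (∀ e, ∀ g ∈ H, φ e g ∈ H) →
          (∀ e, ∀ g ∈ N, φ e g ∈ N) → (∀ g ∈ H, ∀ g' ∈ H, ⁅g, g'⁆ ∈ N) → ∀ {g}, g ∈ H →
          φ a g = g → g * φ s g * φ s (φ s g) ∈ N := by
        intro H N hH hN hHN g hg hag
        set P := g * φ s g * φ s (φ s g) with hP
        have hs3g : φ s (φ s (φ s g)) = g := by
          rw [← MulAut.mul_apply, ← MulAut.mul_apply, ← map_mul, ← map_mul, mul_assoc, hA.s3,
            map_one, MulAut.one_apply]
        have h1 : s ∈ cosetStab φ N hN P := by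
          show P⁻¹ * φ s P ∈ N
          have e : P⁻¹ * φ s P = ⁅(φ s g * φ s (φ s g))⁻¹, g⁻¹⁆ := by
            rw [hP, commutatorElement_def, map_mul, map_mul, hs3g]
            group
          rw [e]
          exact hHN _ (inv_mem (mul_mem (hH s g hg) (hH s _ (hH s g hg)))) _ (inv_mem hg)
        have h2 : a ∈ cosetStab φ N hN P := by
          show P⁻¹ * φ a P ∈ N
          have e : P⁻¹ * φ a P = ⁅(φ s (φ s g))⁻¹, (φ s g)⁻¹⁆ := by
            have h' : φ a (φ s (φ s g)) = φ s g := by rw [← hss hag, hτ]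
            rw [hP, commutatorElement_def, map_mul, map_mul, hag, hss hag, h']
            group
          rw [e]
          exact hHN _ (inv_mem (hH s _ (hH s g hg))) _ (inv_mem (hH s g hg))
        have htop := hgen haR (cosetStab φ N hN P) h2 h1
        obtain ⟨n, hn, hnfix⟩ := Coprime.exists_fixed_mul_mem_hom φ hN
          (hcop.coprime_dvd_right (card_subgroup_dvd_card N)) (Or.inl hsAA) (k := P)
          (fun e => htop.ge (mem_top e))
        rw [hfix, mem_bot, mul_eq_one_iff_eq_inv] at hnfix
        rw [hnfix]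
        exact inv_mem hn
      have hfixed : ∀ x ∈ Y, φ a x = x → ∀ y ∈ Q, φ a y = y → B x y = 1 := by
        intro x hx hax y hy hay
        have hsx := hYi s x hx
        have hs2x := hYi s _ hsx
        have hsy := hQ s y hy
        have hs2y := hQ s _ hsy
        have hNx : ∀ {y'}, y' ∈ Q → B x y' * B (φ s x) y' * B (φ s x) y' = 1 := by
          intro y' hy'
          have hmem := hnorm hYi hZi (fun g hg g' hg' => hmemZ hg (hYQ hg')) hx hax
          have := hBZ hmem hy'
          rwa [hBmulL (mul_mem hx hsx) hs2x hy', hBmulL hx hsx hy', hBsL hx hax hy'] at this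
        have hNy : B x y * B x (φ s y) * B x (φ s y) = 1 := by
          have hmem := hnorm hQ hQ'i (fun g hg g' hg' => commutator_mem_commutator hg hg') hy hay
          have := hBQ' hx hmem
          rwa [hBmulR hx (mul_mem hy hsy) hs2y, hBmulR hx hy hsy, hBsR hx hy hay] at this
        have hNz : B x y * B (φ s x) (φ s y) * B (φ s x) (φ s y) = 1 := by
          have hzZ := hmemZ hx hy
          have hza : φ a ⁅x, y⁆ = ⁅x, y⁆ := by rw [map_commutatorElement, hax, hay]
          have hmem := hnorm hZi (N := ⊥) (fun e g hg => by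
            rw [mem_bot] at hg ⊢
            rw [hg, map_one]) (fun g hg g' hg' => mem_bot.2
              (commutatorElement_eq_one_iff_commute.2
                (mem_centralizer_iff.1 (hZc hg') g (hZQ hg)))) hzZ hza
          rw [mem_bot, map_commutatorElement, map_commutatorElement] at hmem
          have h := congrArg (wVal Z χ) hmem
          rw [wVal_one, wVal_mul (mul_mem hzZ (hmemZ hsx hsy)) (hmemZ hs2x hs2y),
            wVal_mul hzZ (hmemZ hsx hsy)] at h
          change B x y * B (φ s x) (φ s y) * B (φ s (φ s x)) (φ s (φ s y)) = 1 at h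
          rwa [hBsL hx hax hs2y, hBsR hsx hy hay] at h
        have h1 := hNx hsy
        have hP1 := hB0 hsx hsy
        have hv1 := hB0 hx hsy
        have e : B x y = B x (φ s y) := by
          have := hNz.trans h1.symm
          exact mul_right_cancel₀ hP1 (mul_right_cancel₀ hP1 this)
        refine hcube hx hy ?_
        rw [pow_three, ← mul_assoc]
        conv_lhs => arg 2; rw [e]
        conv_lhs => arg 1; arg 2; rw [e]
        exact hNy
      intro x hx y hy
      obtain ⟨c, hc, e, he, hcc, hee, rfl⟩ :=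
        exists_fixed_mul_inverted (φ a) hτ hodd (hYi a) hx
      obtain ⟨c', hc', e', he', hcc', hee', rfl⟩ :=
        exists_fixed_mul_inverted (φ a) hτ hodd (hQ a) hy
      rw [hBmulL hc he (mul_mem hc' he'), hBfixL he (mul_mem hc' he') (hinvfix e (hYQ he) hee),
        mul_one, hBmulR hc hc' he', hBfixR hc he' (hinvfix e' he' hee'), mul_one,
        hfixed c hc hcc c' hc' hcc']
  -- `C_M(s)` centralises the abelian normal invariant subgroups of order prime to `r`
  have hCcent : ∀ Q : Subgroup M, IsMulCommutative Q → Q.Normal → (∀ a, ∀ x ∈ Q, φ a x ∈ Q) →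
      (Nat.card Q : k) ≠ 0 → C ≤ centralizer (Q : Set M) := by
    intro Q hQc hQn hQ hQk c hc
    refine mem_centralizer_iff.2 fun x hx => ?_
    by_contra hne
    have hcx : c * x * c⁻¹ ∈ Q := hQn.conj_mem x hx c
    have hd : x⁻¹ * (c * x * c⁻¹) ∈ Q := mul_mem (inv_mem hx) hcx
    obtain ⟨χ, v, hv0, hv, hχ⟩ := exists_weight_ne_one ρ hQc hQk hfaith hd (fun h => hne (by
      have := inv_mul_eq_one.1 h
      conv_lhs => rw [this]
      group))
    rw [wRes_eq_wVal] at hχ
    apply hχ
    show wVal Q χ (x⁻¹ * (c * x * c⁻¹)) = 1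
    rw [wVal_mul (inv_mem hx) hcx, wVal_inv hx, inv_mul_eq_one₀ (wVal_ne_zero hx)]
    rcases key Q hQc hQ χ v hv0 hv ⟨_, hd, hχ⟩ with ⟨hsS, -⟩ | ⟨a, haR, haS, -⟩
    · -- norms over `⟨s⟩`
      let γ := restrictAct φ Q hQ s
      have hN : ∀ g, ∀ hg : g ∈ Q, wVal Q χ g ^ 3 = wVal Q χ (g * φ s g * φ s (φ s g)) := by
        intro g hg
        rw [wVal_mul (mul_mem hg (hQ s g hg)) (hQ s _ (hQ s g hg)), wVal_mul hg (hQ s g hg),
          wVal_act hQ hsS (hQ s g hg), wVal_act hQ hsS hg, pow_three, mul_assoc]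
      have hconjN : c * x * c⁻¹ * φ s (c * x * c⁻¹) * φ s (φ s (c * x * c⁻¹)) =
          x * φ s x * φ s (φ s x) := by
        have hsc : φ s c = c := hc
        have hfixN : φ s (x * φ s x * φ s (φ s x)) = x * φ s x * φ s (φ s x) := by
          have hs3x : φ s (φ s (φ s x)) = x := by
            rw [← MulAut.mul_apply, ← MulAut.mul_apply, ← map_mul, ← map_mul, mul_assoc, hA.s3,
              map_one, MulAut.one_apply]
          rw [map_mul, map_mul, hs3x]
          have hcm : Commute x (φ s x * φ s (φ s x)) :=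
            congrArg Subtype.val (mul_comm' (⟨x, hx⟩ : Q)
              ⟨φ s x * φ s (φ s x), mul_mem (hQ s x hx) (hQ s _ (hQ s x hx))⟩)
          rw [mul_assoc x, hcm.eq]
        have hcN := (hinvC htR c hc).2 _ hfixN
        simp only [map_mul, map_inv, hsc]
        calc _ = c * (x * φ s x * φ s (φ s x)) * c⁻¹ := by group
          _ = _ := by rw [hcN.eq, mul_inv_cancel_right]
      have h3 : (wVal Q χ x⁻¹ * wVal Q χ (c * x * c⁻¹)) ^ 3 = 1 := by
        rw [mul_pow, wVal_inv hx, inv_pow, hN x hx, hN _ hcx, hconjN,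
          inv_mul_cancel₀ (wVal_ne_zero (mul_mem (mul_mem hx (hQ s x hx)) (hQ s _ (hQ s x hx))))]
      rw [← wVal_mul (inv_mem hx) hcx] at h3
      have := wVal_eq_one_of_pow hd (h3M.coprime_dvd_right (card_subgroup_dvd_card Q)) h3
      rw [wVal_mul (inv_mem hx) hcx, wVal_inv hx, inv_mul_eq_one₀ (wVal_ne_zero hx)] at this
      exact this
    · -- the stabiliser of `χ` in `⟨C, s, a⟩`
      let H : Subgroup (M ⋊[φ] A) := wStab k (Q.map inl) χ
      have hNc : ∀ g : M, (inl g : M ⋊[φ] A) ∈
          normalizer ((Q.map inl : Subgroup (M ⋊[φ] A)) : Set (M ⋊[φ] A)) := fun g =>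
        le_normalizer_map inl (mem_map_of_mem _ (by rw [normalizer_eq_top]; exact mem_top g))
      set χc := twist k (Q.map inl) (inl c) (hNc c) χ with hχc
      have hv' := mapsTo_weightSpace ρ (hNc c) hv
      have hv'0 : ρ (inl c) v ≠ 0 := fun h => hv0 (by
        have := congrArg (ρ (inl c⁻¹)) h
        rwa [← apply_mul, ← map_mul, inv_mul_cancel, map_one, apply_one, map_zero] at this)
      obtain ⟨⟨b, hb⟩, hb1⟩ :=
        Subgroup.ne_bot_iff_exists_ne_one.1 (aStab_ne_bot ρ hQ hv' hv'0 (hsum _))
      have hbH : (inl c⁻¹ : M ⋊[φ] A) * inr b * inl c ∈ H := by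
        obtain ⟨hbN, hbe⟩ := mem_aStab.1 hb
        refine ⟨mul_mem (mul_mem (hNc _) hbN) (hNc _), ?_⟩
        rw [← twist_twist (mul_mem (hNc _) hbN) (hNc c), ← twist_twist (hNc _) hbN, hbe,
          twist_twist, twist_congr _ (one_mem _) (by rw [← map_mul, inv_mul_cancel, map_one]),
          twist_one]
      have haH : (inr a : M ⋊[φ] A) ∈ H := mem_aStab.1 haS
      have hsH : (inr s : M ⋊[φ] A) ∉ H := fun h => hχ (by
        have := wRes_eq_one_of_forall_mem hcop hfix hQ
          (fun e => (hgen haR (aStab Q χ) haS h).ge (mem_top e)) ⟨_, hd⟩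
        rwa [wRes_eq_wVal] at this)
      have hcomm : Commute (inr s : M ⋊[φ] A) (inl c) := by
        show inr s * inl c = inl c * inr s
        conv_rhs => rw [← (show φ s c = c from hc), inl_apply, inv_mul_cancel_right]
      have hbR : Refl b := by
        rcases hA.cases b with rfl | rfl | rfl | h
        · exact absurd rfl hb1
        · refine absurd ?_ hsH
          rwa [map_inv, mul_assoc, hcomm.eq, inv_mul_cancel_left] at hbH
        · refine absurd ?_ hsH
          rw [map_mul, map_inv, mul_assoc, (hcomm.mul_left hcomm).eq, inv_mul_cancel_left] at hbH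
          have h' := inv_mem hbH
          rw [← map_mul, ← map_inv, inv_eq_of_mul_eq_one_left hA.s3] at h'
          exact h'
        · exact h
      have hcb : (inl c⁻¹ : M ⋊[φ] A) * inr b * inl c = inr b * inl (c * c) := by
        have h1 : (inl c⁻¹ : M ⋊[φ] A) = inr b * inl c * inr b := by
          rw [← (hinvC hbR c hc).1, inl_apply, ← map_inv, inv_eq_of_mul_eq_one_left hbR.1]
        rw [h1, mul_assoc (inr b * inl c), ← map_mul, hbR.1, map_one, mul_one, mul_assoc, ← map_mul]
      rw [hcb] at hbH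
      have hmem : (inr (a * b) : M ⋊[φ] A) * inl (c * c) ∈ H := by
        rw [map_mul inr, mul_assoc]
        exact mul_mem haH hbH
      have hcommab : Commute (inr (a * b) : M ⋊[φ] A) (inl (c * c)) ∧ (a * b) ^ 3 = 1 := by
        have hc2 : Commute (inr s : M ⋊[φ] A) (inl (c * c)) := by
          rw [map_mul]; exact hcomm.mul_right hcomm
        by_cases e : a = b
        · subst e
          rw [haR.1, map_one]
          exact ⟨Commute.one_left _, one_pow 3⟩
        rcases hA.pair a b haR hbR e with h | h <;> rw [h]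
        · exact ⟨hc2, hs3⟩
        · exact ⟨by rw [map_mul]; exact hc2.mul_left hc2, by
            rw [← sq, ← pow_mul, mul_comm, pow_mul, hs3, one_pow]⟩
      have hc6 := pow_mem hmem 3
      rw [hcommab.1.mul_pow, ← map_pow inr, hcommab.2, map_one, one_mul, ← map_pow inl] at hc6
      have hcH : (inl c : M ⋊[φ] A) ∈ H := by
        have h6 : ((c * c) ^ 3) = c ^ 6 := by rw [← sq, ← pow_mul]
        have hco : (6 : ℕ).Coprime (orderOf c) :=
          ((h2M.mul_left h3M).coprime_dvd_right (orderOf_dvd_natCard c))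
        obtain ⟨m, hm⟩ := exists_pow_eq_self_of_coprime (x := c) hco
        rw [← hm, map_pow, ← h6]
        exact pow_mem hc6 m
      have := apply_eq_of_mem_wStab hcH ⟨inl x, mem_map_of_mem _ hx⟩
        (by rw [← map_inv, ← map_mul, ← map_mul]; exact mem_map_of_mem _ hcx)
      rw [wVal_of_mem hx, wVal_of_mem hcx, ← this]
      congr 1
      exact Subtype.ext (by
        show inl c * inl x * (inl c)⁻¹ = inl (c * x * c⁻¹)
        rw [map_mul, map_mul, map_inv])
  -- `M` is nilpotent
  have hnil : Group.IsNilpotent M := by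
    refine isNilpotent_of_forall_centralizes hn₀ fun p _ => ?_
    obtain ⟨S, hSi⟩ := Coprime.exists_invariant_sylow_hom φ hcop (Or.inl hsAA) p
    refine ⟨S, fun q hq hqp => ?_⟩
    have hqF := Fact.mk hq
    set Q0 := pCore q M with hQ0
    have hQ0p : IsPGroup q Q0 := PCore.isPGroup_pCore
    have hQ0n : Q0.Normal := Components.pCore_normal' q
    have hQ0i : ∀ a, ∀ x ∈ Q0, φ a x ∈ Q0 := fun a x hx => by
      have h := PCore.map_pCore_mulEquiv (p := q) (φ a)
      rw [hQ0, ← h]
      exact mem_map_of_mem _ hx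
    by_cases hqr : q = r
    · subst hqr
      rw [show Q0 = ⊥ from hOr _ hQ0n hQ0i hQ0p]
      exact fun x _ => mem_centralizer_iff.2 fun y hy => by
        rw [SetLike.mem_coe, mem_bot] at hy
        rw [hy, one_mul, mul_one]
    have hQ0k : (Nat.card Q0 : k) ≠ 0 := by
      obtain ⟨e, he⟩ := hQ0p.exists_card_eq
      rw [he, Nat.cast_pow]
      refine pow_ne_zero _ fun h => hqr ?_
      exact ((Nat.prime_dvd_prime_iff_eq hr hq).1 ((CharP.cast_eq_zero_iff k r q).1 h)).symm
    have hQ0c := habel Q0 hQ0i hQ0p.isNilpotent hQ0k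
    have hCQ0 := hCcent Q0 hQ0c hQ0n hQ0i hQ0k
    have hSN : (S : Subgroup M) ≤ normalizer (Q0 : Set M) := by rw [normalizer_eq_top]; exact le_top
    have hcopS : ∀ {R : Subgroup M}, IsPGroup q R →
        (Nat.card (S : Subgroup M)).Coprime (Nat.card R) := by
      intro R hR
      obtain ⟨e, he⟩ := S.isPGroup'.exists_card_eq
      obtain ⟨f, hf⟩ := hR.exists_card_eq
      rw [he, hf]
      exact Nat.Coprime.pow e f ((Nat.coprime_primes Fact.out hq).2 (Ne.symm hqp))
    set Q1 := ⁅Q0, (S : Subgroup M)⁆ with hQ1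
    have hQ1le : Q1 ≤ Q0 := Coprime.commutator_le_left_of_le_normalizer hSN
    have hQ1i : ∀ a, ∀ x ∈ Q1, φ a x ∈ Q1 := fun a x hx => by
      have := mem_map_of_mem (φ a : M →* M) hx
      rwa [hQ1, map_commutator, map_eq_of_invariant φ hQ0i, map_eq_of_invariant φ hSi] at this
    have hSQ1 : (S : Subgroup M) ≤ normalizer (Q1 : Set M) := normalizer_commutator_ge_right Q0 S
    suffices hmain : (S : Subgroup M) ≤ centralizer (Q1 : Set M) from
      Coprime.le_centralizer_of_commutator_le_centralizer hSN (hcopS hQ0p)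
        (Or.inr (by have := hQ0p.isNilpotent; infer_instance)) hmain
    have hQ1p : IsPGroup q Q1 := hQ0p.to_le hQ1le
    have hQ1k := natCard_ne_zero_of_le hQ0k hQ1le
    have hQ1c : IsMulCommutative Q1 := ⟨⟨fun x y => Subtype.ext (congrArg Subtype.val
      (mul_comm' (⟨x, hQ1le x.2⟩ : Q0) ⟨y, hQ1le y.2⟩) :)⟩⟩
    have hCQ1 : C ≤ centralizer (Q1 : Set M) := hCQ0.trans (centralizer_le hQ1le)
    have hQ1S : Q1 ⊓ centralizer ((S : Subgroup M) : Set M) = ⊥ := by
      have := Coprime.inf_centralizer_inf_commutator_eq_bot hSN (hcopS hQ0p)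
      rwa [← hQ1, inf_assoc, inf_comm (centralizer _), ← inf_assoc, inf_eq_right.2 hQ1le] at this
    let γ : (S : Subgroup M) →* MulAut Q1 :=
      Q1.normalizerMonoidHom.comp (Subgroup.inclusion hSQ1)
    have hγ : ∀ (g : (S : Subgroup M)) (x : Q1), ((γ g x : Q1) : M) = g * x * (g : M)⁻¹ :=
      fun g x => rfl
    let _ : Fintype (S : Subgroup M) := Fintype.ofFinite _
    let γA := restrictAct φ Q1 hQ1i
    let ψS := restrictAct φ (S : Subgroup M) hSi
    have hequiv : ∀ (e : A) (g : (S : Subgroup M)), γA e * γ g * (γA e)⁻¹ = γ (ψS e g) := by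
      intro e g
      refine MulEquiv.ext fun x => Subtype.ext ?_
      show φ e ((g : M) * ((γA e)⁻¹ x : Q1) * (g : M)⁻¹) = φ e g * (x : M) * (φ e g)⁻¹
      have hx : φ e (((γA e)⁻¹ x : Q1) : M) = x :=
        congrArg Subtype.val ((γA e).apply_symm_apply x)
      rw [map_mul, map_mul, map_inv, hx]
    have hCγ : ∀ g : (S : Subgroup M), φ s g = g → γ g = 1 := by
      intro g hg
      refine MulEquiv.ext fun x => Subtype.ext ?_
      rw [hγ, MulAut.one_apply, ← mem_centralizer_iff.1 (hCQ1 (show (g : M) ∈ C from hg)) x x.2,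
        mul_inv_cancel_right]
    let φS : zpowers s →* MulAut (S : Subgroup M) := ψS.comp (zpowers s).subtype
    have hcopzS : ∀ R : Subgroup (S : Subgroup M),
        (Nat.card (zpowers s)).Coprime (Nat.card R) := fun R => by
      rw [Nat.card_zpowers, hos]
      exact h3M.coprime_dvd_right ((card_subgroup_dvd_card R).trans (card_subgroup_dvd_card _))
    -- an invariant subgroup containing all fixed points and the coset of `g` contains `g`
    have hlift : ∀ (T : Subgroup (S : Subgroup M)), (∀ e : zpowers s, ∀ g ∈ T, φS e g ∈ T) →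
        ∀ g, g⁻¹ * ψS s g ∈ T → ∃ n ∈ T, φ s ((g * n : (S : Subgroup M)) : M) = (g * n : (S : Subgroup M)) := by
      intro T hT g hg
      have hmem : (⟨s, mem_zpowers s⟩ : zpowers s) ∈ cosetStab φS T hT g := hg
      obtain ⟨n, hn, hnfix⟩ := Coprime.exists_fixed_mul_mem_hom φS hT (hcopzS T) (Or.inl hsA)
        (k := g) (by
          rintro ⟨_, i, rfl⟩
          exact zpow_mem hmem i)
      exact ⟨n, hn, congrArg Subtype.val (hnfix ⟨s, mem_zpowers s⟩)⟩
    -- `s` has no fixed point on `Q1`
    have hQ1s : ∀ x : Q1, γA s x = x → x = 1 := by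
      intro x hx
      by_contra hx1
      obtain ⟨χ, v, hv0, hv, hχ⟩ := exists_weight_ne_one ρ hQ1c hQ1k hfaith x.2
        (fun h => hx1 (Subtype.ext h))
      apply hχ
      set ξ := wRes Q1 χ
      show ξ x = 1
      have hxC : (x : M) ∈ C := congrArg Subtype.val hx
      -- reflections invert `x`
      have hrefl : ∀ {ψ : (Q1.map (inl : M →* M ⋊[φ] A)) →* k} {a}, Refl a → a ∈ aStab Q1 ψ →
          wRes Q1 ψ x = 1 := by
        intro ψ a ha haS
        have h1 := wRes_apply_act hQ1i (mem_aStab.1 haS) x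
        have h2 : restrictAct φ Q1 hQ1i a x = x⁻¹ := Subtype.ext (hinvC ha x hxC).1
        rw [h2] at h1
        have h3 : wRes Q1 ψ x ^ 2 = 1 := by
          rw [sq]
          nth_rw 1 [← h1]
          rw [← map_mul, inv_mul_cancel, map_one]
        exact eq_one_of_pow_eq_one_of_coprime _ x
          (h2M.coprime_dvd_right (card_subgroup_dvd_card Q1)) h3
      rcases key Q1 hQ1c hQ1i χ v hv0 hv ⟨x, x.2, by rw [← wRes_eq_wVal]; exact hχ⟩ with
        ⟨hsS, -⟩ | ⟨a, haR, haS, -⟩
      swap
      · exact hrefl haR haS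
      let T : Subgroup (S : Subgroup M) :=
        { carrier := {g | ∀ y : Q1, ξ (γ g y) = ξ y}
          one_mem' := fun y => by rw [map_one, MulAut.one_apply]
          mul_mem' := fun {g h} hg hh y => by rw [map_mul, MulAut.mul_apply, hg, hh]
          inv_mem' := fun {g} hg y => by
            rw [← hg (γ g⁻¹ y), ← MulAut.mul_apply, ← map_mul, mul_inv_cancel, map_one,
              MulAut.one_apply] }
      have hξs : ∀ e ∈ zpowers s, ∀ y : Q1, ξ (γA e y) = ξ y := fun e he y =>
        wRes_apply_act hQ1i (mem_aStab.1 ((zpowers_le.2 hsS) he)) y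
      have hTi : ∀ e : zpowers s, ∀ g ∈ T, φS e g ∈ T := by
        intro e g hg y
        show ξ (γ (ψS (e : A) g) y) = ξ y
        rw [← hequiv, MulAut.mul_apply, MulAut.mul_apply, hξs _ e.2, hg,
          ← map_inv, hξs _ (inv_mem e.2)]
      -- the translates
      have hnormS : ∀ g ∈ (S : Subgroup M), (inl g : M ⋊[φ] A) ∈
          normalizer ((Q1.map inl : Subgroup (M ⋊[φ] A)) : Set (M ⋊[φ] A)) := fun g hg =>
        le_normalizer_map inl (mem_map_of_mem _ (hSQ1 hg))
      have hval : ∀ g : (S : Subgroup M), ξ (γ g x) = if g ∈ T then ξ x else 1 := by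
        intro g
        by_cases hg : g ∈ T
        · rw [if_pos hg, hg]
        rw [if_neg hg]
        set χg := twist k (Q1.map inl) (inl (g : M)⁻¹) (hnormS _ (inv_mem g.2)) χ
        have hχg : ∀ y : Q1, wRes Q1 χg y = ξ (γ g y) := fun y => by
          simp only [χg, ξ, wRes_apply, twist_apply]
          congr 1
          refine Subtype.ext ?_
          show (inl (g : M)⁻¹)⁻¹ * inl (y : M) * inl (g : M)⁻¹ = (inl ((γ g y : Q1) : M) : M ⋊[φ] A)
          rw [hγ, map_mul, map_mul, map_inv (inl : M →* M ⋊[φ] A) (g : M), inv_inv]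
        have hv' := mapsTo_weightSpace ρ (hnormS _ (inv_mem g.2)) hv
        have hv'0 : ρ (inl (g : M)⁻¹) v ≠ 0 := fun h => hv0 (by
          have := congrArg (ρ (inl (g : M))) h
          rwa [← apply_mul, ← map_mul, mul_inv_cancel, map_one, apply_one, map_zero] at this)
        obtain ⟨⟨b, hb⟩, hb1⟩ :=
          Subgroup.ne_bot_iff_exists_ne_one.1 (aStab_ne_bot ρ hQ1i hv' hv'0 (hsum _))
        rw [← hχg]
        have hno : s ∉ aStab Q1 χg := by
          intro hs'
          apply hg
          have hu : g⁻¹⁻¹ * ψS s g⁻¹ ∈ T := by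
            intro y
            -- translate by `g` and use that `s` fixes both weights
            have h1 : ∀ z : Q1, ξ (γ (ψS s g) z) = ξ (γ g z) := by
              intro z
              rw [← hequiv, MulAut.mul_apply, MulAut.mul_apply, hξs _ (mem_zpowers s), ← hχg,
                ← map_inv, ← hχg]
              exact wRes_apply_act hQ1i (mem_aStab.1 (inv_mem hs')) z
            rw [inv_inv, map_inv, map_mul, MulAut.mul_apply, ← h1, ← MulAut.mul_apply, ← map_mul,
              mul_inv_cancel, map_one, MulAut.one_apply]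
          obtain ⟨n, hn, hfixn⟩ := hlift T hTi g⁻¹ hu
          have h2 : g⁻¹ * n ∈ T := fun y => by rw [hCγ _ hfixn, MulAut.one_apply]
          exact inv_mem_iff.1 ((T.mul_mem_cancel_right hn).1 h2)
        rcases hA.cases b with rfl | rfl | rfl | h
        · exact absurd rfl hb1
        · exact absurd hb hno
        · exact absurd (by
            have := inv_mem hb
            rwa [inv_eq_of_mul_eq_one_left hA.s3] at this) hno
        · exact hrefl h hb
      have hprod : ∏ g : (S : Subgroup M), γ g x = 1 := by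
        have : ((∏ g : (S : Subgroup M), γ g x : Q1) : M) ∈
            Q1 ⊓ centralizer ((S : Subgroup M) : Set M) := by
          refine ⟨(∏ g : (S : Subgroup M), γ g x).2, mem_centralizer_iff.2 fun h hh => ?_⟩
          have hinv : γ ⟨h, hh⟩ (∏ g : (S : Subgroup M), γ g x) =
              ∏ g : (S : Subgroup M), γ g x := by
            rw [map_prod]
            exact Fintype.prod_equiv (Equiv.mulLeft (⟨h, hh⟩ : (S : Subgroup M))) _ _ fun g => by
              show γ (⟨h, hh⟩ : (S : Subgroup M)) (γ g x) =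
                γ ((⟨h, hh⟩ : (S : Subgroup M)) * g) x
              rw [map_mul, MulAut.mul_apply]
          exact mul_inv_eq_iff_eq_mul.1
            ((hγ ⟨h, hh⟩ _).symm.trans (congrArg Subtype.val hinv))
        rw [hQ1S, mem_bot] at this
        exact Subtype.ext this
      have h := congrArg ξ hprod
      rw [map_prod, map_one] at h
      simp only [hval, Finset.prod_ite, Finset.prod_const, one_pow, mul_one] at h
      refine eq_one_of_pow_eq_one_of_coprime ξ x ?_ h
      refine (hcopS hQ1p).coprime_dvd_left ?_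
      rw [← Fintype.card_subtype, ← Nat.card_eq_fintype_card]
      exact card_subgroup_dvd_card T
    -- so `S` acts trivially on `Q1`
    have hker : ∀ e : zpowers s, ∀ g ∈ γ.ker, φS e g ∈ γ.ker := by
      intro e g hg
      rw [MonoidHom.mem_ker] at hg ⊢
      show γ (ψS (e : A) g) = 1
      rw [← hequiv, hg, mul_one, mul_inv_cancel]
    have h1 := hom_eq_one_of_fpf (MonoidHom.id (MulAut Q1)) Nat.prime_three (a := γA s)
      (by rw [← map_pow, hs3, map_one]) (S := γ.range)
      (by rintro _ ⟨g, rfl⟩; exact ⟨ψS s g, (hequiv s g).symm⟩)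
      (by
        rintro _ ⟨g, rfl⟩ hg
        rw [hequiv] at hg
        obtain ⟨n, hn, hfixn⟩ := hlift γ.ker hker g (by
          rw [MonoidHom.mem_ker, map_mul, map_inv, hg, inv_mul_cancel])
        have h2 := hCγ _ hfixn
        rwa [map_mul, MonoidHom.mem_ker.1 hn, mul_one] at h2)
      hQ1s
      (by
        refine ((hcopS hQ1p)).coprime_dvd_left ?_
        exact card_range_dvd γ)
    intro g hg
    refine mem_centralizer_iff.2 fun x hx => ?_
    have h2 := congrArg Subtype.val (DFunLike.congr_fun (h1 (γ ⟨g, hg⟩) ⟨_, rfl⟩) (⟨x, hx⟩ : Q1))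
    exact (mul_inv_eq_iff_eq_mul.1 h2).symm
  refine ⟨1, rfl, lowerCentralSeries_one_eq_bot_iff.2 ?_⟩
  have hk := natCard_fittingSubgroup_ne_zero (φ := φ) (k := k) hr hOr
  rw [Components.fittingSubgroup_eq_top_iff.2 hnil] at hk
  have := habel ⊤ (fun _ _ _ => mem_top _) inferInstance hk
  exact ⟨⟨fun x y => congrArg Subtype.val (mul_comm' (⟨x, mem_top x⟩ : (⊤ : Subgroup M))
    ⟨y, mem_top y⟩)⟩⟩

end Cfsg.Agent.FittingHeight
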