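import Cfsg.Agent.Lib.FittingHeight.WeightValues
import Cfsg.Agent.Lib.FittingHeight.SymThree

/-!
# Tools for a nonabelian group of order `pq` without fixed points

The facts about the group, the averaging lemma and the product of translates of a weight.
-/

namespace Cfsg.Agent.FittingHeight

open Subgroup SemidirectProduct
open scoped commutatorElement IsMulCommutative

/-- The facts about a nonabelian group of order `p q`, `B` its normal subgroup of order `q`. -/
structure IsFrobPQ {A : Type*} [Group A] (B : Subgroup A) (b : A) (p q : ℕ) : Prop where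
  hp : p.Prime
  hq : q.Prime
  hlt : p < q
  dvd : p ∣ q - 1
  cardA : Nat.card A = p * q
  hB : B = zpowers b
  normal : B.Normal
  ob : orderOf b = q
  pow_p : ∀ a, a ∉ B → a ^ p = 1
  gen : ∀ a, a ∉ B → ∀ c ∈ B, c ≠ 1 → ∀ H : Subgroup A, a ∈ H → c ∈ H → H = ⊤
  gen2 : ∀ a, a ∉ B → ∀ a', a' ∉ zpowers a → a' ∉ B → ∀ H : Subgroup A, a ∈ H → a' ∈ H → H = ⊤
  conj_notMem : ∀ a, a ∉ B → ∀ c ∈ B, c ≠ 1 → c * a * c⁻¹ ∉ zpowers a

theorem exists_isFrobPQ {A : Type*} [Group A] [Finite A] {p q : ℕ} (hp : p.Prime) (hq : q.Prime)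
    (hlt : p < q) (hA : Nat.card A = p * q) (hAna : ¬ IsMulCommutative A) :
    ∃ (B : Subgroup A) (b : A), IsFrobPQ B b p q := by
  have hqF := Fact.mk hq
  have hpF := Fact.mk hp
  obtain ⟨b, hb⟩ := exists_prime_orderOf_dvd_card' (G := A) q (hA ▸ dvd_mul_left q p)
  set B := zpowers b with hB
  have hBc : Nat.card B = q := by rw [hB, Nat.card_zpowers, hb]
  have hBi : B.index = p := by
    have := B.card_mul_index
    rw [hBc, hA, mul_comm p q] at this
    exact Nat.eq_of_mul_eq_mul_left hq.pos this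
  have hBn : B.Normal := normal_of_index_eq_minFac_card (by
    rw [hBi, hA]
    refine le_antisymm ?_ (Nat.minFac_le_of_dvd hp.two_le (dvd_mul_right p q))
    obtain h | h := (Nat.Prime.dvd_mul (Nat.minFac_prime (n := p * q) (by
      intro h; exact hp.ne_one (Nat.eq_one_of_mul_eq_one_right h)))).1 (Nat.minFac_dvd (p * q))
    · exact ((Nat.prime_dvd_prime_iff_eq (Nat.minFac_prime (by
        intro h'; exact hp.ne_one (Nat.eq_one_of_mul_eq_one_right h'))) hp).1 h).ge
    · exact hlt.le.trans ((Nat.prime_dvd_prime_iff_eq (Nat.minFac_prime (by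
        intro h'; exact hp.ne_one (Nat.eq_one_of_mul_eq_one_right h'))) hq).1 h).ge)
  have hpq : p.Coprime q := (Nat.coprime_primes hp hq).2 hlt.ne
  have hdiv : ∀ d, d ∣ p * q → d = 1 ∨ d = p ∨ d = q ∨ d = p * q := by
    intro d hd
    obtain ⟨a, c, ha, hc, rfl⟩ := Nat.dvd_mul.1 hd
    rcases (Nat.dvd_prime hp).1 ha with rfl | rfl <;> rcases (Nat.dvd_prime hq).1 hc with rfl | rfl <;>
      simp
  have hnc : ¬ IsCyclic A := fun hc => hAna ⟨⟨fun x y => by
    obtain ⟨g, hg⟩ := hc.exists_generator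
    obtain ⟨i, rfl⟩ := hg x
    obtain ⟨j, rfl⟩ := hg y
    show g ^ i * g ^ j = g ^ j * g ^ i
    rw [← zpow_add, ← zpow_add, add_comm]⟩⟩
  have hpow : ∀ a, a ∉ B → a ^ p = 1 := by
    intro a ha
    have hord := hdiv _ (hA ▸ orderOf_dvd_natCard a)
    rcases hord with h | h | h | h
    · exact absurd (orderOf_eq_one_iff.1 h ▸ one_mem B) ha
    · rw [← h]; exact pow_orderOf_eq_one a
    · refine absurd ?_ ha
      have h1 : a ^ B.index ∈ B := by
        have := B.pow_index_mem a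
        exact this
      rw [hBi] at h1
      obtain ⟨m, hm⟩ := exists_pow_eq_self_of_coprime (x := a) (n := p) (h ▸ hpq)
      exact hm ▸ pow_mem h1 m
    · exact absurd (isCyclic_of_orderOf_eq_card a (by rw [h, hA])) hnc
  have hdvdH : ∀ {H : Subgroup A} {c : A}, c ∈ B → c ≠ 1 → c ∈ H → q ∣ Nat.card H := by
    intro H c hc hc1 hcH
    have h1 : orderOf c ∣ q := hBc ▸ (B.orderOf_dvd_natCard hc)
    rcases (Nat.dvd_prime hq).1 h1 with h | h
    · exact absurd (orderOf_eq_one_iff.1 h) hc1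
    · exact h ▸ H.orderOf_dvd_natCard hcH
  have hdvdp : ∀ {H : Subgroup A} {a : A}, a ∉ B → a ∈ H → p ∣ Nat.card H := fun {H a} ha haH => by
    have h := orderOf_eq_prime (hpow a ha) fun h => ha (h ▸ one_mem B)
    exact h ▸ H.orderOf_dvd_natCard haH
  have hgen : ∀ a, a ∉ B → ∀ c ∈ B, c ≠ 1 → ∀ H : Subgroup A, a ∈ H → c ∈ H → H = ⊤ :=
    fun a ha c hc hc1 H haH hcH => eq_top_of_card_eq H (le_antisymm
      (Nat.le_of_dvd Nat.card_pos (card_subgroup_dvd_card H))
      (Nat.le_of_dvd Nat.card_pos (hA ▸ hpq.mul_dvd_of_dvd_of_dvd (hdvdp ha haH)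
        (hdvdH hc hc1 hcH))))
  have hconj : ∀ a, a ∉ B → ∀ c ∈ B, c ≠ 1 → c * a * c⁻¹ ∉ zpowers a := by
    intro a ha c hc hc1 hmem
    -- the commutator lies in both
    have h1 : c * a * c⁻¹ * a⁻¹ ∈ zpowers a := mul_mem hmem (inv_mem (mem_zpowers a))
    have h2 : c * a * c⁻¹ * a⁻¹ ∈ B := by
      rw [show c * a * c⁻¹ * a⁻¹ = c * (a * c⁻¹ * a⁻¹) by group]
      exact mul_mem hc (hBn.conj_mem _ (inv_mem hc) a)
    have h3 : c * a * c⁻¹ * a⁻¹ = 1 := by
      refine orderOf_eq_one_iff.1 (Nat.eq_one_of_dvd_coprimes hpq ?_ (hBc ▸ B.orderOf_dvd_natCard h2))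
      have := (zpowers a).orderOf_dvd_natCard h1
      rw [Nat.card_zpowers, orderOf_eq_prime (hpow a ha) fun h => ha (h ▸ one_mem B)] at this
      exact this
    have hcm : Commute c a := mul_inv_eq_iff_eq_mul.1 (mul_inv_eq_one.1 h3)
    have h4 := hpow (a * c) fun h => ha (by
      have := mul_mem h (inv_mem hc)
      rwa [mul_inv_cancel_right] at this)
    rw [hcm.symm.mul_pow, hpow a ha, one_mul] at h4
    exact hc1 (orderOf_eq_one_iff.1 (Nat.eq_one_of_dvd_coprimes hpq (orderOf_dvd_of_pow_eq_one h4)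
      (hBc ▸ B.orderOf_dvd_natCard hc)))
  refine ⟨B, b, hp, hq, hlt, ?_, hA, rfl, hBn, hb, hpow, hgen, ?_, hconj⟩
  · -- the number of Sylow `p`-subgroups
    obtain ⟨P⟩ := (inferInstance : Nonempty (Sylow p A))
    have hmod := card_sylow_modEq_one p A
    have hdvd : Nat.card (Sylow p A) ∣ q := by
      have h1 := P.card_dvd_index
      have hP : Nat.card (P : Subgroup A) = p := by
        rw [P.card_eq_multiplicity, hA, Nat.factorization_mul hp.ne_zero hq.ne_zero,
          Finsupp.add_apply, hp.factorization_self, hq.factorization,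
          Finsupp.single_eq_of_ne hlt.ne, add_zero, pow_one]
      have := (P : Subgroup A).card_mul_index
      rw [hP, hA] at this
      rwa [Nat.eq_of_mul_eq_mul_left hp.pos this] at h1
    rcases (Nat.dvd_prime hq).1 hdvd with h | h
    · exfalso
      obtain ⟨a, ha⟩ : ∃ a, a ∉ B := by
        by_contra hh
        push Not at hh
        exact hp.ne_one (hBi ▸ index_eq_one.2 (top_le_iff.1 fun x _ => hh x))
      have hz : IsPGroup p (zpowers a) := IsPGroup.of_card (n := 1) (by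
        rw [Nat.card_zpowers, pow_one,
          orderOf_eq_prime (hpow a ha) fun h => ha (h ▸ one_mem B)])
      obtain ⟨P1, hP1⟩ := hz.exists_le_sylow
      have hsub : Subsingleton (Sylow p A) := (Nat.card_eq_one_iff_unique.1 h).1
      have hz2 : IsPGroup p (zpowers (b * a * b⁻¹)) := IsPGroup.of_card (n := 1) (by
        rw [Nat.card_zpowers, pow_one, ← MulAut.conj_apply,
          MulEquiv.orderOf_eq, orderOf_eq_prime (hpow a ha) fun h => ha (h ▸ one_mem B)])
      obtain ⟨P2, hP2⟩ := hz2.exists_le_sylow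
      rw [Subsingleton.elim P2 P1] at hP2
      have hcard : Nat.card (P1 : Subgroup A) = p := by
        rw [P1.card_eq_multiplicity, hA, Nat.factorization_mul hp.ne_zero hq.ne_zero,
          Finsupp.add_apply, hp.factorization_self, hq.factorization,
          Finsupp.single_eq_of_ne hlt.ne, add_zero, pow_one]
      have heq : zpowers a = (P1 : Subgroup A) := eq_of_le_of_card_ge hP1 (by
        rw [hcard, Nat.card_zpowers, orderOf_eq_prime (hpow a ha) fun h => ha (h ▸ one_mem B)])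
      exact hconj a ha b (mem_zpowers b) (fun h => hq.ne_one (by rw [← hb, h, orderOf_one]))
        (heq ▸ hP2 (mem_zpowers _))
    · rw [h] at hmod
      exact (Nat.modEq_iff_dvd' hq.one_le).1 hmod.symm
  · intro a ha a' ha'z ha'B H haH ha'H
    refine eq_top_of_card_eq H ?_
    rcases hdiv _ (hA ▸ card_subgroup_dvd_card H) with h | h | h | h
    · exact absurd ((card_eq_one.1 h ▸ haH : a ∈ (⊥ : Subgroup A))) fun h' =>
        ha (mem_bot.1 h' ▸ one_mem B)
    · refine absurd ?_ ha'z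
      rwa [eq_of_le_of_card_ge (zpowers_le.2 haH) (by
        rw [h, Nat.card_zpowers, orderOf_eq_prime (hpow a ha) fun h => ha (h ▸ one_mem B)])]
    · exact absurd (Nat.dvd_trans (hdvdp ha haH) h.dvd) fun h' =>
        hlt.ne ((Nat.prime_dvd_prime_iff_eq hp hq).1 h')
    · rw [h, hA]

namespace IsFrobPQ

variable {A : Type*} [Group A] {B : Subgroup A} {b : A} {p q : ℕ} (hA : IsFrobPQ B b p q)
include hA

theorem b_mem : b ∈ B := hA.hB.ge (mem_zpowers b)

theorem b_ne_one : b ≠ 1 := fun h => hA.hq.ne_one (by rw [← hA.ob, h, orderOf_one])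

theorem eq_zpowers {c : A} (hc : c ∈ B) (hc1 : c ≠ 1) : B = zpowers c := by
  have hfin : Finite B := by
    rw [hA.hB]
    exact finite_zpowers.2 (orderOf_pos_iff.1 (hA.ob ▸ hA.hq.pos))
  have hcard : Nat.card B = q := by rw [hA.hB, Nat.card_zpowers, hA.ob]
  refine (eq_of_le_of_card_ge (zpowers_le.2 hc) ?_).symm
  rw [Nat.card_zpowers, hcard]
  rcases (Nat.dvd_prime hA.hq).1 (hcard ▸ B.orderOf_dvd_natCard hc) with h | h
  · exact absurd (orderOf_eq_one_iff.1 h) hc1
  · exact h.ge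

theorem isSolvable : Group.IsSolvable A := by
  have := hA.normal
  refine Group.isSolvable_of_ker_le_range B.subtype (QuotientGroup.mk' B)
    (by rw [QuotientGroup.ker_mk', range_subtype])
    (hG' := Group.isSolvable_of_comm fun x y => ?_) (hG'' := ?_)
  · have hx : (x : A) ∈ zpowers b := hA.hB.le x.2
    have hy : (y : A) ∈ zpowers b := hA.hB.le y.2
    exact Subtype.ext (congrArg Subtype.val (mul_comm' (⟨x, hx⟩ : zpowers b) ⟨y, hy⟩) :)
  · have hfin : Finite A := Nat.finite_of_card_ne_zero (by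
      rw [hA.cardA]; exact Nat.mul_ne_zero hA.hp.ne_zero hA.hq.ne_zero)
    have hidx : Nat.card (A ⧸ B) = p := by
      have := B.card_mul_index
      rw [show Nat.card B = q by rw [hA.hB, Nat.card_zpowers, hA.ob], hA.cardA, mul_comm p q] at this
      exact Nat.eq_of_mul_eq_mul_left hA.hq.pos this
    have := Fact.mk hA.hp
    have hc := isCyclic_of_prime_card (α := A ⧸ B) hidx
    refine Group.isSolvable_of_comm fun x y => ?_
    obtain ⟨g, hg⟩ := hc.exists_generator
    obtain ⟨i, rfl⟩ := hg x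
    obtain ⟨j, rfl⟩ := hg y
    show g ^ i * g ^ j = g ^ j * g ^ i
    rw [← zpow_add, ← zpow_add, add_comm]

end IsFrobPQ

variable {M : Type*} [Group M]

/-- Translates of a character fixed by subgroups any of which generates `S` with the first. -/
theorem eq_one_of_translates {k : Type*} [Field k] [Finite M] {ι : Type*} [Fintype ι]
    [DecidableEq ι] {Q S : Subgroup M} (hSQ : S ≤ normalizer (Q : Set M)) (hQS : ⁅Q, S⁆ = Q)
    (hcop : (Nat.card S).Coprime (Nat.card Q)) (f : ι → M → k) (hf1 : ∀ i, f i 1 = 1)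
    (hfmul : ∀ i, ∀ x ∈ Q, ∀ y ∈ Q, f i (x * y) = f i x * f i y)
    (hprod : ∀ x ∈ Q, ∏ i, f i x = 1) (T : ι → Subgroup M) (hTS : ∀ i, T i ≤ S)
    (hTn : ∀ i, ∀ t ∈ T i, ∀ g ∈ S, g * t * g⁻¹ ∈ T i)
    (hfix : ∀ i, ∀ t ∈ T i, ∀ x ∈ Q, f i (t * x * t⁻¹) = f i x) (i₀ : ι)
    (hsup : ∀ i, i ≠ i₀ → S ≤ T i₀ ⊔ T i) : ∀ x ∈ Q, f i₀ x = 1 := by
  classical
  let _ : Fintype (T i₀) := Fintype.ofFinite _
  have hQc : ∀ g ∈ S, ∀ x ∈ Q, g * x * g⁻¹ ∈ Q := fun g hg x hx =>
    (mem_normalizer_iff.1 (hSQ hg) x).1 hx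
  let η : ι → M → k := fun i x => ∏ t : T i₀, f i ((t : M) * x * (t : M)⁻¹)
  have hη1 : ∀ i, i ≠ i₀ → ∀ x ∈ Q, η i x = 1 := by
    intro i hi
    let Fix : Subgroup M :=
      { carrier := {u | u ∈ normalizer (Q : Set M) ∧ ∀ x ∈ Q, η i (u * x * u⁻¹) = η i x}
        one_mem' := ⟨one_mem _, fun x _ => by simp⟩
        mul_mem' := fun {u v} hu hv => ⟨mul_mem hu.1 hv.1, fun x hx => by
          rw [show u * v * x * (u * v)⁻¹ = u * (v * x * v⁻¹) * u⁻¹ by group,
            hu.2 _ ((mem_normalizer_iff.1 hv.1 x).1 hx), hv.2 x hx]⟩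
        inv_mem' := fun {u} hu => ⟨inv_mem hu.1, fun x hx => by
          have hx' := (mem_normalizer_iff.1 (inv_mem hu.1) x).1 hx
          rw [← hu.2 _ hx']
          congr 1
          group⟩ }
    have h0 : T i₀ ≤ Fix := fun u hu => ⟨hSQ (hTS _ hu), fun x _ => by
      refine Fintype.prod_equiv (Equiv.mulRight (⟨u, hu⟩ : T i₀)) _ _ fun t => ?_
      show f i ((t : M) * (u * x * u⁻¹) * (t : M)⁻¹) = f i ((t : M) * u * x * ((t : M) * u)⁻¹)
      congr 1
      group⟩
    have h1 : T i ≤ Fix := fun u hu => ⟨hSQ (hTS _ hu), fun x hx => by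
      refine Finset.prod_congr rfl fun t _ => ?_
      rw [show (t : M) * (u * x * u⁻¹) * (t : M)⁻¹ =
        ((t : M) * u * (t : M)⁻¹) * ((t : M) * x * (t : M)⁻¹) * ((t : M) * u * (t : M)⁻¹)⁻¹ by group]
      exact hfix i _ (hTn i u hu t (hTS _ t.2)) _ (hQc t (hTS _ t.2) x hx)⟩
    have hS : S ≤ Fix := (hsup i hi).trans (sup_le h0 h1)
    have hηmul : ∀ x ∈ Q, ∀ y ∈ Q, η i (x * y) = η i x * η i y := fun x hx y hy => by
      simp only [η, ← Finset.prod_mul_distrib]
      refine Finset.prod_congr rfl fun t _ => ?_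
      rw [← hfmul i _ (hQc t (hTS _ t.2) x hx) _ (hQc t (hTS _ t.2) y hy)]
      congr 1
      group
    have hη1' : η i 1 = 1 := by
      simp only [η, mul_one, mul_inv_cancel, hf1, Finset.prod_const_one]
    let Ker : Subgroup M :=
      { carrier := {x | x ∈ Q ∧ η i x = 1}
        one_mem' := ⟨one_mem Q, hη1'⟩
        mul_mem' := fun hx hy => ⟨mul_mem hx.1 hy.1, by
          rw [hηmul _ hx.1 _ hy.1, hx.2, hy.2, mul_one]⟩
        inv_mem' := fun {x} hx => ⟨inv_mem hx.1, by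
          have := hηmul x hx.1 x⁻¹ (inv_mem hx.1)
          rwa [mul_inv_cancel, hη1', hx.2, one_mul, eq_comm] at this⟩ }
    have hle : Q ≤ Ker := by
      intro y hy
      rw [← hQS] at hy
      refine (Subgroup.commutator_le.2 fun x hx g hg => ?_ : ⁅Q, S⁆ ≤ Ker) hy
      have hgx := hQc g hg x⁻¹ (inv_mem hx)
      rw [commutatorElement_def, show x * g * x⁻¹ * g⁻¹ = x * (g * x⁻¹ * g⁻¹) by group]
      refine ⟨mul_mem hx hgx, ?_⟩
      rw [hηmul x hx _ hgx, (hS hg).2 x⁻¹ (inv_mem hx), ← hηmul x hx x⁻¹ (inv_mem hx),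
        mul_inv_cancel, hη1']
    exact fun x hx => (hle hx).2
  intro x hx
  have hall : η i₀ x = 1 := by
    have hp : ∏ i, η i x = 1 := by
      show ∏ i, ∏ t : T i₀, f i ((t : M) * x * (t : M)⁻¹) = 1
      rw [Finset.prod_comm]
      exact Finset.prod_eq_one fun t _ => hprod _ (hQc t (hTS _ t.2) x hx)
    rwa [Finset.prod_eq_single i₀ (fun i _ hi => hη1 i hi x hx)
      (fun h => absurd (Finset.mem_univ i₀) h)] at hp
  simp only [η, fun t : T i₀ => hfix i₀ t t.2 x hx, Finset.prod_const, Finset.card_univ] at hall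
  let ξ : Q →* k :=
    { toFun := fun y => f i₀ y
      map_one' := hf1 i₀
      map_mul' := fun y z => hfmul i₀ y y.2 z z.2 }
  refine eq_one_of_pow_eq_one_of_coprime ξ ⟨x, hx⟩ ?_ hall
  rw [← Nat.card_eq_fintype_card]
  exact hcop.coprime_dvd_left (card_dvd_of_le (hTS i₀))

variable {A : Type*} [Group A] {φ : A →* MulAut M}

/-- `S` is generated by `T` and a translate of `T` when `T` contains the commutators with `a`. -/
theorem le_sup_map_of_commutators [Finite M] [Finite A] {B : Subgroup A} {b : A} {p q : ℕ}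
    (hA : IsFrobPQ B b p q) (hcop : (Nat.card A).Coprime (Nat.card M))
    (hfix : Coprime.fixedBy φ = ⊥) {S T : Subgroup M} (hS : ∀ e, ∀ x ∈ S, φ e x ∈ S) (hTS : T ≤ S)
    {a : A} (ha : a ∉ B) (hT : ∀ g ∈ S, g⁻¹ * φ a g ∈ T) {c : A} (hc : c ∈ B) (hc1 : c ≠ 1) :
    S ≤ T ⊔ T.map (φ c : M →* M) := by
  set U := T ⊔ T.map (φ c : M →* M) with hU
  have hUS : U ≤ S := sup_le hTS (by rintro _ ⟨t, ht, rfl⟩; exact hS c t (hTS ht))
  have hU1 : ∀ g ∈ S, g⁻¹ * φ a g ∈ U := fun g hg => mem_sup_left (hT g hg)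
  have hU2 : ∀ g ∈ S, g⁻¹ * φ (c * a * c⁻¹) g ∈ U := by
    intro g hg
    refine mem_sup_right ⟨(φ c⁻¹ g)⁻¹ * φ a (φ c⁻¹ g), hT _ (hS _ g hg), ?_⟩
    show φ c ((φ c⁻¹ g)⁻¹ * φ a (φ c⁻¹ g)) = _
    have hcc : φ c (φ c⁻¹ g) = g := by
      rw [← MulAut.mul_apply, ← map_mul, mul_inv_cancel, map_one, MulAut.one_apply]
    rw [map_mul, map_inv, hcc, map_mul φ, map_mul φ, MulAut.mul_apply, MulAut.mul_apply]
  have hinv : ∀ e, ∀ x ∈ U, φ e x ∈ U := by
    let Stab : Subgroup A :=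
      { carrier := {e | (∀ x ∈ U, φ e x ∈ U) ∧ ∀ x ∈ U, φ e⁻¹ x ∈ U}
        one_mem' := ⟨fun x hx => by rwa [map_one, MulAut.one_apply],
          fun x hx => by rwa [inv_one, map_one, MulAut.one_apply]⟩
        mul_mem' := fun {e f} he hf => ⟨fun x hx => by
            rw [map_mul, MulAut.mul_apply]; exact he.1 _ (hf.1 x hx),
          fun x hx => by rw [mul_inv_rev, map_mul, MulAut.mul_apply]; exact hf.2 _ (he.2 x hx)⟩
        inv_mem' := fun {e} he => ⟨he.2, fun x hx => by rw [inv_inv]; exact he.1 x hx⟩ }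
    have hmem : ∀ {e}, (∀ g ∈ S, g⁻¹ * φ e g ∈ U) → e ∈ Stab := by
      intro e he
      have h1 : ∀ x ∈ U, φ e x ∈ U := fun x hx => by
        have := U.mul_mem hx (he x (hUS hx))
        rwa [mul_inv_cancel_left] at this
      refine ⟨h1, fun x hx => ?_⟩
      have := U.mul_mem hx (inv_mem (he (φ e⁻¹ x) (hS _ x (hUS hx))))
      rwa [mul_inv_rev, inv_inv, ← MulAut.mul_apply, ← map_mul, mul_inv_cancel, map_one,
        MulAut.one_apply, mul_inv_cancel_left] at this
    have htop := hA.gen2 a ha (c * a * c⁻¹) (hA.conj_notMem a ha c hc hc1) (fun h => ha (by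
      have := hA.normal.conj_mem _ h c⁻¹
      rwa [show c⁻¹ * (c * a * c⁻¹) * c⁻¹⁻¹ = a by group] at this)) Stab (hmem hU1) (hmem hU2)
    exact fun e => (htop.ge (mem_top e)).1
  intro g hg
  have htop := hA.gen2 a ha (c * a * c⁻¹) (hA.conj_notMem a ha c hc hc1) (fun h => ha (by
    have := hA.normal.conj_mem _ h c⁻¹
    rwa [show c⁻¹ * (c * a * c⁻¹) * c⁻¹⁻¹ = a by group] at this))
    (cosetStab φ U hinv g) (hU1 g hg) (hU2 g hg)
  obtain ⟨n, hn, hnfix⟩ := Coprime.exists_fixed_mul_mem_hom φ hinv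
    (hcop.coprime_dvd_right (card_subgroup_dvd_card U)) (Or.inl hA.isSolvable) (k := g)
    (fun e => htop.ge (mem_top e))
  rw [hfix, mem_bot, mul_eq_one_iff_eq_inv] at hnfix
  exact hnfix ▸ inv_mem hn

variable {k : Type*} [Field k]

/-- The product of the `B`-translates of a weight fixed by some element outside `B` is trivial. -/
theorem prod_translates_eq_one [Finite M] [Finite A] {B : Subgroup A} {b : A} {p q : ℕ}
    (hA : IsFrobPQ B b p q) (hcop : (Nat.card A).Coprime (Nat.card M))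
    (hfix : Coprime.fixedBy φ = ⊥) {Q : Subgroup M} [IsMulCommutative Q]
    (hQ : ∀ e, ∀ x ∈ Q, φ e x ∈ Q) {χ : (Q.map (inl : M →* M ⋊[φ] A)) →* k} {a : A} (ha : a ∉ B)
    (haS : a ∈ aStab Q χ) {x : M} (hx : x ∈ Q) :
    ∏ i : Fin q, wVal Q χ (φ (b ^ (i : ℕ)) x) = 1 := by
  let γ := restrictAct φ Q hQ
  set n := ∏ i : Fin q, γ (b ^ (i : ℕ)) ⟨x, hx⟩ with hn
  have hb : γ b n = n := by
    rw [hn, map_prod]
    simp only [← MulAut.mul_apply, ← map_mul, ← pow_succ']
    rw [Fin.prod_univ_eq_prod_range (fun i => γ (b ^ (i + 1)) ⟨x, hx⟩) q,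
      Fin.prod_univ_eq_prod_range (fun i => γ (b ^ i) ⟨x, hx⟩) q]
    obtain ⟨m, hm⟩ : ∃ m, q = m + 1 := ⟨q - 1, by have := hA.hq.pos; omega⟩
    have hbq : b ^ (m + 1) = 1 := hm ▸ hA.ob ▸ pow_orderOf_eq_one b
    rw [hm, Finset.prod_range_succ, Finset.prod_range_succ' (fun i => γ (b ^ i) ⟨x, hx⟩), pow_zero,
      hbq]
  have hB : ∀ c ∈ B, γ c n = n := fun c hc =>
    (zpowers_le.2 (show b ∈ (MulAction.stabilizer (MulAut Q) n).comap γ from hb)) (hA.hB.le hc)
  set n' := ∏ j : Fin p, γ (a ^ (j : ℕ)) n with hn'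
  have ha' : γ a n' = n' := by
    rw [hn', map_prod]
    simp only [← MulAut.mul_apply, ← map_mul, ← pow_succ']
    rw [Fin.prod_univ_eq_prod_range (fun i => γ (a ^ (i + 1)) n) p,
      Fin.prod_univ_eq_prod_range (fun i => γ (a ^ i) n) p]
    obtain ⟨m, hm⟩ : ∃ m, p = m + 1 := ⟨p - 1, by have := hA.hp.pos; omega⟩
    have hap : a ^ (m + 1) = 1 := hm ▸ hA.pow_p a ha
    rw [hm, Finset.prod_range_succ, Finset.prod_range_succ' (fun i => γ (a ^ i) n), pow_zero, hap]
  have hb' : γ b n' = n' := by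
    rw [hn', map_prod]
    refine Finset.prod_congr rfl fun j _ => ?_
    have hc := hA.normal.conj_mem b hA.b_mem (a ^ (j : ℕ))⁻¹
    rw [← MulAut.mul_apply, ← map_mul,
      show b * a ^ (j : ℕ) = a ^ (j : ℕ) * ((a ^ (j : ℕ))⁻¹ * b * (a ^ (j : ℕ))⁻¹⁻¹) by group,
      map_mul, MulAut.mul_apply, hB _ hc]
  have hn1 : n' = 1 := by
    have htop := hA.gen a ha b hA.b_mem hA.b_ne_one
      ((MulAction.stabilizer (MulAut Q) n').comap γ) ha' hb'
    have : (n' : M) ∈ Coprime.fixedBy φ := fun e =>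
      congrArg Subtype.val (htop.ge (mem_top e) : γ e n' = n')
    rw [hfix, mem_bot] at this
    exact Subtype.ext this
  have hξ : ∀ j : ℕ, wRes Q χ (γ (a ^ j) n) = wRes Q χ n := fun j =>
    wRes_apply_act hQ (mem_aStab.1 (pow_mem haS j)) n
  have h2 : wRes Q χ n ^ p = 1 := by
    have h := congrArg (wRes Q χ) hn1
    rw [hn', map_prod, map_one, Finset.prod_congr rfl fun j _ => hξ _, Finset.prod_const,
      Finset.card_univ, Fintype.card_fin] at h
    exact h
  have h3 := eq_one_of_pow_eq_one_of_coprime (wRes Q χ) n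
    ((hcop.coprime_dvd_left (hA.cardA ▸ dvd_mul_right p q)).coprime_dvd_right
      (card_subgroup_dvd_card Q)) h2
  rw [hn, map_prod] at h3
  rw [← h3]
  refine Finset.prod_congr rfl fun i _ => ?_
  rw [wRes_eq_wVal]
  rfl

end Cfsg.Agent.FittingHeight
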