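import Cfsg.Agent.Lib.FittingHeight.PlaneCentralizer

/-!
# The symplectic space of a pairing on a finite group
-/

set_option autoImplicit false

namespace Cfsg.Agent.FittingHeight

open Subgroup
open scoped commutatorElement

/-- An alternating bimultiplicative pairing with values in the `q`-th roots of unity. -/
structure QPairing (Q : Type*) [Group Q] (k : Type*) [Field k] (q : ℕ) where
  /-- the values -/
  toFun : Q → Q → rootsOfUnity q k
  mul_left : ∀ x x' y, toFun (x * x') y = toFun x y * toFun x' y
  mul_right : ∀ x y y', toFun x (y * y') = toFun x y * toFun x y'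
  self : ∀ x, toFun x x = 1

namespace QPairing

variable {Q : Type*} [Group Q] {k : Type*} [Field k] {q : ℕ} [Fact q.Prime] (P : QPairing Q k q)

theorem map_one_left (y : Q) : P.toFun 1 y = 1 := by
  have h := P.mul_left 1 1 y
  rw [one_mul] at h
  exact mul_eq_left.1 h.symm

theorem map_one_right (x : Q) : P.toFun x 1 = 1 := by
  have h := P.mul_right x 1 1
  rw [one_mul] at h
  exact mul_eq_left.1 h.symm

theorem map_inv_right (x y : Q) : P.toFun x y⁻¹ = (P.toFun x y)⁻¹ := by
  refine eq_inv_of_mul_eq_one_left ?_
  rw [← P.mul_right, inv_mul_cancel, P.map_one_right]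

theorem skew (x y : Q) : P.toFun x y * P.toFun y x = 1 := by
  have h := P.self (x * y)
  rwa [P.mul_left, P.mul_right, P.mul_right, P.self, P.self, one_mul, mul_one] at h

theorem map_pow_right (x y : Q) (n : ℕ) : P.toFun x (y ^ n) = P.toFun x y ^ n := by
  induction n with
  | zero => rw [pow_zero, pow_zero, P.map_one_right]
  | succ n ih => rw [pow_succ, pow_succ, P.mul_right, ih]

/-- The radical. -/
def rad : Subgroup Q where
  carrier := {x | ∀ y, P.toFun y x = 1}
  one_mem' := P.map_one_right
  mul_mem' := fun {a b} ha hb y => by rw [P.mul_right, ha y, hb y, mul_one]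
  inv_mem' := fun {a} ha y => by rw [P.map_inv_right, ha y, inv_one]

theorem mem_rad {x : Q} : x ∈ P.rad ↔ ∀ y, P.toFun y x = 1 := Iff.rfl

theorem toFun_of_mem_rad {x : Q} (hx : x ∈ P.rad) (y : Q) : P.toFun x y = 1 := by
  have h := P.skew x y
  rwa [hx y, mul_one] at h

instance rad_normal : P.rad.Normal := ⟨fun x hx g y => by
  rw [P.mul_right, P.mul_right, hx y, mul_one, ← P.mul_right, mul_inv_cancel, P.map_one_right]⟩

theorem pow_mem_rad (x : Q) : x ^ q ∈ P.rad := fun y => by
  rw [P.map_pow_right]
  exact Subtype.ext ((mem_rootsOfUnity _ _).1 (P.toFun y x).2)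

instance quot_commGroup : CommGroup (Q ⧸ P.rad) :=
  { (inferInstance : Group (Q ⧸ P.rad)) with
    mul_comm := fun a b => by
      induction a using QuotientGroup.induction_on with | _ a => ?_
      induction b using QuotientGroup.induction_on with | _ b => ?_
      rw [← QuotientGroup.mk_mul, ← QuotientGroup.mk_mul, QuotientGroup.eq]
      intro y
      rw [P.mul_right, P.map_inv_right, P.mul_right, P.mul_right, mul_comm (P.toFun y a),
        inv_mul_cancel] }

/-- The space. -/
abbrev Space : Type _ := Additive (Q ⧸ P.rad)

instance space_module : Module (ZMod q) P.Space :=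
  AddCommGroup.zmodModule fun x => by
    induction x using Additive.rec with | _ x => ?_
    induction x using QuotientGroup.induction_on with | _ x => ?_
    rw [← ofMul_pow, ← QuotientGroup.mk_pow, (QuotientGroup.eq_one_iff _).2 (P.pow_mem_rad x)]
    rfl

/-- The class of an element. -/
def cls (x : Q) : P.Space := Additive.ofMul (x : Q ⧸ P.rad)

theorem cls_surjective : Function.Surjective P.cls := fun v => by
  induction v using Additive.rec with | _ v => ?_
  induction v using QuotientGroup.induction_on with | _ x => ?_
  exact ⟨x, rfl⟩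

theorem cls_mul (x y : Q) : P.cls (x * y) = P.cls x + P.cls y := rfl

theorem cls_inv (x : Q) : P.cls x⁻¹ = -P.cls x := rfl

theorem cls_eq_zero {x : Q} : P.cls x = 0 ↔ x ∈ P.rad := QuotientGroup.eq_one_iff x

theorem congr_of_cls {x x' : Q} (h : P.cls x = P.cls x') (y : Q) :
    P.toFun x y = P.toFun x' y ∧ P.toFun y x = P.toFun y x' := by
  have hm : x⁻¹ * x' ∈ P.rad := QuotientGroup.eq.1 h
  have e : x' = x * (x⁻¹ * x') := (mul_inv_cancel_left x x').symm
  constructor
  · rw [e, P.mul_left, P.toFun_of_mem_rad hm, mul_one]
  · rw [e, P.mul_right, hm y, mul_one]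

/-- The values, written additively. -/
def val (x y : Q) : Additive (rootsOfUnity q k) := Additive.ofMul (P.toFun x y)

/-- The form. -/
noncomputable def form : P.Space →+ P.Space →+ Additive (rootsOfUnity q k) :=
  AddMonoidHom.mk' (fun v => AddMonoidHom.mk' (fun w =>
    P.val (Function.surjInv P.cls_surjective v) (Function.surjInv P.cls_surjective w))
    fun w w' => by
      show P.val _ _ = P.val _ _ + P.val _ _
      refine congrArg Additive.ofMul (Eq.trans ?_ (P.mul_right _ _ _))
      exact (P.congr_of_cls (by
        rw [P.cls_mul, Function.surjInv_eq P.cls_surjective, Function.surjInv_eq P.cls_surjective,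
          Function.surjInv_eq P.cls_surjective]) _).2)
    fun v v' => AddMonoidHom.ext fun w => by
      show P.val _ _ = P.val _ _ + P.val _ _
      refine congrArg Additive.ofMul (Eq.trans ?_ (P.mul_left _ _ _))
      exact (P.congr_of_cls (by
        rw [P.cls_mul, Function.surjInv_eq P.cls_surjective, Function.surjInv_eq P.cls_surjective,
          Function.surjInv_eq P.cls_surjective]) _).1

theorem form_cls (x y : Q) : P.form (P.cls x) (P.cls y) = P.val x y :=
  congrArg Additive.ofMul ((P.congr_of_cls (Function.surjInv_eq P.cls_surjective _) _).1.trans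
    (P.congr_of_cls (Function.surjInv_eq P.cls_surjective _) _).2)

theorem form_self (v : P.Space) : P.form v v = 0 := by
  obtain ⟨x, rfl⟩ := P.cls_surjective v
  rw [form_cls]
  exact congrArg Additive.ofMul (P.self x)

theorem form_nondeg (v : P.Space) (h : ∀ w, P.form w v = 0) : v = 0 := by
  obtain ⟨x, rfl⟩ := P.cls_surjective v
  refine P.cls_eq_zero.2 fun y => ?_
  have := h (P.cls y)
  rw [form_cls] at this
  exact this

theorem no_two_torsion (hq : q ≠ 2) (c : Additive (rootsOfUnity q k)) (h : c + c = 0) : c = 0 := by
  have h1 : c.toMul ^ 2 = 1 := by rw [pow_two]; exact h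
  have h2 : c.toMul ^ q = 1 := Subtype.ext ((mem_rootsOfUnity _ _).1 c.toMul.2)
  exact orderOf_eq_one_iff.1 (Nat.eq_one_of_dvd_coprimes
    ((Nat.coprime_primes Nat.prime_two Fact.out).2 (Ne.symm hq))
    (orderOf_dvd_of_pow_eq_one h1) (orderOf_dvd_of_pow_eq_one h2))

/-- The automorphisms preserving the pairing. -/
def isoSub : Subgroup (MulAut Q) where
  carrier := {g | ∀ x y, P.toFun (g x) (g y) = P.toFun x y}
  one_mem' := fun _ _ => rfl
  mul_mem' := fun {g h} hg hh x y => by rw [MulAut.mul_apply, MulAut.mul_apply, hg, hh]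
  inv_mem' := fun {g} hg x y => by
    conv_rhs => rw [← MulAut.apply_inv_self Q g x, ← MulAut.apply_inv_self Q g y, hg]

/-- The induced operator. -/
noncomputable def endo (g : P.isoSub) : Module.End (ZMod q) P.Space :=
  (AddMonoidHom.mk' (fun v => P.cls ((g : MulAut Q) (Function.surjInv P.cls_surjective v))) fun v w => by
    rw [← P.cls_mul, ← map_mul]
    refine QuotientGroup.eq.2 fun y => ?_
    obtain ⟨y, rfl⟩ := (g : MulAut Q).surjective y
    rw [← map_inv, ← map_mul, g.2]
    exact QuotientGroup.eq.1 (show P.cls (Function.surjInv P.cls_surjective (v + w)) =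
      P.cls (Function.surjInv P.cls_surjective v * Function.surjInv P.cls_surjective w) by
        rw [P.cls_mul, Function.surjInv_eq P.cls_surjective, Function.surjInv_eq P.cls_surjective,
          Function.surjInv_eq P.cls_surjective]) y).toZModLinearMap q

theorem endo_cls (g : P.isoSub) (x : Q) : P.endo g (P.cls x) = P.cls ((g : MulAut Q) x) := by
  show P.cls _ = P.cls _
  refine QuotientGroup.eq.2 fun y => ?_
  obtain ⟨y, rfl⟩ := (g : MulAut Q).surjective y
  rw [← map_inv, ← map_mul, g.2]
  exact QuotientGroup.eq.1 (Function.surjInv_eq P.cls_surjective (P.cls x)) y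

/-- The action on the space. -/
noncomputable def act : P.isoSub →* (Module.End (ZMod q) P.Space)ˣ :=
  MonoidHom.toHomUnits
    { toFun := P.endo
      map_one' := LinearMap.ext fun v => by
        obtain ⟨x, rfl⟩ := P.cls_surjective v
        rw [endo_cls]; rfl
      map_mul' := fun g h => LinearMap.ext fun v => by
        obtain ⟨x, rfl⟩ := P.cls_surjective v
        rw [Module.End.mul_apply, endo_cls, endo_cls, endo_cls]; rfl }

theorem act_cls (g : P.isoSub) (x : Q) :
    (P.act g : Module.End (ZMod q) P.Space) (P.cls x) = P.cls ((g : MulAut Q) x) := P.endo_cls g x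

theorem act_iso (g : P.isoSub) : Plane.Iso P.form (P.act g) := fun v w => by
  obtain ⟨x, rfl⟩ := P.cls_surjective v
  obtain ⟨y, rfl⟩ := P.cls_surjective w
  rw [act_cls, act_cls, form_cls, form_cls]
  exact congrArg Additive.ofMul (g.2 x y)

theorem card_space : Nat.card P.Space = P.rad.index := rfl

end QPairing

end Cfsg.Agent.FittingHeight
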