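import Mathlib

/-!
# An operator of two-power order with a two-dimensional commutator space

`V` is a symplectic space over `𝔽_q`, `y` an isometry with `t = y ^ 2 ^ (d-1)` an involution whose
negated space `T` has order `q ^ 2`, where `q + 1 = 2 ^ d`. An odd `ℓ`-group of isometries, `ℓ ≠ q`,
normalised by `y` is centralised by `t`.
-/

set_option autoImplicit false

namespace Cfsg.Agent.FittingHeight.Plane

open Subgroup
open scoped commutatorElement

section Algebra

variable {q : ℕ} [Fact q.Prime] {A : Type*} [Ring A] [Algebra (ZMod q) A] [Nontrivial A]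

theorem smul_one_pow_card (c : ZMod q) : (c • (1 : A)) ^ q = c • 1 := by
  rw [smul_pow, one_pow, ZMod.pow_card]

theorem smul_one_inj {a b : ZMod q} (h : a • (1 : A) = b • 1) : a = b :=
  smul_left_injective (ZMod q) (one_ne_zero (α := A)) h

theorem two_ne_zero' (hq : q ≠ 2) : (2 : ZMod q) ≠ 0 := by
  intro h
  rw [show (2 : ZMod q) = ((2 : ℕ) : ZMod q) by norm_num, ZMod.natCast_eq_zero_iff] at h
  · exact hq ((Nat.prime_dvd_prime_iff_eq Fact.out Nat.prime_two).1 h)

theorem neg_one_ne_one' (hq : q ≠ 2) : (-1 : A) ≠ 1 := by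
  intro h
  refine two_ne_zero' hq (smul_one_inj (A := A) (b := 0) ?_)
  rw [zero_smul, show (2 : ZMod q) = 1 + 1 by norm_num, add_smul, one_smul]
  nth_rw 1 [← h]
  exact neg_add_cancel 1

/-- Two units with the same scalar trace and scalar product of differences. -/
theorem flip_or_scalar (hq : q ≠ 2) {g g' : Aˣ} (hcomm : Commute (g : A) g') {c d : ZMod q}
    (hc : (g : A) + (g⁻¹ : Aˣ) = c • 1) (hc' : (g' : A) + (g'⁻¹ : Aˣ) = c • 1)
    (hd : ((g : A) - (g⁻¹ : Aˣ)) * ((g' : A) - (g'⁻¹ : Aˣ)) = d • 1) :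
    g' = g ∨ g' = g⁻¹ ∨ ∃ s : ZMod q, (g : A) ^ q = s • 1 := by
  haveI : CharP A q := charP_of_injective_algebraMap (algebraMap (ZMod q) A).injective q
  haveI : ExpChar A q := ExpChar.prime Fact.out
  set e : A := (g : A) - (g⁻¹ : Aˣ) with he
  set e' : A := (g' : A) - (g'⁻¹ : Aˣ) with he'
  set δ := c * c - 4 with hδ
  have hsq : ∀ u : Aˣ, (u : A) + (u⁻¹ : Aˣ) = c • 1 →
      ((u : A) - (u⁻¹ : Aˣ)) * ((u : A) - (u⁻¹ : Aˣ)) = δ • 1 := by
    intro u hu
    have h1 : ((u : A) - (u⁻¹ : Aˣ)) * ((u : A) - (u⁻¹ : Aˣ)) =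
        ((u : A) + (u⁻¹ : Aˣ)) * ((u : A) + (u⁻¹ : Aˣ)) - 4 := by
      simp only [sub_mul, mul_sub, add_mul, mul_add, Units.mul_inv, Units.inv_mul]
      rw [show (4 : A) = 1 + 1 + (1 + 1) by norm_num]
      abel
    rw [h1, hu, hδ, sub_smul, smul_mul_smul_comm, one_mul, show (4 : A) = (4 : ZMod q) • 1 by
      rw [Algebra.smul_def, mul_one, map_ofNat]]
  have hge : ∀ u : Aˣ, (u : A) + (u⁻¹ : Aˣ) = c • 1 →
      (2 : ZMod q) • (u : A) = c • 1 + ((u : A) - (u⁻¹ : Aˣ)) := by
    intro u hu
    rw [show (2 : ZMod q) = 1 + 1 by norm_num, add_smul, one_smul, ← hu]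
    abel
  by_cases hδ0 : δ = 0
  · refine Or.inr (Or.inr ⟨(2 : ZMod q)⁻¹ * c, ?_⟩)
    have he2 : e * e = 0 := by rw [he, hsq g hc, hδ0, zero_smul]
    have heq : e ^ q = 0 := by
      have h2 : 2 ≤ q := (Fact.out : q.Prime).two_le
      rw [show q = 2 + (q - 2) by omega, pow_add, pow_two, he2, zero_mul]
    have h := congrArg (· ^ q) (hge g hc)
    simp only [smul_pow, ZMod.pow_card] at h
    rw [add_pow_expChar_of_commute q ((Commute.one_left _).smul_left c), smul_one_pow_card, heq,
      add_zero] at h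
    rw [mul_smul, ← h, inv_smul_smul₀ (two_ne_zero' hq)]
  have hgg : Commute e e' := by
    have h1 : Commute (g : A) (g'⁻¹ : Aˣ) := hcomm.units_inv_right
    exact ((hcomm.sub_right h1).sub_left (hcomm.units_inv_left.sub_right h1.units_inv_left))
  have hdd : d * d = δ * δ := by
    refine smul_one_inj (A := A) ?_
    rw [show (d * d) • (1 : A) = (d • (1 : A)) * (d • 1) by rw [smul_mul_smul_comm, one_mul], ← hd,
      hgg.symm.mul_mul_mul_comm, hsq g hc, hsq g' hc', smul_mul_smul_comm, one_mul]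
  have hee : δ • e' = d • e := by
    calc δ • e' = (δ • (1 : A)) * e' := by rw [smul_mul_assoc, one_mul]
      _ = e * (e * e') := by rw [← hsq g hc, mul_assoc]
      _ = d • e := by rw [hd, mul_smul_comm, mul_one]
  have h2u : Function.Injective fun x : A => (2 : ZMod q) • x := by
    intro a b hab
    have := congrArg (fun x => (2 : ZMod q)⁻¹ • x) hab
    simpa [smul_smul, inv_mul_cancel₀ (two_ne_zero' (q := q) hq)] using this
  rcases mul_self_eq_mul_self_iff.1 hdd with rfl | rfl
  · left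
    refine Units.ext (h2u ?_)
    have : e' = e := by
      have := congrArg (fun x => δ⁻¹ • x) hee
      simpa [smul_smul, inv_mul_cancel₀ hδ0] using this
    show (2 : ZMod q) • (g' : A) = (2 : ZMod q) • (g : A)
    rw [hge g hc, hge g' hc']
    exact congrArg _ this
  · right; left
    refine Units.ext (h2u ?_)
    have : e' = -e := by
      have := congrArg (fun x => δ⁻¹ • x) hee
      simpa [smul_smul, inv_mul_cancel₀ hδ0] using this
    show (2 : ZMod q) • (g' : A) = (2 : ZMod q) • ((g⁻¹ : Aˣ) : A)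
    rw [hge g⁻¹ (by rw [inv_inv, add_comm]; exact hc), hge g' hc', inv_inv]
    refine congrArg _ (this.trans ?_)
    rw [he, neg_sub]

end Algebra

section Space

variable {q : ℕ} [Fact q.Prime] {V : Type*} [AddCommGroup V] [Module (ZMod q) V] [Finite V]
  {C : Type*} [AddCommGroup C] (β : V →+ V →+ C)

/-- `a` and `b` are adjoint. -/
def Adj (a b : Module.End (ZMod q) V) : Prop := ∀ x v, β (a x) v = β x (b v)

/-- `g` is an isometry. -/
def Iso (g : (Module.End (ZMod q) V)ˣ) : Prop :=
  ∀ x v, β ((g : Module.End (ZMod q) V) x) ((g : Module.End (ZMod q) V) v) = β x v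

theorem map_smul_zmod {W W' : Type*} [AddCommGroup W] [Module (ZMod q) W] [AddCommGroup W']
    (f : W →+ W') (c : ZMod q) (x : W) : f (c • x) = c.val • f x := by
  conv_lhs => rw [← ZMod.natCast_rightInverse c, Nat.cast_smul_eq_nsmul]
  exact map_nsmul f _ _

theorem Adj.one : Adj β (1 : Module.End (ZMod q) V) 1 := fun _ _ => rfl

theorem Adj.smul_one (c : ZMod q) : Adj β (c • (1 : Module.End (ZMod q) V)) (c • 1) := fun x v => by
  show β (c • x) v = β x (c • v)
  rw [map_smul_zmod (β x), ← AddMonoidHom.flip_apply, map_smul_zmod, AddMonoidHom.flip_apply]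

variable {β}

theorem Adj.add {a b a' b' : Module.End (ZMod q) V} (h : Adj β a b) (h' : Adj β a' b') :
    Adj β (a + a') (b + b') := fun x v => by
  simp only [LinearMap.add_apply, map_add, AddMonoidHom.add_apply, h x v, h' x v]

theorem Adj.sub {a b a' b' : Module.End (ZMod q) V} (h : Adj β a b) (h' : Adj β a' b') :
    Adj β (a - a') (b - b') := fun x v => by
  simp only [LinearMap.sub_apply, map_sub, AddMonoidHom.sub_apply, h x v, h' x v]

theorem Adj.mul {a b a' b' : Module.End (ZMod q) V} (h : Adj β a b) (h' : Adj β a' b') :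
    Adj β (a * a') (b' * b) := fun x v => by
  simp only [Module.End.mul_apply, h (a' x) v, h' x (b v)]

theorem Iso.adj {g : (Module.End (ZMod q) V)ˣ} (h : Iso β g) : Adj β (g : Module.End (ZMod q) V) (g⁻¹ :
    (Module.End (ZMod q) V)ˣ) := fun x v => by
  conv_rhs => rw [← h]
  rw [← Module.End.mul_apply, Units.mul_inv, Module.End.one_apply]

theorem Iso.mul {g g' : (Module.End (ZMod q) V)ˣ} (h : Iso β g) (h' : Iso β g') : Iso β (g * g') :=
  fun x v => by simp only [Units.val_mul, Module.End.mul_apply]; rw [h, h']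

theorem Iso.inv {g : (Module.End (ZMod q) V)ˣ} (h : Iso β g) : Iso β g⁻¹ := fun x v => by
  rw [← h]
  simp only [← Module.End.mul_apply, Units.mul_inv, Module.End.one_apply]

theorem Iso.pow {g : (Module.End (ZMod q) V)ˣ} (h : Iso β g) : ∀ n : ℕ, Iso β (g ^ n)
  | 0 => fun _ _ => rfl
  | n + 1 => by rw [pow_succ]; exact (Iso.pow h n).mul h

theorem Adj.unique (hnd : ∀ x, (∀ v, β v x = 0) → x = 0) {a b b' : Module.End (ZMod q) V}
    (h : Adj β a b) (h' : Adj β a b') : b = b' := by
  refine LinearMap.ext fun v => sub_eq_zero.1 (hnd _ fun x => ?_)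
  rw [map_sub, ← h, ← h', sub_self]

omit [Finite V] in
theorem skew (halt : ∀ x, β x x = 0) (x v : V) : β v x = -β x v := by
  have := halt (x + v)
  simp only [map_add, AddMonoidHom.add_apply, halt, zero_add, add_zero] at this
  exact eq_neg_of_add_eq_zero_left this

/-- A scalar isometry squares to one. -/
theorem Iso.mul_self_of_scalar (hnd : ∀ x, (∀ v, β v x = 0) → x = 0)
    {g : (Module.End (ZMod q) V)ˣ} (h : Iso β g) {s : ZMod q}
    (hs : (g : Module.End (ZMod q) V) = s • 1) : g * g = 1 := by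
  have h1 := Adj.unique hnd h.adj (show Adj β (g : Module.End (ZMod q) V) (s • 1) by
    rw [hs]; exact Adj.smul_one β s)
  have : g⁻¹ = g := Units.ext (h1.trans hs.symm)
  nth_rw 2 [← this]
  exact mul_inv_cancel g

omit [Finite V] in
theorem finrank_eq_two [Module.Finite (ZMod q) V] (hcard : Nat.card V = q ^ 2) :
    Module.finrank (ZMod q) V = 2 := by
  have h := Module.natCard_eq_pow_finrank (K := ZMod q) (V := V)
  rw [Nat.card_zmod, hcard] at h
  exact (Nat.pow_right_injective (Fact.out : q.Prime).two_le h).symm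

theorem span_pair_eq_top (hcard : Nat.card V = q ^ 2) {x v : V}
    (hx : x ≠ 0) (hv : v ∉ Submodule.span (ZMod q) ({x} : Set V)) :
    Submodule.span (ZMod q) ({x, v} : Set V) = ⊤ := by
  refine Submodule.eq_top_of_finrank_eq (le_antisymm (Submodule.finrank_le _) ?_)
  rw [finrank_eq_two hcard]
  have hlt : Submodule.span (ZMod q) ({x} : Set V) < Submodule.span (ZMod q) ({x, v} : Set V) :=
    lt_of_le_of_ne (Submodule.span_mono (by simp)) fun e => hv (e ▸ Submodule.subset_span (by simp))
  have := Submodule.finrank_lt_finrank_of_lt hlt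
  rw [finrank_span_singleton hx] at this
  omega

/-- An operator with every vector an eigenvector is scalar. -/
theorem scalar_of_eigen (hcard : Nat.card V = q ^ 2) (a : Module.End (ZMod q) V)
    (h : ∀ x, a x ∈ Submodule.span (ZMod q) ({x} : Set V)) : ∃ c : ZMod q, a = c • 1 := by
  haveI : Nontrivial V := Finite.one_lt_card_iff_nontrivial.1 (by
    rw [hcard]; exact Nat.one_lt_pow two_ne_zero (Fact.out : q.Prime).one_lt)
  obtain ⟨x, hx⟩ := exists_ne (0 : V)
  obtain ⟨v, hv⟩ : ∃ v, v ∉ Submodule.span (ZMod q) ({x} : Set V) := by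
    by_contra hall
    push Not at hall
    have := finrank_eq_two hcard
    rw [← finrank_top, ← (Submodule.eq_top_iff'.2 hall), finrank_span_singleton hx] at this
    omega
  obtain ⟨c, hc⟩ := Submodule.mem_span_singleton.1 (h x)
  obtain ⟨c', hc'⟩ := Submodule.mem_span_singleton.1 (h v)
  obtain ⟨c'', hc''⟩ := Submodule.mem_span_singleton.1 (h (x + v))
  rw [map_add, ← hc, ← hc'] at hc''
  have e1 : (c'' - c') • v = (c - c'') • x := by
    rw [sub_smul, sub_smul]
    rw [smul_add] at hc''
    linear_combination (norm := abel) hc''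
  have hcc : c'' = c' := by
    by_contra hne
    refine hv (Submodule.mem_span_singleton.2 ⟨(c'' - c')⁻¹ * (c - c''), ?_⟩)
    rw [mul_smul, ← e1, inv_smul_smul₀ (sub_ne_zero.2 hne)]
  have hcx : c = c'' := by
    rw [hcc, sub_self, zero_smul, eq_comm, smul_eq_zero] at e1
    rw [hcc]
    exact sub_eq_zero.1 (e1.resolve_right hx)
  refine ⟨c, LinearMap.ext_on (span_pair_eq_top hcard hx hv) fun z hz => ?_⟩
  rcases hz with rfl | hz
  · exact hc.symm
  · rw [Set.mem_singleton_iff] at hz
    subst hz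
    rw [← hc', hcx, hcc]; rfl

variable (halt : ∀ x, β x x = 0) (hnd : ∀ x, (∀ v, β v x = 0) → x = 0)
  (h2 : ∀ c : C, c + c = 0 → c = 0)

include halt hnd h2

/-- A self-adjoint operator of a plane is scalar. -/
theorem scalar_of_symm (hcard : Nat.card V = q ^ 2) (a : Module.End (ZMod q) V) (h : Adj β a a) :
    ∃ c : ZMod q, a = c • 1 := by
  refine scalar_of_eigen hcard a fun x => ?_
  by_cases hx : x = 0
  · rw [hx, map_zero]; exact Submodule.zero_mem _
  let P : Submodule (ZMod q) V :=
    { carrier := {v | β x v = 0}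
      zero_mem' := map_zero (β x)
      add_mem' := fun {v w} hv hw => by
        show β x (v + w) = 0
        rw [map_add, hv, hw, add_zero]
      smul_mem' := fun c v hv => by
        show β x (c • v) = 0
        rw [map_smul_zmod (β x), hv, smul_zero] }
  have hax : a x ∈ P := by
    refine h2 _ ?_
    have h1 := h x x
    rw [skew halt x (a x)] at h1
    exact eq_neg_iff_add_eq_zero.1 h1.symm
  have hle : Submodule.span (ZMod q) ({x} : Set V) ≤ P :=
    (Submodule.span_singleton_le_iff_mem _ _).2 (halt x)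
  have hPtop : P < ⊤ := lt_top_iff_ne_top.2 fun e => hx (hnd x fun v => by
    have : v ∈ P := e ▸ Submodule.mem_top
    rw [skew halt x v, show β x v = 0 from this, neg_zero])
  have h1 := Submodule.finrank_lt_finrank_of_lt hPtop
  rw [finrank_top, finrank_eq_two hcard] at h1
  rw [Submodule.eq_of_le_of_finrank_le hle (by rw [finrank_span_singleton hx]; omega)]
  exact hax

/-- On a plane an abelian group of isometries of order prime to `2 q` normalised by `y` is trivial. -/
theorem plane_trivial (hcard : Nat.card V = q ^ 2) (hq : q ≠ 2) {d : ℕ} (hd : 2 ≤ d)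
    (hqd : q + 1 = 2 ^ d) {y : (Module.End (ZMod q) V)ˣ} (hyi : Iso β y)
    (hy : ((y : Module.End (ZMod q) V)) ^ 2 ^ (d - 1) = -1) (K : Subgroup (Module.End (ZMod q) V)ˣ)
    (hKi : ∀ g ∈ K, Iso β g) (hKc : ∀ a ∈ K, ∀ b ∈ K, a * b = b * a)
    (hyK : ∀ g ∈ K, y * g * y⁻¹ ∈ K) (hcop : (Nat.card K).Coprime (2 * q)) : K = ⊥ := by
  haveI : Nontrivial V := Finite.one_lt_card_iff_nontrivial.1 (by
    rw [hcard]; exact Nat.one_lt_pow two_ne_zero (Fact.out : q.Prime).one_lt)
  haveI : CharP (Module.End (ZMod q) V) q :=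
    charP_of_injective_algebraMap (algebraMap (ZMod q) (Module.End (ZMod q) V)).injective q
  haveI : ExpChar (Module.End (ZMod q) V) q := ExpChar.prime Fact.out
  have hcq : (Nat.card K).Coprime q := hcop.coprime_dvd_right (dvd_mul_left q 2)
  have hc2 : (Nat.card K).Coprime 2 := hcop.coprime_dvd_right (dvd_mul_right 2 q)
  have hone : ∀ g ∈ K, ∀ n, g ^ n = 1 → (Nat.card K).Coprime n → g = 1 := fun g hg n hn hco => by
    have h := Nat.eq_one_of_dvd_coprimes hco (Subgroup.orderOf_dvd_natCard K hg)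
      (orderOf_dvd_of_pow_eq_one hn)
    exact orderOf_eq_one_iff.1 h
  rw [Subgroup.eq_bot_iff_forall]
  intro z hz
  obtain ⟨c, hc⟩ := scalar_of_symm halt hnd h2 hcard _ (by
    have h1 := (hKi z hz).adj
    have h2' := (hKi z hz).inv.adj
    rw [inv_inv] at h2'
    have := h1.add h2'
    rwa [add_comm ((z⁻¹ : (Module.End (ZMod q) V)ˣ) : Module.End (ZMod q) V)] at this)
  have hzz : (z : Module.End (ZMod q) V) * z = c • (z : Module.End (ZMod q) V) - 1 := by
    have := congrArg (· * (z : Module.End (ZMod q) V)) hc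
    simp only [add_mul, Units.inv_mul, smul_mul_assoc, one_mul] at this
    exact eq_sub_of_add_eq this
  rcases eq_or_ne d 2 with rfl | hd3
  · -- `q = 3`
    obtain rfl : q = 3 := by norm_num at hqd; omega
    have h12 : (Nat.card K).Coprime 12 := by
      have := Nat.Coprime.mul_right hc2 hcop
      simpa using this
    refine hone z hz 12 (Units.ext ?_) h12
    rw [Units.val_pow_eq_pow_val, Units.val_one]
    set Z := (z : Module.End (ZMod 3) V)
    obtain rfl | rfl | rfl : c = 0 ∨ c = 1 ∨ c = -1 :=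
      (fun c => by fin_cases c <;> first | exact Or.inl rfl | exact Or.inr (Or.inl rfl) | exact Or.inr (Or.inr rfl) : ∀ c : ZMod 3, c = 0 ∨ c = 1 ∨ c = -1) c
    · rw [zero_smul, zero_sub] at hzz
      calc Z ^ 12 = (Z * Z) ^ 6 := by rw [← pow_two, ← pow_mul]
        _ = 1 := by rw [hzz]; exact Even.neg_one_pow (by decide)
    · rw [one_smul] at hzz
      have : Z * Z * Z = -1 := by rw [hzz, sub_mul, one_mul, hzz]; abel
      calc Z ^ 12 = (Z * Z * Z) ^ 4 := by
            rw [show Z * Z * Z = Z ^ 3 by rw [pow_succ, pow_two], ← pow_mul]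
        _ = 1 := by rw [this]; exact Even.neg_one_pow (by decide)
    · rw [neg_smul, one_smul] at hzz
      have : Z * Z * Z = 1 := by rw [hzz, sub_mul, one_mul, neg_mul, hzz]; abel
      calc Z ^ 12 = (Z * Z * Z) ^ 4 := by
            rw [show Z * Z * Z = Z ^ 3 by rw [pow_succ, pow_two], ← pow_mul]
        _ = 1 := by rw [this, one_pow]
  -- `y²` centralises `z`
  set z' := y * z * y⁻¹ with hz'def
  have hz' : z' ∈ K := hyK z hz
  have hc' : (z' : Module.End (ZMod q) V) + (z'⁻¹ : (Module.End (ZMod q) V)ˣ) = c • 1 := by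
    have e : z'⁻¹ = y * z⁻¹ * y⁻¹ := by rw [hz'def]; group
    rw [e, hz'def]
    simp only [Units.val_mul]
    rw [← add_mul, ← mul_add, hc, mul_smul_comm, mul_one, smul_mul_assoc, Units.mul_inv]
  have hcm : Commute (z : Module.End (ZMod q) V) z' := by
    show (z : Module.End (ZMod q) V) * z' = z' * z
    rw [← Units.val_mul, ← Units.val_mul, hKc z hz z' hz']
  obtain ⟨dd, hdd⟩ := scalar_of_symm halt hnd h2 hcard
    (((z : Module.End (ZMod q) V) - (z⁻¹ : (Module.End (ZMod q) V)ˣ)) *
      ((z' : Module.End (ZMod q) V) - (z'⁻¹ : (Module.End (ZMod q) V)ˣ))) (by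
    have a1 := (hKi z hz).adj.sub (by simpa using (hKi z hz).inv.adj :
      Adj β ((z⁻¹ : (Module.End (ZMod q) V)ˣ) : Module.End (ZMod q) V) z)
    have a2 := (hKi z' hz').adj.sub (by simpa using (hKi z' hz').inv.adj :
      Adj β ((z'⁻¹ : (Module.End (ZMod q) V)ˣ) : Module.End (ZMod q) V) z')
    have := a1.mul a2
    rw [← neg_sub (z' : Module.End (ZMod q) V), ← neg_sub (z : Module.End (ZMod q) V), neg_mul_neg]
      at this
    have hco : Commute ((z' : Module.End (ZMod q) V) - (z'⁻¹ : (Module.End (ZMod q) V)ˣ))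
        ((z : Module.End (ZMod q) V) - (z⁻¹ : (Module.End (ZMod q) V)ˣ)) :=
      (hcm.symm.sub_right hcm.symm.units_inv_right).sub_left
        (hcm.symm.units_inv_left.sub_right hcm.symm.units_inv_left.units_inv_right)
    rwa [hco.eq] at this)
  by_contra hz1
  have hsc : ¬ ∃ s : ZMod q, (z : Module.End (ZMod q) V) ^ q = s • 1 := by
    rintro ⟨s, hs⟩
    refine hz1 (hone z hz (q * 2) ?_ (hcq.mul_right hc2))
    rw [pow_mul, pow_two]
    exact ((hKi z hz).pow q).mul_self_of_scalar hnd (by rw [Units.val_pow_eq_pow_val, hs])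
  have hw : y ^ 2 * z = z * y ^ 2 := by
    rcases flip_or_scalar hq hcm hc hc' hdd with h | h | h
    · rw [hz'def, mul_inv_eq_iff_eq_mul] at h
      rw [pow_two, mul_assoc, h, ← mul_assoc, h, mul_assoc]
    · rw [hz'def, mul_inv_eq_iff_eq_mul] at h
      have h' : y * z⁻¹ = z * y := by
        calc y * z⁻¹ = (z * (z⁻¹ * y)) * z⁻¹ := by rw [mul_inv_cancel_left]
          _ = z * y := by rw [← h]; group
      rw [pow_two, mul_assoc, h, ← mul_assoc, h', mul_assoc]
    · exact absurd h hsc
  set w : Module.End (ZMod q) V := ((y ^ 2 : (Module.End (ZMod q) V)ˣ) : Module.End (ZMod q) V)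
    with hwdef
  have hy2 : y ^ 2 ^ d = 1 := by
    refine Units.ext ?_
    rw [Units.val_pow_eq_pow_val, show d = d - 1 + 1 by omega, pow_succ, pow_mul, hy, neg_one_sq,
      Units.val_one]
  obtain ⟨x, hx⟩ : ∃ x, w x ∉ Submodule.span (ZMod q) ({x} : Set V) := by
    by_contra hall
    push Not at hall
    obtain ⟨s, hs⟩ := scalar_of_eigen hcard w hall
    have h4 : y ^ (2 * 2) = 1 := by
      rw [pow_mul, pow_two (y ^ 2)]; exact (hyi.pow 2).mul_self_of_scalar hnd hs
    refine neg_one_ne_one' (A := Module.End (ZMod q) V) hq ?_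
    rw [← hy, show d - 1 = 2 + (d - 3) by omega, pow_add, pow_mul]
    rw [← Units.val_pow_eq_pow_val, show (2 : ℕ) ^ 2 = 2 * 2 by norm_num, h4, Units.val_one, one_pow]
  have hx0 : x ≠ 0 := fun e => hx (by rw [e, map_zero]; exact Submodule.zero_mem _)
  obtain ⟨α, γ, hzx⟩ := Submodule.mem_span_pair.1
    ((span_pair_eq_top hcard hx0 hx).ge (Submodule.mem_top (x := (z : Module.End (ZMod q) V) x)))
  have hzw : (z : Module.End (ZMod q) V) = α • 1 + γ • w := by
    refine LinearMap.ext_on (span_pair_eq_top hcard hx0 hx) fun v hv => ?_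
    rcases hv with rfl | hv
    · exact hzx.symm
    · rw [Set.mem_singleton_iff] at hv
      subst hv
      rw [← Module.End.mul_apply, hwdef, ← Units.val_mul, ← hw, Units.val_mul, Module.End.mul_apply,
        ← hzx]
      simp [map_add, map_smul, hwdef]
  have hzi : ((z⁻¹ : (Module.End (ZMod q) V)ˣ) : Module.End (ZMod q) V) =
      α • 1 + γ • (((y ^ 2)⁻¹ : (Module.End (ZMod q) V)ˣ) : Module.End (ZMod q) V) := by
    refine Adj.unique hnd (hKi z hz).adj ?_
    rw [hzw]
    refine (Adj.smul_one β α).add ?_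
    have := (Adj.smul_one β γ).mul (hyi.pow 2).adj
    rwa [smul_mul_assoc, one_mul, mul_smul_comm, mul_one] at this
  have hwq : w ^ q = (((y ^ 2)⁻¹ : (Module.End (ZMod q) V)ˣ) : Module.End (ZMod q) V) := by
    rw [hwdef, ← Units.val_pow_eq_pow_val]
    refine congrArg Units.val (eq_inv_of_mul_eq_one_left ?_)
    rw [← pow_succ, hqd, ← pow_mul, mul_comm, pow_mul, hy2, one_pow]
  refine hz1 (hone z hz (q + 1) ?_ ?_)
  · have hzq : z ^ q = z⁻¹ := Units.ext (by
      rw [Units.val_pow_eq_pow_val, hzi]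
      conv_lhs => rw [hzw]
      rw [add_pow_expChar_of_commute q ((Commute.one_left _).smul_left α), smul_one_pow_card,
        smul_pow, ZMod.pow_card, hwq])
    rw [pow_succ, hzq, inv_mul_cancel]
  · rw [hqd]; exact hc2.pow_right d

omit halt hnd in
/-- The negated space of an involution is orthogonal to the fixed one. -/
theorem orth_of_isometry {t : (Module.End (ZMod q) V)ˣ} (ht : Iso β t) {x f : V}
    (hx : (t : Module.End (ZMod q) V) x = -x) (hf : (t : Module.End (ZMod q) V) f = f) :
    β x f = 0 := by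
  refine h2 _ ?_
  have := ht x f
  rw [hx, hf, map_neg, AddMonoidHom.neg_apply] at this
  exact neg_eq_iff_add_eq_zero.1 this

/-- The lemma. -/
theorem centralizes (hq : q ≠ 2) {d : ℕ} (hd : 2 ≤ d) (hqd : q + 1 = 2 ^ d)
    {y : (Module.End (ZMod q) V)ˣ} (hyi : Iso β y)
    (ht2 : y ^ 2 ^ (d - 1) * y ^ 2 ^ (d - 1) = 1) (T : Submodule (ZMod q) V)
    (hT : ∀ x, x ∈ T ↔ ((y ^ 2 ^ (d - 1) : (Module.End (ZMod q) V)ˣ) : Module.End (ZMod q) V) x = -x)
    (hTcard : Nat.card T = q ^ 2) {ℓ : ℕ} [Fact ℓ.Prime] (hℓ2 : ℓ ≠ 2) (hℓq : ℓ ≠ q) :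
    ∀ R : Subgroup (Module.End (ZMod q) V)ˣ, IsPGroup ℓ R → (∀ g ∈ R, Iso β g) →
      (∀ g ∈ R, y * g * y⁻¹ ∈ R) →
      ∀ g ∈ R, y ^ 2 ^ (d - 1) * g = g * y ^ 2 ^ (d - 1) := by
  set t := y ^ 2 ^ (d - 1) with htdef
  haveI : Finite (Module.End (ZMod q) V) := Finite.of_injective _ DFunLike.coe_injective
  haveI : Finite (Module.End (ZMod q) T) := Finite.of_injective _ DFunLike.coe_injective
  intro R
  induction hn : Nat.card R using Nat.strong_induction_on generalizing R with
  | _ n ih =>
  subst hn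
  intro hRp hRi hyR
  have hti : Iso β t := hyi.pow _
  have hyt : y * t = t * y := (Commute.self_pow y _).eq
  have hyneg : ∀ i : ℕ, ∀ g ∈ R, y ^ i * g * (y ^ i)⁻¹ ∈ R := by
    intro i
    induction i with
    | zero => intro g hg; simpa using hg
    | succ i ih =>
      intro g hg
      have := hyR _ (ih g hg)
      rwa [show y * (y ^ i * g * (y ^ i)⁻¹) * y⁻¹ = y ^ (i + 1) * g * (y ^ (i + 1))⁻¹ by
        rw [pow_succ']; group] at this
  have htinv : t⁻¹ = t := inv_eq_of_mul_eq_one_left ht2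
  have htR : ∀ g ∈ R, t * g * t⁻¹ ∈ R := fun g hg => hyneg _ g hg
  have hcoef : ∀ g ∈ R, ∀ n, g ^ n = 1 → n.Coprime ℓ → g = 1 := by
    intro g hg n hgn hco
    obtain ⟨e, he⟩ := hRp ⟨g, hg⟩
    exact orderOf_eq_one_iff.1 (Nat.eq_one_of_dvd_coprimes (hco.pow_right e)
      (orderOf_dvd_of_pow_eq_one hgn) (orderOf_dvd_of_pow_eq_one (congrArg Subtype.val he)))
  have h2ℓ : Nat.Coprime 2 ℓ := (Nat.coprime_primes Nat.prime_two Fact.out).2 (Ne.symm hℓ2)
  have hqℓ : Nat.Coprime q ℓ := (Nat.coprime_primes Fact.out Fact.out).2 (Ne.symm hℓq)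
  set R₀ := Subgroup.closure ((fun g => g⁻¹ * (t * g * t⁻¹)) '' (R : Set _)) with hR₀
  have hR₀le : R₀ ≤ R := (Subgroup.closure_le R).2 (by
    rintro _ ⟨g, hg, rfl⟩; exact mul_mem (inv_mem hg) (htR g hg))
  by_cases hR₀eq : R₀ = R
  swap
  · have hlt : Nat.card R₀ < Nat.card R := lt_of_le_of_ne (Subgroup.card_le_of_le hR₀le)
      fun h => hR₀eq (Subgroup.eq_of_le_of_card_ge hR₀le h.ge)
    have hyR₀ : ∀ g ∈ R₀, y * g * y⁻¹ ∈ R₀ := by
      intro g hg
      have : R₀.map (MulAut.conj y).toMonoidHom ≤ R₀ := by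
        rw [hR₀, MonoidHom.map_closure]
        refine Subgroup.closure_mono ?_
        rintro _ ⟨_, ⟨u, hu, rfl⟩, rfl⟩
        refine ⟨y * u * y⁻¹, hyR u hu, ?_⟩
        show (y * u * y⁻¹)⁻¹ * (t * (y * u * y⁻¹) * t⁻¹) = y * (u⁻¹ * (t * u * t⁻¹)) * y⁻¹
        have e : ∀ v, t * (y * v * y⁻¹) * t⁻¹ = y * (t * v * t⁻¹) * y⁻¹ := fun v => by
          rw [show t * (y * v * y⁻¹) * t⁻¹ = (t * y) * v * (t * y)⁻¹ by group, ← hyt]; group
        rw [e]; group
      exact this ⟨g, hg, rfl⟩
    have hIH := ih _ hlt R₀ rfl (hRp.to_le hR₀le) (fun g hg => hRi g (hR₀le hg)) hyR₀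
    intro g hg
    set c := g⁻¹ * (t * g * t⁻¹) with hc
    have hcR : c ∈ R₀ := Subgroup.subset_closure ⟨g, hg, rfl⟩
    have hc2 : c ^ 2 = 1 := by
      have h1 : t * g * t⁻¹ = g * c := by rw [hc]; group
      refine mul_left_cancel (a := g) ?_
      calc g * c ^ 2 = g * c * c := by rw [pow_two, (mul_assoc g c c).symm]
        _ = t * g * t⁻¹ * c := by rw [h1]
        _ = t * (g * c) * t⁻¹ := by rw [htinv, mul_assoc, hIH c hcR]; group
        _ = t * (t * g * t⁻¹) * t⁻¹ := by rw [h1]
        _ = (t * t) * g * (t * t)⁻¹ := by group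
        _ = g * 1 := by rw [ht2]; group
    have := hcoef c (hR₀le hcR) 2 hc2 h2ℓ
    rw [hc, inv_mul_eq_one] at this
    exact (eq_mul_inv_iff_mul_eq.1 this).symm
  -- `C_R(t)` is trivial on `T`
  have hTmap : ∀ u : (Module.End (ZMod q) V)ˣ, t * u = u * t →
      ∀ x ∈ T, (u : Module.End (ZMod q) V) x ∈ T := fun u hu x hx => by
    rw [hT, ← Module.End.mul_apply, ← Units.val_mul, hu, Units.val_mul, Module.End.mul_apply,
      (hT x).1 hx, map_neg]
  have hdec : ∀ v, (t : Module.End (ZMod q) V) v - v ∈ T := fun v => by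
    rw [hT, map_sub, ← Module.End.mul_apply, ← Units.val_mul, ht2, Units.val_one,
      Module.End.one_apply, neg_sub]
  let βT : T →+ T →+ C :=
    { toFun := fun x => (β (x : V)).comp T.subtype.toAddMonoidHom
      map_zero' := AddMonoidHom.ext fun v => by simp
      map_add' := fun a b => AddMonoidHom.ext fun v => by simp }
  have haltT : ∀ x, βT x x = 0 := fun x => halt x.1
  have hndT : ∀ x, (∀ v, βT v x = 0) → x = 0 := fun x hx => by
    refine Subtype.ext (hnd _ fun v => h2 _ ?_)
    have hf : (t : Module.End (ZMod q) V) (v + (t : Module.End (ZMod q) V) v) =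
        v + (t : Module.End (ZMod q) V) v := by
      rw [map_add, ← Module.End.mul_apply, ← Units.val_mul, ht2, Units.val_one,
        Module.End.one_apply, add_comm]
    have h0 : β (v + (t : Module.End (ZMod q) V) v) (x : V) = 0 := by
      rw [skew halt (x : V), orth_of_isometry h2 hti ((hT x).1 x.2) hf, neg_zero]
    have h1 : β ((t : Module.End (ZMod q) V) v - v) (x : V) = 0 := hx ⟨_, hdec v⟩
    rw [map_sub, AddMonoidHom.sub_apply] at h1
    rw [map_add, AddMonoidHom.add_apply, sub_eq_zero.1 h1] at h0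
    exact h0
  let Z : Subgroup (Module.End (ZMod q) V)ˣ := Subgroup.centralizer {t}
  have hZ : ∀ u, u ∈ Z → t * u = u * t := fun u hu =>
    (Subgroup.mem_centralizer_singleton_iff.1 hu).symm
  let resM : Z →* Module.End (ZMod q) T :=
    { toFun := fun u => (u.1 : Module.End (ZMod q) V).restrict (hTmap u.1 (hZ _ u.2))
      map_one' := LinearMap.ext fun x => Subtype.ext rfl
      map_mul' := fun a b => LinearMap.ext fun x => Subtype.ext rfl }
  let res : Z →* (Module.End (ZMod q) T)ˣ := resM.toHomUnits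
  have hres : ∀ (u : Z) (x : T), ((res u : Module.End (ZMod q) T) x : V) =
      (u.1 : Module.End (ZMod q) V) x := fun u x => rfl
  have hyZ : y ∈ Z := Subgroup.mem_centralizer_singleton_iff.2 hyt
  set yT := res ⟨y, hyZ⟩ with hyT
  set K := (R.subgroupOf Z).map res with hK
  have hKp : IsPGroup ℓ K := (hRp.comap_of_injective Z.subtype Z.subtype_injective).map res
  have hCT : ∀ g ∈ R, t * g = g * t → ∀ x ∈ T, (g : Module.End (ZMod q) V) x = x := by
    have hKbot : K = ⊥ := by
      by_contra hne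
      haveI : Nontrivial K := (Subgroup.nontrivial_iff_ne_bot K).2 hne
      haveI := hKp.center_nontrivial
      have hyK : ∀ g ∈ K, yT * g * yT⁻¹ ∈ K := by
        rintro _ ⟨u, hu, rfl⟩
        exact ⟨⟨y, hyZ⟩ * u * ⟨y, hyZ⟩⁻¹, hyR _ hu, by rw [map_mul, map_mul, map_inv]⟩
      have hyK' : ∀ g ∈ K, yT⁻¹ * g * yT ∈ K := by
        intro g hg
        let f : K → K := fun g => ⟨yT * g * yT⁻¹, hyK g g.2⟩
        have hfinj : Function.Injective f := fun a b hab =>
          Subtype.ext (mul_left_cancel (mul_right_cancel (congrArg Subtype.val hab)))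
        obtain ⟨⟨u, hu⟩, hue⟩ := Finite.injective_iff_surjective.1 hfinj ⟨g, hg⟩
        have hue' : yT * u * yT⁻¹ = g := congrArg Subtype.val hue
        rw [← hue']
        simpa [mul_assoc] using hu
      have hco : (Nat.card (Subgroup.center K)).Coprime (2 * q) := by
        obtain ⟨e, he⟩ := (hKp.to_subgroup (Subgroup.center K)).exists_card_eq
        rw [he]
        exact (Nat.Coprime.mul_right h2ℓ.symm hqℓ.symm).pow_left e
      have hbot := plane_trivial haltT hndT h2 hTcard hq hd hqd (y := yT)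
        (fun x v => hyi x v) (LinearMap.ext fun x => Subtype.ext (by
          rw [← Units.val_pow_eq_pow_val, hyT, ← map_pow, hres]
          exact (hT x).1 x.2))
        ((Subgroup.center K).map K.subtype)
        (by rintro _ ⟨⟨_, u, hu, rfl⟩, -, rfl⟩ x v; exact hRi _ hu x v)
        (by
          rintro _ ⟨a, ha, rfl⟩ _ ⟨b, -, rfl⟩
          exact congrArg Subtype.val (Subgroup.mem_center_iff.1 ha b).symm)
        (by
          rintro _ ⟨a, ha, rfl⟩
          refine ⟨⟨_, hyK a a.2⟩, Subgroup.mem_center_iff.2 fun b => Subtype.ext ?_, rfl⟩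
          have := congrArg Subtype.val (Subgroup.mem_center_iff.1 ha ⟨_, hyK' b b.2⟩)
          show (b : _) * (yT * a * yT⁻¹) = yT * a * yT⁻¹ * b
          calc (b : (Module.End (ZMod q) T)ˣ) * (yT * a * yT⁻¹)
              = yT * ((yT⁻¹ * b * yT) * a) * yT⁻¹ := by group
            _ = yT * ((a : (Module.End (ZMod q) T)ˣ) * (yT⁻¹ * b * yT)) * yT⁻¹ :=
                congrArg (fun u => yT * u * yT⁻¹) this
            _ = _ := by group)
        (by rw [Subgroup.card_map_of_injective K.subtype_injective]; exact hco)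
      exact (Subgroup.nontrivial_iff_ne_bot (Subgroup.center K)).1 inferInstance
        ((Subgroup.map_eq_bot_iff_of_injective _ K.subtype_injective).1 hbot)
    intro g hg hgt x hx
    have hgZ : g ∈ Z := Subgroup.mem_centralizer_singleton_iff.2 hgt.symm
    have h1 : res ⟨g, hgZ⟩ = 1 := (Subgroup.eq_bot_iff_forall _).1 hKbot _ ⟨⟨g, hgZ⟩, hg, rfl⟩
    exact congrArg (fun u : (Module.End (ZMod q) T)ˣ =>
      (((u : Module.End (ZMod q) T) ⟨x, hx⟩ : T) : V)) h1
  -- the span of the translates of `T`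
  set S : Set V := {v | ∃ g ∈ R, ∃ x ∈ T, (g : Module.End (ZMod q) V) x = v} with hS
  set E := Submodule.span (ZMod q) S with hE
  have hTE : T ≤ E := fun x hx => Submodule.subset_span ⟨1, one_mem R, x, hx, rfl⟩
  have hmem : ∀ (u : (Module.End (ZMod q) V)ˣ) (w : V), u * t = t * u → w ∈ T →
      (u : Module.End (ZMod q) V) w ∈ T := fun u w hu hw => hTmap u hu.symm w hw
  have hRE : ∀ g ∈ R, ∀ v ∈ E, (g : Module.End (ZMod q) V) v ∈ E := fun g hg v hv => by
    induction hv using Submodule.span_induction with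
    | mem v hv =>
      obtain ⟨h, hh, x, hx, rfl⟩ := hv
      exact Submodule.subset_span ⟨g * h, mul_mem hg hh, x, hx, rfl⟩
    | zero => rw [map_zero]; exact E.zero_mem
    | add a b _ _ ha hb => rw [map_add]; exact E.add_mem ha hb
    | smul c a _ ha => rw [map_smul]; exact E.smul_mem c ha
  have hyE : ∀ u : (Module.End (ZMod q) V)ˣ, u * t = t * u → (∀ g ∈ R, u * g * u⁻¹ ∈ R) →
      ∀ v ∈ E, (u : Module.End (ZMod q) V) v ∈ E := fun u hu huR v hv => by
    induction hv using Submodule.span_induction with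
    | mem v hv =>
      obtain ⟨h, hh, x, hx, rfl⟩ := hv
      refine Submodule.subset_span ⟨u * h * u⁻¹, huR h hh, _, hmem u x hu hx, ?_⟩
      simp only [← Module.End.mul_apply, ← Units.val_mul]
      rw [inv_mul_cancel_right]
    | zero => rw [map_zero]; exact E.zero_mem
    | add a b _ _ ha hb => rw [map_add]; exact E.add_mem ha hb
    | smul c a _ ha => rw [map_smul]; exact E.smul_mem c ha
  have hmod : ∀ g ∈ R, ∀ v, (g : Module.End (ZMod q) V) v - v ∈ E := by
    intro g hg
    rw [← hR₀eq] at hg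
    induction hg using Subgroup.closure_induction with
    | mem c hc =>
      obtain ⟨u, hu, rfl⟩ := hc
      intro v
      have e : (((u⁻¹ * (t * u * t⁻¹)) : (Module.End (ZMod q) V)ˣ) : Module.End (ZMod q) V) v - v =
          ((u⁻¹ : (Module.End (ZMod q) V)ˣ) : Module.End (ZMod q) V)
            ((t : Module.End (ZMod q) V) ((u : Module.End (ZMod q) V) ((t : Module.End (ZMod q) V) v))
              - (u : Module.End (ZMod q) V) ((t : Module.End (ZMod q) V) v))
          + ((t : Module.End (ZMod q) V) v - v) := by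
        rw [htinv, map_sub]
        simp only [Units.val_mul, Module.End.mul_apply]
        rw [← Module.End.mul_apply ((u⁻¹ : (Module.End (ZMod q) V)ˣ) : Module.End (ZMod q) V)
          (u : Module.End (ZMod q) V) _, Units.inv_mul, Module.End.one_apply]
        abel
      rw [e]
      exact E.add_mem (hRE _ (inv_mem hu) _ (hTE (hdec _))) (hTE (hdec v))
    | one => intro v; simp
    | mul a b ha _ iha ihb =>
      intro v
      rw [Units.val_mul, Module.End.mul_apply,
        ← sub_add_sub_cancel _ ((b : Module.End (ZMod q) V) v) v]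
      exact E.add_mem (iha _) (ihb v)
    | inv a _ iha =>
      intro v
      have h := iha (((a⁻¹ : (Module.End (ZMod q) V)ˣ) : Module.End (ZMod q) V) v)
      rw [← Module.End.mul_apply, Units.mul_inv, Module.End.one_apply, ← neg_sub] at h
      exact neg_mem_iff.1 h
  have hfaith : ∀ g ∈ R, (∀ v ∈ E, (g : Module.End (ZMod q) V) v = v) → g = 1 := by
    intro g hg hgE
    refine hcoef g hg q (Units.ext (LinearMap.ext fun v => ?_)) hqℓ
    rw [Units.val_one, Module.End.one_apply]
    have hit : ∀ i : ℕ, ((g ^ i : (Module.End (ZMod q) V)ˣ) : Module.End (ZMod q) V) v =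
        v + (i : ZMod q) • ((g : Module.End (ZMod q) V) v - v) := by
      intro i
      induction i with
      | zero => simp
      | succ i ih =>
        rw [pow_succ', Units.val_mul, Module.End.mul_apply, ih, map_add, map_smul,
          hgE _ (hmod g hg v), Nat.cast_succ, add_smul, one_smul]
        abel
    rw [hit, ZMod.natCast_self, zero_smul, add_zero]
  rcases eq_or_ne R ⊥ with hRbot | hRne
  · intro g hg
    rw [hRbot, Subgroup.mem_bot] at hg
    rw [hg, mul_one, one_mul]
  -- `R` is abelian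
  have hab : ∀ a ∈ R, ∀ b ∈ R, a * b = b * a := by
    haveI := hRp.isNilpotent
    haveI : Group.IsSolvable R := inferInstance
    haveI : Nontrivial R := (Subgroup.nontrivial_iff_ne_bot R).2 hRne
    set R' := (commutator R).map R.subtype with hR'
    have hR'le : R' ≤ R := Subgroup.map_subtype_le _
    have hlt : Nat.card R' < Nat.card R := by
      rw [hR', Subgroup.card_map_of_injective R.subtype_injective]
      refine lt_of_le_of_ne (Subgroup.card_le_card_group _) fun h => ?_
      exact (Group.IsSolvable.commutator_lt_top_of_nontrivial R).ne (Subgroup.eq_top_of_card_eq _ h)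
    have hR'c : R' = ⁅R, R⁆ := Subgroup.map_subtype_commutator R
    have hyR' : ∀ g ∈ R', y * g * y⁻¹ ∈ R' := by
      intro g hg
      have hle : R.map (MulAut.conj y).toMonoidHom ≤ R := by
        rintro _ ⟨u, hu, rfl⟩; exact hyR u hu
      have := Subgroup.mem_map_of_mem (MulAut.conj y).toMonoidHom (hR'c ▸ hg)
      rw [Subgroup.map_commutator] at this
      exact hR'c ▸ Subgroup.commutator_mono hle hle this
    have hIH := ih _ hlt R' rfl (hRp.to_le hR'le) (fun g hg => hRi g (hR'le hg)) hyR'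
    intro a ha b hb
    have hz : ⁅a, b⁆ ∈ R' := hR'c ▸ Subgroup.commutator_mem_commutator ha hb
    have hR'n : ∀ u ∈ R, ∀ z ∈ R', u⁻¹ * z * u ∈ R' := by
      rintro u hu _ ⟨z, hz, rfl⟩
      refine ⟨⟨u, hu⟩⁻¹ * z * ⟨u, hu⟩, ?_, rfl⟩
      have := (inferInstance : (commutator R).Normal).conj_mem z hz ⟨u, hu⟩⁻¹
      simpa using this
    have h1 : ⁅a, b⁆ = 1 := by
      refine hfaith _ (hR'le hz) fun v hv => ?_
      induction hv using Submodule.span_induction with
      | mem v hv =>
        obtain ⟨u, hu, x, hx, rfl⟩ := hv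
        have := hCT _ (hR'le (hR'n u hu _ hz)) (hIH _ (hR'n u hu _ hz)) x hx
        rw [← Module.End.mul_apply, ← Units.val_mul,
          show ⁅a, b⁆ * u = u * (u⁻¹ * ⁅a, b⁆ * u) by group, Units.val_mul, Module.End.mul_apply,
          this]
      | zero => rw [map_zero]
      | add p r _ _ hp hr => rw [map_add, hp, hr]
      | smul c p _ hp => rw [map_smul, hp]
    exact commutatorElement_eq_one_iff_mul_comm.1 h1
  -- so `t` inverts `R`
  have hinv : ∀ g ∈ R, t * g * t⁻¹ = g⁻¹ := by
    intro g hg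
    rw [← hR₀eq] at hg
    induction hg using Subgroup.closure_induction with
    | mem c hc =>
      obtain ⟨u, hu, rfl⟩ := hc
      calc t * (u⁻¹ * (t * u * t⁻¹)) * t⁻¹ = (t * u⁻¹ * t⁻¹) * ((t * t) * u * (t * t)⁻¹) := by group
        _ = (u⁻¹ * (t * u * t⁻¹))⁻¹ := by rw [ht2]; group
    | one => simp
    | mul a b ha hb iha ihb =>
      rw [show t * (a * b) * t⁻¹ = (t * a * t⁻¹) * (t * b * t⁻¹) by group, iha, ihb, mul_inv_rev,
        hab _ (inv_mem (hR₀eq ▸ ha)) _ (inv_mem (hR₀eq ▸ hb))]
    | inv a _ iha => rw [show t * a⁻¹ * t⁻¹ = (t * a * t⁻¹)⁻¹ by group, iha]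
  have hinv' : ∀ g ∈ R, (t : Module.End (ZMod q) V) * g = (g⁻¹ : (Module.End (ZMod q) V)ˣ) * t :=
    fun g hg => by
      rw [← Units.val_mul, ← Units.val_mul, ← hinv g hg, inv_mul_cancel_right]
  have hinv'' : ∀ g ∈ R, (t : Module.End (ZMod q) V) * (g⁻¹ : (Module.End (ZMod q) V)ˣ) = g * t :=
    fun g hg => by simpa using hinv' g⁻¹ (inv_mem hg)
  -- symmetric operators commuting with `R` and `t` are scalar on `E`
  have hscal : ∀ a : Module.End (ZMod q) V, Adj β a a →
      (t : Module.End (ZMod q) V) * a = a * t →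
      (∀ g ∈ R, (g : Module.End (ZMod q) V) * a = a * g) →
      ∃ c : ZMod q, ∀ v ∈ E, a v = c • v := by
    intro a hsym hat hcom
    have haT : ∀ x ∈ T, a x ∈ T := fun x hx => by
      rw [hT, ← Module.End.mul_apply, hat, Module.End.mul_apply, (hT x).1 hx, map_neg]
    obtain ⟨c, hc⟩ := scalar_of_symm haltT hndT h2 hTcard (a.restrict haT) (fun x v => hsym x v)
    refine ⟨c, fun v hv => ?_⟩
    induction hv using Submodule.span_induction with
    | mem v hv =>
      obtain ⟨u, hu, x, hx, rfl⟩ := hv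
      rw [← Module.End.mul_apply, ← hcom u hu, Module.End.mul_apply,
        show a x = c • x from congrArg Subtype.val (LinearMap.congr_fun hc ⟨x, hx⟩), map_smul]
    | zero => rw [map_zero, smul_zero]
    | add p r _ _ hp hr => rw [map_add, hp, hr, smul_add]
    | smul e p _ hp => rw [map_smul, hp, smul_comm]
  haveI : Nontrivial T := Finite.one_lt_card_iff_nontrivial.1 (by
    rw [hTcard]; exact Nat.one_lt_pow two_ne_zero (Fact.out : q.Prime).one_lt)
  haveI : Nontrivial E := by
    obtain ⟨x, hx⟩ := exists_ne (0 : T)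
    exact ⟨⟨⟨x, hTE x.2⟩, 0, fun e => hx (Subtype.ext (congrArg (fun z : E => (z : V)) e))⟩⟩
  let rEM : R →* Module.End (ZMod q) E :=
    { toFun := fun u => (u.1 : Module.End (ZMod q) V).restrict (hRE u.1 u.2)
      map_one' := LinearMap.ext fun x => Subtype.ext rfl
      map_mul' := fun a b => LinearMap.ext fun x => Subtype.ext rfl }
  let rE : R →* (Module.End (ZMod q) E)ˣ := rEM.toHomUnits
  have hrE : Function.Injective rE := by
    rw [← MonoidHom.ker_eq_bot_iff, Subgroup.eq_bot_iff_forall]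
    intro u hu
    refine Subtype.ext (hfaith _ u.2 fun v hv => ?_)
    exact congrArg (fun z : (Module.End (ZMod q) E)ˣ =>
      (((z : Module.End (ZMod q) E) ⟨v, hv⟩ : E) : V)) hu
  intro g hg
  suffices hg1 : g = 1 by rw [hg1, mul_one, one_mul]
  by_contra hne
  set g' := y * g * y⁻¹ with hg'def
  have hg' : g' ∈ R := hyR g hg
  have hcommE : ∀ a ∈ R, ∀ b ∈ R, Commute (a : Module.End (ZMod q) V) b := fun a ha b hb => by
    show (a : Module.End (ZMod q) V) * b = b * a
    rw [← Units.val_mul, ← Units.val_mul, hab a ha b hb]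
  obtain ⟨c, hc⟩ := hscal ((g : Module.End (ZMod q) V) + (g⁻¹ : (Module.End (ZMod q) V)ˣ))
    (by
      have := (hRi g hg).adj.add (hRi g hg).inv.adj
      rwa [inv_inv, add_comm ((g⁻¹ : (Module.End (ZMod q) V)ˣ) : Module.End (ZMod q) V)] at this)
    (by rw [mul_add, hinv' g hg, hinv'' g hg, add_mul, add_comm])
    (fun u hu => ((hcommE u hu g hg).add_right (hcommE u hu _ (inv_mem hg))).eq)
  have hyinv : ∀ h ∈ R, y⁻¹ * h * y⁻¹⁻¹ ∈ R := by
    intro h hh
    let f : R → R := fun h => ⟨y * h * y⁻¹, hyR h h.2⟩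
    have hfinj : Function.Injective f := fun a b hab =>
      Subtype.ext (mul_left_cancel (mul_right_cancel (congrArg Subtype.val hab)))
    obtain ⟨u, hue⟩ := Finite.injective_iff_surjective.1 hfinj ⟨h, hh⟩
    have hue' : y * (u : (Module.End (ZMod q) V)ˣ) * y⁻¹ = h := congrArg Subtype.val hue
    rw [← hue']
    simp [mul_assoc]
  have hc' : ∀ v ∈ E, ((g' : Module.End (ZMod q) V) + (g'⁻¹ : (Module.End (ZMod q) V)ˣ)) v =
      c • v := by
    intro v hv
    have hv' := hyE y⁻¹ (by rw [inv_mul_eq_iff_eq_mul, ← mul_assoc, hyt, mul_inv_cancel_right])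
      hyinv v hv
    have e : g'⁻¹ = y * g⁻¹ * y⁻¹ := by rw [hg'def]; group
    rw [e, hg'def]
    simp only [Units.val_mul]
    rw [← add_mul, ← mul_add, Module.End.mul_apply, Module.End.mul_apply, hc _ hv', map_smul,
      ← Module.End.mul_apply (y : Module.End (ZMod q) V), Units.mul_inv, Module.End.one_apply]
  obtain ⟨dd, hdd⟩ := hscal
    (((g : Module.End (ZMod q) V) - (g⁻¹ : (Module.End (ZMod q) V)ˣ)) *
      ((g' : Module.End (ZMod q) V) - (g'⁻¹ : (Module.End (ZMod q) V)ˣ)))
    (by
      have a1 := (hRi g hg).adj.sub (by simpa using (hRi g hg).inv.adj :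
        Adj β ((g⁻¹ : (Module.End (ZMod q) V)ˣ) : Module.End (ZMod q) V) g)
      have a2 := (hRi g' hg').adj.sub (by simpa using (hRi g' hg').inv.adj :
        Adj β ((g'⁻¹ : (Module.End (ZMod q) V)ˣ) : Module.End (ZMod q) V) g')
      have := a1.mul a2
      rw [← neg_sub (g' : Module.End (ZMod q) V), ← neg_sub (g : Module.End (ZMod q) V), neg_mul_neg]
        at this
      rwa [(((hcommE g' hg' g hg).sub_right (hcommE g' hg' _ (inv_mem hg))).sub_left
        ((hcommE _ (inv_mem hg') g hg).sub_right (hcommE _ (inv_mem hg') _ (inv_mem hg)))).eq]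
        at this)
    (by
      have e1 : ∀ h ∈ R, (t : Module.End (ZMod q) V) * ((h : Module.End (ZMod q) V) - (h⁻¹ :
          (Module.End (ZMod q) V)ˣ)) = -((h : Module.End (ZMod q) V) - (h⁻¹ :
          (Module.End (ZMod q) V)ˣ)) * t := fun h hh => by
        rw [neg_sub, mul_sub, sub_mul, hinv' h hh, hinv'' h hh]
      rw [← mul_assoc, e1 g hg, neg_mul, neg_mul, mul_assoc, e1 g' hg', neg_mul, mul_neg, neg_neg,
        ← mul_assoc])
    (fun u hu => (((hcommE u hu g hg).sub_right (hcommE u hu _ (inv_mem hg))).mul_right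
      ((hcommE u hu g' hg').sub_right (hcommE u hu _ (inv_mem hg')))).eq)
  let G1 : R := ⟨g, hg⟩
  let G2 : R := ⟨g', hg'⟩
  have hval : ∀ u : R, ((rE u : (Module.End (ZMod q) E)ˣ) : Module.End (ZMod q) E) = rEM u :=
    fun u => rfl
  have hflip := flip_or_scalar (A := Module.End (ZMod q) E) hq (g := rE G1) (g' := rE G2)
    (by
      show rEM G1 * rEM G2 = rEM G2 * rEM G1
      rw [← map_mul, ← map_mul]
      exact congrArg rEM (Subtype.ext (hab g hg g' hg')))
    (c := c) (d := dd)
    (by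
      rw [← map_inv, hval, hval]
      exact LinearMap.ext fun v => Subtype.ext (hc v v.2))
    (by
      rw [← map_inv, hval, hval]
      exact LinearMap.ext fun v => Subtype.ext (hc' v v.2))
    (by
      rw [← map_inv, ← map_inv, hval, hval, hval, hval]
      exact LinearMap.ext fun v => Subtype.ext (hdd v v.2))
  have hone : ∀ a, a ∈ R → t * a = a * t → a = 1 := fun a ha h => by
    refine hcoef a ha 2 ?_ h2ℓ
    have := hinv a ha
    rw [h, mul_inv_cancel_right] at this
    rw [pow_two]
    nth_rw 2 [this]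
    exact mul_inv_cancel a
  have hy2 : y ^ 2 * g = g * y ^ 2 → False := fun h => hne (hone g hg (by
    rw [htdef, show 2 ^ (d - 1) = 2 * 2 ^ (d - 2) by
      rw [← pow_succ']; congr 1; omega, pow_mul]
    exact (Commute.pow_left h _).eq))
  rcases hflip with h | h | ⟨s, hs⟩
  · have h' : g' = g := congrArg Subtype.val (hrE h)
    rw [hg'def, mul_inv_eq_iff_eq_mul] at h'
    exact hy2 (by rw [pow_two, mul_assoc, h', ← mul_assoc, h', mul_assoc])
  · rw [← map_inv] at h
    have h' : g' = g⁻¹ := congrArg Subtype.val (hrE h)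
    rw [hg'def, mul_inv_eq_iff_eq_mul] at h'
    have h'' : y * g⁻¹ = g * y := by
      calc y * g⁻¹ = (g * (g⁻¹ * y)) * g⁻¹ := by rw [mul_inv_cancel_left]
        _ = g * y := by rw [← h']; group
    exact hy2 (by rw [pow_two, mul_assoc, h', ← mul_assoc, h'', mul_assoc])
  · refine hne (hcoef g hg (q * 2) ?_ (Nat.Coprime.mul_left hqℓ h2ℓ))
    refine hfaith _ (pow_mem hg _) fun v hv => ?_
    have hsv : ∀ w ∈ E, ((g ^ q : (Module.End (ZMod q) V)ˣ) : Module.End (ZMod q) V) w = s • w := by
      intro w hw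
      rw [← Units.val_pow_eq_pow_val, ← map_pow, hval] at hs
      exact congrArg Subtype.val (LinearMap.congr_fun hs ⟨w, hw⟩)
    have hgE := hRE _ (pow_mem hg q) v hv
    have hinvq : ((g ^ q)⁻¹ : (Module.End (ZMod q) V)ˣ) = t * g ^ q * t⁻¹ :=
      (hinv _ (pow_mem hg q)).symm
    have htE : ∀ w ∈ E, ((t⁻¹ : (Module.End (ZMod q) V)ˣ) : Module.End (ZMod q) V) w ∈ E := by
      rw [htinv]
      exact fun w hw => hyE t rfl (fun u hu => htR u hu) w hw
    rw [pow_mul, pow_two]
    nth_rw 2 [show g ^ q = g ^ q from rfl]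
    have h3 : ((g ^ q : (Module.End (ZMod q) V)ˣ) : Module.End (ZMod q) V) v =
        (((g ^ q)⁻¹ : (Module.End (ZMod q) V)ˣ) : Module.End (ZMod q) V) v := by
      rw [hinvq, Units.val_mul, Units.val_mul, Module.End.mul_apply, Module.End.mul_apply,
        hsv _ (htE v hv), map_smul, ← Module.End.mul_apply, Units.mul_inv, Module.End.one_apply,
        hsv v hv]
    rw [Units.val_mul, Module.End.mul_apply, h3, ← Module.End.mul_apply, Units.mul_inv,
      Module.End.one_apply]

end Space

end Cfsg.Agent.FittingHeight.Plane
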