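import Cfsg.Agent.Lib.FittingHeight.Weights
import Cfsg.Agent.Lib.FittingHeight.Reduction
import Cfsg.Agent.Lib.PCore.Basic
import Mathlib.GroupTheory.FixedPointFree

/-!
# Facts used in every linear configuration

`ρ` is a representation of `M ⋊[φ] A`. Weights are taken on `L = Q.map inl` for an `A`-invariant
subgroup `Q` of `M`.
-/

namespace Cfsg.Agent.FittingHeight

open Subgroup SemidirectProduct

variable {M : Type*} [Group M] {A : Type*} [Group A] {φ : A →* MulAut M} {k : Type*} [Field k]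
  {E : Type*} [AddCommGroup E] [Module k E] (ρ : M ⋊[φ] A →* Module.End k E)

theorem inl_apply (a : A) (m : M) :
    (inl (φ a m) : M ⋊[φ] A) = inr a * inl m * (inr a)⁻¹ := by
  rw [inl_aut, map_inv]

theorem inr_mem_normalizer {Q : Subgroup M} (hQ : ∀ a, ∀ x ∈ Q, φ a x ∈ Q) (a : A) :
    (inr a : M ⋊[φ] A) ∈ normalizer ((Q.map inl : Subgroup (M ⋊[φ] A)) : Set (M ⋊[φ] A)) :=
  Coprime.inr_range_le_normalizer_map_inl φ hQ ⟨a, rfl⟩

theorem inl_mem_centralizer {Q : Subgroup M} {x : M} (hx : x ∈ centralizer (Q : Set M)) :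
    (inl x : M ⋊[φ] A) ∈ centralizer ((Q.map inl : Subgroup (M ⋊[φ] A)) : Set (M ⋊[φ] A)) := by
  rw [mem_centralizer_iff]
  rintro _ ⟨y, hy, rfl⟩
  rw [← map_mul, ← map_mul, mem_centralizer_iff.1 hx y hy]

variable [Finite M]

theorem natCard_map_inl_ne_zero {Q : Subgroup M} (hk : (Nat.card Q : k) ≠ 0) :
    (Nat.card (Q.map (inl : M →* M ⋊[φ] A)) : k) ≠ 0 := by
  rwa [← Nat.card_congr (Q.equivMapOfInjective inl inl_injective).toEquiv]

theorem natCard_ne_zero_of_le {Q R : Subgroup M} (hk : (Nat.card R : k) ≠ 0) (h : Q ≤ R) :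
    (Nat.card Q : k) ≠ 0 := by
  obtain ⟨c, hc⟩ := card_dvd_of_le h
  intro h0
  exact hk (by rw [hc, Nat.cast_mul, h0, zero_mul])

instance finite_map_inl (Q : Subgroup M) : Finite (Q.map (inl : M →* M ⋊[φ] A)) :=
  Finite.of_equiv _ (Q.equivMapOfInjective inl inl_injective).toEquiv

/-- A weight fixed by `a` is trivial on an invariant subgroup on which `a` has no non-trivial
fixed point. -/
theorem weight_eq_one_of_fixedPointFree {Q R : Subgroup M} (hRQ : R ≤ Q)
    {χ : (Q.map (inl : M →* M ⋊[φ] A)) →* k} {a : A}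
    (hR : ∀ x ∈ R, φ a x ∈ R) (ha : (inr a : M ⋊[φ] A) ∈ wStab k (Q.map inl) χ)
    (hfix : ∀ x ∈ R, φ a x = x → x = 1) {l : Q.map (inl : M →* M ⋊[φ] A)}
    (hl : (l : M ⋊[φ] A) ∈ R.map inl) : χ l = 1 := by
  refine weight_eq_one_of_fpf ha (K := R.map inl) (map_mono hRQ) ?_ ?_ hl
  · rintro _ ⟨x, hx, rfl⟩
    exact ⟨φ a x, hR x hx, inl_apply a x⟩
  · rw [Subgroup.eq_bot_iff_forall]
    rintro _ ⟨⟨x, hx, rfl⟩, hc⟩
    replace hc := mem_centralizer_singleton_iff.1 hc
    have h : (inl (φ a x) : M ⋊[φ] A) = inl x := by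
      rw [inl_apply, ← hc, mul_inv_cancel_right]
    rw [hfix x hx (inl_injective h), map_one]

/-- In the configuration the Fitting subgroup has order prime to the characteristic. -/
theorem natCard_fittingSubgroup_ne_zero {r : ℕ} (hr : r.Prime) [CharP k r]
    (hOr : ∀ N : Subgroup M, N.Normal → (∀ a, ∀ x ∈ N, φ a x ∈ N) → IsPGroup r N → N = ⊥) :
    (Nat.card (fittingSubgroup M) : k) ≠ 0 := by
  have := Fact.mk hr
  have hr0 : pCore r M = ⊥ := hOr _ (Components.pCore_normal' r)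
    (fun a x hx => by
      have h := PCore.map_pCore_mulEquiv (p := r) (φ a)
      rw [← h]
      exact mem_map_of_mem _ hx) PCore.isPGroup_pCore
  have hle : fittingSubgroup M ≤ pPrimeCore r M := by
    rw [Components.fittingSubgroup_eq_iSup_pCore]
    refine iSup_le fun p => ?_
    by_cases hp : (p : ℕ) = r
    · rw [hp, hr0]; exact bot_le
    · have := Fact.mk (Nat.prime_of_mem_primeFactors p.2)
      exact PCore.pCore_le_pPrimeCore hp
  rw [Ne, CharP.cast_eq_zero_iff k r]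
  intro h
  have hco : (Nat.card (fittingSubgroup M)).Coprime r :=
    PCore.coprime_card_pPrimeCore.coprime_dvd_left (card_dvd_of_le hle)
  exact hr.not_dvd_one (hco ▸ Nat.dvd_gcd h dvd_rfl)

end Cfsg.Agent.FittingHeight
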