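import Cfsg.Agent.Lib.FittingHeight.TwistedAlgebra

/-!
# The Hall–Higman bound

See `TwistedAlgebra`.
-/

namespace Cfsg.Agent.FittingHeight

open Module Finset

/-- Representatives for the orbits of an operator of prime period, few in number. -/
theorem exists_orbit_reps {X : Type*} [Finite X] (σ : X → X) {ℓ : ℕ} (hℓ : ℓ.Prime)
    (hσ : ∀ x, σ^[ℓ] x = x) :
    ∃ S : Finset X, (∀ x, ∃ i, σ^[i] x ∈ S) ∧
      ℓ * S.card ≤ Nat.card X + (ℓ - 1) * Nat.card {x // σ x = x} := by
  classical
  let _ : Fintype X := Fintype.ofFinite X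
  have hℓF := Fact.mk hℓ
  let ι : X → ℕ := fun x => (Fintype.equivFin X x : ℕ)
  have hι : Function.Injective ι := fun x y h => (Fintype.equivFin X).injective (Fin.ext h)
  let S : Finset X := Finset.univ.filter fun x => ∀ i, ι x ≤ ι (σ^[i] x)
  refine ⟨S, fun x => ?_, ?_⟩
  · obtain ⟨y, hy, hmin⟩ := Finset.exists_min_image
      ((Finset.range ℓ).image fun i => σ^[i] x) ι
      ⟨x, Finset.mem_image.2 ⟨0, Finset.mem_range.2 hℓ.pos, rfl⟩⟩
    obtain ⟨i, -, rfl⟩ := Finset.mem_image.1 hy
    refine ⟨i, Finset.mem_filter.2 ⟨Finset.mem_univ _, fun j => hmin _ (Finset.mem_image.2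
      ⟨(j + i) % ℓ, Finset.mem_range.2 (Nat.mod_lt _ hℓ.pos), ?_⟩)⟩⟩
    rw [← Function.iterate_add_apply]
    conv_rhs => rw [← Nat.mod_add_div (j + i) ℓ, Function.iterate_add_apply]
    congr 1
    have : Function.IsPeriodicPt σ ℓ x := hσ x
    exact (this.mul_const _).eq.symm
  · set S0 := S.filter fun x => σ x = x
    set S1 := S.filter fun x => σ x ≠ x
    set F := Finset.univ.filter fun x : X => σ x = x
    have hF : Nat.card {x // σ x = x} = F.card := by
      rw [Nat.card_eq_fintype_card, Fintype.card_subtype]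
    have hsplit : S.card = S0.card + S1.card :=
      (Finset.card_filter_add_card_filter_not _).symm
    have h0 : S0.card ≤ F.card := Finset.card_le_card fun x hx =>
      Finset.mem_filter.2 ⟨Finset.mem_univ _, (Finset.mem_filter.1 hx).2⟩
    have h1 : ℓ * S1.card + F.card ≤ Nat.card X := by
      have hinj : Set.InjOn (fun y : X × ℕ => σ^[y.2] y.1) ↑(S1 ×ˢ Finset.range ℓ) := by
        rintro ⟨x, i⟩ hx ⟨y, j⟩ hy h
        simp only [Finset.coe_product, Set.mem_prod, Finset.mem_coe, Finset.mem_range] at hx hy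
        change σ^[i] x = σ^[j] y at h
        have hxy : ∀ {x y : X} {i j : ℕ}, i < ℓ → j < ℓ → y ∈ S → σ^[i] x = σ^[j] y →
            ι y ≤ ι x := by
          intro x y i j hi hj hy h
          have hx' : x = σ^[ℓ - i + j] y := by
            rw [Function.iterate_add_apply, ← h, ← Function.iterate_add_apply,
              Nat.sub_add_cancel hi.le, hσ]
          rw [hx']
          exact (Finset.mem_filter.1 hy).2 _
        have e : x = y := hι (le_antisymm (hxy hy.2 hx.2 (Finset.mem_filter.1 hx.1).1 h.symm)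
          (hxy hx.2 hy.2 (Finset.mem_filter.1 hy.1).1 h))
        subst e
        have hper : Function.minimalPeriod σ x = ℓ :=
          Function.minimalPeriod_eq_prime (hσ x) (Finset.mem_filter.1 hx.1).2
        have : i = j := (Function.iterate_eq_iterate_iff_of_lt_minimalPeriod
          (hper ▸ hx.2) (hper ▸ hy.2)).1 h
        rw [this]
      have hsub : (S1 ×ˢ Finset.range ℓ).image (fun y : X × ℕ => σ^[y.2] y.1) ⊆
          Finset.univ \ F := by
        intro z hz
        obtain ⟨⟨x, i⟩, hxi, rfl⟩ := Finset.mem_image.1 hz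
        rw [Finset.mem_product, Finset.mem_range] at hxi
        refine Finset.mem_sdiff.2 ⟨Finset.mem_univ _, fun hz' => ?_⟩
        have hfix : σ (σ^[i] x) = σ^[i] x := (Finset.mem_filter.1 hz').2
        refine (Finset.mem_filter.1 hxi.1).2 ?_
        have hx' : σ^[ℓ - i] (σ^[i] x) = x := by
          rw [← Function.iterate_add_apply, Nat.sub_add_cancel hxi.2.le, hσ]
        rw [Function.iterate_fixed hfix] at hx'
        rw [← hx', hfix]
      have hcard := Finset.card_le_card hsub
      rw [Finset.card_image_of_injOn hinj, Finset.card_product, Finset.card_range,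
        Finset.card_univ_sdiff] at hcard
      have := Finset.card_le_univ F
      rw [Nat.card_eq_fintype_card]
      rw [mul_comm] at hcard
      omega
    rw [hF, hsplit, mul_add]
    have : ℓ * S0.card ≤ ℓ * F.card := Nat.mul_le_mul_left ℓ h0
    have hl : ℓ * F.card = F.card + (ℓ - 1) * F.card := by
      conv_lhs => rw [show ℓ = (ℓ - 1) + 1 by have := hℓ.pos; omega, add_mul, one_mul, add_comm]
    omega

variable {k : Type*} [Field k] [IsAlgClosed k]

/-- An operator of prime period `ℓ` annihilated by `1 + X + ⋯ + X^(ℓ-1)` has a centraliser of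
dimension at least `m²/(ℓ-1)`. -/
theorem sq_le_mul_finrank_centralizer {V : Type*} [AddCommGroup V] [Module k V]
    [FiniteDimensional k V] {ℓ : ℕ} (hℓ : ℓ.Prime) (hℓk : (ℓ : k) ≠ 0) (G : End k V)
    (hG : ∑ i ∈ range ℓ, G ^ i = 0) (C : Submodule k (End k V))
    (hC : ∀ Y, Commute G Y → Y ∈ C) :
    finrank k V ^ 2 ≤ (ℓ - 1) * finrank k C := by
  classical
  have : NeZero (ℓ : k) := ⟨hℓk⟩
  obtain ⟨ω, hω⟩ := HasEnoughRootsOfUnity.exists_primitiveRoot k ℓ
  have hGℓ : G ^ ℓ = 1 := by
    have h := geom_sum_mul G ℓ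
    rw [hG, zero_mul] at h
    exact sub_eq_zero.1 h.symm
  have hω0 : ω ≠ 0 := hω.ne_zero hℓ.ne_zero
  let P : Fin ℓ → End k V := fun j => (ℓ : k)⁻¹ • ∑ i ∈ range ℓ, (ω ^ (j : ℕ))⁻¹ ^ i • G ^ i
  have hGP : ∀ j, G * P j = ω ^ (j : ℕ) • P j := by
    intro j
    set c := (ω ^ (j : ℕ))⁻¹
    have hc : c ^ ℓ = 1 := by
      rw [inv_pow, ← pow_mul, mul_comm, pow_mul, hω.pow_eq_one, one_pow, inv_one]
    have hc0 : c ≠ 0 := inv_ne_zero (pow_ne_zero _ hω0)
    have hs : c • (G * ∑ i ∈ range ℓ, c ^ i • G ^ i) = ∑ i ∈ range ℓ, c ^ i • G ^ i := by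
      obtain ⟨n, hn⟩ : ∃ n, ℓ = n + 1 := ⟨ℓ - 1, by have := hℓ.pos; omega⟩
      rw [Finset.mul_sum, Finset.smul_sum]
      simp only [mul_smul_comm, smul_smul, ← pow_succ']
      conv_rhs => rw [hn, Finset.sum_range_succ', pow_zero, pow_zero, one_smul]
      conv_lhs => rw [hn, Finset.sum_range_succ, ← hn, hc, hGℓ, one_smul]
    show G * ((ℓ : k)⁻¹ • _) = _ • ((ℓ : k)⁻¹ • _)
    rw [mul_smul_comm, smul_comm (ω ^ (j : ℕ))]
    congr 1
    conv_rhs => rw [← hs, smul_smul, mul_inv_cancel₀ (pow_ne_zero _ hω0), one_smul]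
  have hPsum : ∑ j, P j = 1 := by
    show ∑ j : Fin ℓ, (ℓ : k)⁻¹ • _ = _
    rw [← Finset.smul_sum, Finset.sum_comm, Finset.sum_eq_single 0]
    · simp only [pow_zero, one_smul, Finset.sum_const, Finset.card_univ, Fintype.card_fin]
      rw [← Nat.cast_smul_eq_nsmul k, smul_smul, inv_mul_cancel₀ hℓk, one_smul]
    · intro i hi hi0
      rw [← Finset.sum_smul]
      have h1 : (ω⁻¹) ^ i ≠ 1 := fun h => hi0 (by
        rw [inv_pow, inv_eq_one] at h
        exact Nat.eq_zero_of_dvd_of_lt (hω.dvd_of_pow_eq_one i h) (Finset.mem_range.1 hi))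
      have h2 : ∑ x : Fin ℓ, (ω ^ (x : ℕ))⁻¹ ^ i = 0 := by
        rw [Fin.sum_univ_eq_sum_range (fun x => (ω ^ x)⁻¹ ^ i) ℓ]
        simp only [inv_pow, ← pow_mul, mul_comm _ i]
        simp only [pow_mul, ← inv_pow] at *
        rw [geom_sum_eq h1, ← pow_mul, mul_comm, pow_mul, inv_pow, hω.pow_eq_one, inv_one, one_pow,
          sub_self, zero_div]
      rw [h2, zero_smul]
    · intro h
      exact absurd (Finset.mem_range.2 hℓ.pos) h
  have hP0 : P ⟨0, hℓ.pos⟩ = 0 := by simp [P, hG]
  let Vj : Fin ℓ → Submodule k V := fun j => LinearMap.range (P j)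
  have heig : ∀ j, ∀ v ∈ Vj j, G v = ω ^ (j : ℕ) • v := by
    rintro j _ ⟨w, rfl⟩
    exact LinearMap.congr_fun (hGP j) w
  have hproj : ∀ i j, ∀ v ∈ Vj j, P i v = if i = j then v else 0 := by
    intro i j v hv
    have hpow : ∀ t : ℕ, (G ^ t) v = (ω ^ (j : ℕ)) ^ t • v := by
      intro t
      induction t with
      | zero => simp
      | succ t ih =>
        rw [pow_succ', Module.End.mul_apply, ih, map_smul, heig j v hv, smul_smul, ← pow_succ]
    show ((ℓ : k)⁻¹ • ∑ t ∈ range ℓ, (ω ^ (i : ℕ))⁻¹ ^ t • G ^ t) v = _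
    simp only [LinearMap.smul_apply, LinearMap.sum_apply, hpow, smul_smul, ← mul_pow,
      ← Finset.sum_smul]
    split_ifs with h
    · subst h
      simp [inv_mul_cancel₀ (pow_ne_zero _ hω0), inv_mul_cancel₀ hℓk]
    · have hne : (ω ^ (i : ℕ))⁻¹ * ω ^ (j : ℕ) ≠ 1 := fun e => h (Fin.ext
        (hω.pow_inj i.2 j.2 (inv_mul_eq_one₀ (pow_ne_zero _ hω0) |>.1 e)))
      have hpl : ((ω ^ (i : ℕ))⁻¹ * ω ^ (j : ℕ)) ^ ℓ = 1 := by
        rw [mul_pow, inv_pow, ← pow_mul, ← pow_mul, mul_comm (i : ℕ), mul_comm (j : ℕ), pow_mul,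
          pow_mul, hω.pow_eq_one, one_pow, one_pow, inv_one, one_mul]
      rw [geom_sum_eq hne, hpl, sub_self, zero_div, mul_zero, zero_smul]
  -- the block-diagonal maps
  let Φ : (Π j, End k (Vj j)) →ₗ[k] End k V :=
    { toFun := fun f => ∑ j, (Vj j).subtype ∘ₗ f j ∘ₗ (P j).rangeRestrict
      map_add' := fun f g => by
        simp only [Pi.add_apply, LinearMap.add_comp, LinearMap.comp_add, Finset.sum_add_distrib]
      map_smul' := fun c f => by
        simp only [Pi.smul_apply, LinearMap.smul_comp, LinearMap.comp_smul, RingHom.id_apply,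
          Finset.smul_sum] }
  have hΦ : ∀ f v, Φ f v = ∑ j, (f j ((P j).rangeRestrict v) : V) := fun f v => by
    simp [Φ, LinearMap.sum_apply]
  have hΦi : Function.Injective Φ := by
    rw [← LinearMap.ker_eq_bot, Submodule.eq_bot_iff]
    intro f hf
    funext j
    refine LinearMap.ext fun v => Subtype.ext ?_
    have h1 := hΦ f (v : V)
    rw [LinearMap.mem_ker.1 hf, LinearMap.zero_apply, Finset.sum_eq_single j] at h1
    · have e : (P j).rangeRestrict (v : V) = v := Subtype.ext (by
        show P j (v : V) = v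
        rw [hproj j j v v.2, if_pos rfl])
      rw [e] at h1
      rw [← h1]; rfl
    · intro i _ hi
      have e : (P i).rangeRestrict (v : V) = 0 := Subtype.ext (by
        show P i (v : V) = 0
        rw [hproj i j v v.2, if_neg hi])
      rw [e, map_zero, ZeroMemClass.coe_zero]
    · exact fun h => absurd (Finset.mem_univ j) h
  have hΦC : ∀ f, Φ f ∈ C := by
    intro f
    refine hC _ (LinearMap.ext fun v => ?_)
    have hGc : ∀ j, P j (G v) = ω ^ (j : ℕ) • P j v := fun j => by
      have hcomm : Commute G (P j) :=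
        (Commute.sum_right _ _ _ fun i _ => ((Commute.self_pow G i).smul_right _)).smul_right _
      exact (LinearMap.congr_fun hcomm.eq v).symm.trans (LinearMap.congr_fun (hGP j) v)
    rw [Module.End.mul_apply, Module.End.mul_apply, hΦ, hΦ, map_sum]
    refine Finset.sum_congr rfl fun j _ => ?_
    rw [heig j _ (f j _).2, show (P j).rangeRestrict (G v) =
      ω ^ (j : ℕ) • (P j).rangeRestrict v from Subtype.ext (hGc j), map_smul, Submodule.coe_smul]
  have h1 : finrank k (Π j, End k (Vj j)) ≤ finrank k C :=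
    LinearMap.finrank_le_finrank_of_injective (f := Φ.codRestrict C hΦC) fun a b h =>
      hΦi (congrArg Subtype.val h)
  rw [Module.finrank_pi_fintype] at h1
  simp only [Module.finrank_linearMap] at h1
  set d : Fin ℓ → ℕ := fun j => finrank k (Vj j)
  have hd0 : d ⟨0, hℓ.pos⟩ = 0 := by
    show finrank k (LinearMap.range (P ⟨0, hℓ.pos⟩)) = 0
    rw [hP0, LinearMap.range_zero, finrank_bot]
  have hdim : finrank k V ≤ ∑ j, d j := by
    let Ψ : (Π j, Vj j) →ₗ[k] V := ∑ j, (Vj j).subtype ∘ₗ LinearMap.proj j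
    have hΨ : Function.Surjective Ψ := fun v => ⟨fun j => (P j).rangeRestrict v, by
      have := LinearMap.congr_fun hPsum v
      rw [LinearMap.sum_apply, Module.End.one_apply] at this
      simp only [Ψ, LinearMap.sum_apply]
      exact this⟩
    have h := LinearMap.finrank_range_le Ψ
    rw [LinearMap.range_eq_top.2 hΨ, finrank_top, Module.finrank_pi_fintype] at h
    exact h
  set s := Finset.univ.erase (⟨0, hℓ.pos⟩ : Fin ℓ)
  have hs : ∑ j ∈ s, d j = ∑ j, d j := Finset.sum_erase _ hd0
  calc finrank k V ^ 2 ≤ (∑ j ∈ s, d j) ^ 2 := Nat.pow_le_pow_left (hs ▸ hdim) 2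
    _ ≤ s.card * ∑ j ∈ s, d j ^ 2 := sq_sum_le_card_mul_sum_sq
    _ = (ℓ - 1) * ∑ j, d j * d j := by
      rw [Finset.card_erase_of_mem (Finset.mem_univ _), Finset.card_univ, Fintype.card_fin,
        Finset.sum_erase _ (by rw [hd0]; rfl)]
      simp only [sq]
    _ ≤ (ℓ - 1) * finrank k C := Nat.mul_le_mul_left _ h1

variable {W : Type*} [AddCommGroup W] [Module k W] [FiniteDimensional k W] [Nontrivial W]
  {Q : Type*} [Group Q] [Finite Q] {π : Q →* End k W}

/-- The bound. -/
theorem twisted_bound (hβ : ∀ x y, ∃ c : k, π x * π y = c • (π y * π x))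
    (hcent : ∀ x, (∀ y, π x * π y = π y * π x) → x ∈ scalarSub π)
    {ℓ : ℕ} (hℓ : ℓ.Prime) (hℓk : (ℓ : k) ≠ 0) (A : End k W) (hA : ∑ i ∈ range ℓ, A ^ i = 0)
    (α : MulAut Q) (hα : ∀ x, A * π x = π (α x) * A)
    (σ : Q ⧸ scalarSub π → Q ⧸ scalarSub π) (hσ : ∀ x : Q, σ (x : Q ⧸ scalarSub π) = (α x : Q)) :
    IsSquare (scalarSub π).index ∧
      (scalarSub π).index ≤ (ℓ - 1) ^ 2 * Nat.card {q // σ q = q} := by
  classical
  let _ : Fintype (Q ⧸ scalarSub π) := Fintype.ofFinite _
  obtain ⟨m, hm, ⟨e⟩⟩ := exists_matrix hβ hcent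
  refine ⟨⟨m, hm.symm⟩, ?_⟩
  have hAℓ : A ^ ℓ = 1 := by
    have h := geom_sum_mul A ℓ
    rw [hA, zero_mul] at h
    exact sub_eq_zero.1 h.symm
  obtain ⟨n, hn⟩ : ∃ n, ℓ = n + 1 := ⟨ℓ - 1, by have := hℓ.pos; omega⟩
  have hAA : A * A ^ n = 1 := by rw [← pow_succ', ← hn, hAℓ]
  have hAA' : A ^ n * A = 1 := by rw [← pow_succ, ← hn, hAℓ]
  have hconjπ : ∀ x, A * π x * A ^ n = π (α x) := fun x => by rw [hα, mul_assoc, hAA, mul_one]
  -- the induced automorphism
  have hmem : ∀ z ∈ spanAlg π, A * z * A ^ n ∈ spanAlg π := by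
    intro z hz
    change z ∈ Submodule.span k (Set.range π) at hz
    show _ ∈ Submodule.span k (Set.range π)
    induction hz using Submodule.span_induction with
    | mem x hx => obtain ⟨u, rfl⟩ := hx; rw [hconjπ]; exact Submodule.subset_span ⟨_, rfl⟩
    | zero => rw [mul_zero, zero_mul]; exact zero_mem _
    | add x y _ _ h1 h2 => rw [mul_add, add_mul]; exact add_mem h1 h2
    | smul c x _ h => rw [mul_smul_comm, smul_mul_assoc]; exact Submodule.smul_mem _ c h
  let sA : spanAlg π →ₐ[k] spanAlg π :=
    { toFun := fun z => ⟨A * (z : End k W) * A ^ n, hmem _ z.2⟩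
      map_one' := Subtype.ext (by
        show A * 1 * A ^ n = 1
        rw [mul_one, hAA])
      map_mul' := fun z w => Subtype.ext (by
        show A * ((z : End k W) * w) * A ^ n = A * z * A ^ n * (A * w * A ^ n)
        rw [show A * (z : End k W) * A ^ n * (A * w * A ^ n) =
          A * z * (A ^ n * A) * w * A ^ n by simp only [mul_assoc], hAA', mul_one]
        simp only [mul_assoc])
      map_zero' := Subtype.ext (by
        show A * 0 * A ^ n = 0
        rw [mul_zero, zero_mul])
      map_add' := fun z w => Subtype.ext (by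
        show A * ((z : End k W) + w) * A ^ n = A * z * A ^ n + A * w * A ^ n
        rw [mul_add, add_mul])
      commutes' := fun c => Subtype.ext (by
        show A * algebraMap k (End k W) c * A ^ n = algebraMap k (End k W) c
        rw [← Algebra.commutes c A, mul_assoc, hAA, mul_one]) }
  have hsAi : Function.Bijective sA := by
    have hi : Function.Injective sA.toLinearMap := fun z w h => Subtype.ext (by
      have h' : A * (z : End k W) * A ^ n = A * w * A ^ n := congrArg Subtype.val h
      have h'' := congrArg (fun u => A ^ n * u * A) h'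
      simp only [← mul_assoc, hAA', one_mul] at h''
      simpa only [mul_assoc, hAA', mul_one] using h'')
    exact ⟨hi, (LinearMap.injective_iff_surjective.1 hi)⟩
  let τ : End k (Fin m → k) ≃ₐ[k] End k (Fin m → k) :=
    (e.symm.trans (AlgEquiv.ofBijective sA hsAi)).trans e
  obtain ⟨T, hT⟩ := τ.eq_linearEquivConjAlgEquiv
  have hτ : ∀ z, e (sA z) = (T : End k (Fin m → k)) * e z * (T.symm : End k (Fin m → k)) := by
    intro z
    have : τ (e z) = e (sA z) := by simp [τ]
    rw [← this, hT]
    rfl
  let G0 : spanAlg π := e.symm (T : End k (Fin m → k))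
  let G0i : spanAlg π := e.symm (T.symm : End k (Fin m → k))
  have hG0 : G0 * G0i = 1 ∧ G0i * G0 = 1 := by
    constructor <;> apply e.injective <;>
      rw [map_mul, e.apply_symm_apply, e.apply_symm_apply, map_one] <;>
      exact LinearMap.ext fun v => by simp
  have hG0' : (G0 : End k W) * (G0i : End k W) = 1 := congrArg Subtype.val hG0.1
  have hG0'' : (G0i : End k W) * (G0 : End k W) = 1 := congrArg Subtype.val hG0.2
  have hGz : ∀ z : spanAlg π, A * (z : End k W) * A ^ n =
      (G0 : End k W) * z * (G0i : End k W) := by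
    intro z
    have : sA z = G0 * z * G0i := e.injective (by
      rw [map_mul, map_mul, e.apply_symm_apply, e.apply_symm_apply, hτ])
    exact congrArg Subtype.val this
  -- `U = G0⁻¹ A` centralises the algebra
  set U : End k W := (G0i : End k W) * A with hU
  have hUz : ∀ z : spanAlg π, U * (z : End k W) = z * U := by
    intro z
    calc U * (z : End k W) = (G0i : End k W) * (A * z * (A ^ n * A)) := by
          rw [hAA', mul_one, hU, mul_assoc]
      _ = (G0i : End k W) * (A * z * A ^ n) * A := by simp only [mul_assoc]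
      _ = ((G0i : End k W) * (G0 : End k W)) * z * ((G0i : End k W) * A) := by
          rw [hGz]; simp only [mul_assoc]
      _ = z * U := by rw [hG0'', one_mul, hU]
  obtain ⟨u, hu⟩ := Module.End.exists_eigenvalue U
  set E := Module.End.eigenspace U u
  have hE0 : Nontrivial E := by
    rw [Submodule.nontrivial_iff_ne_bot]
    exact hu
  have hEinv : ∀ z : spanAlg π, ∀ v ∈ E, (z : End k W) v ∈ E := fun z v hv => by
    rw [Module.End.mem_eigenspace_iff] at hv ⊢
    rw [← Module.End.mul_apply, hUz, Module.End.mul_apply, hv, map_smul]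
  let res : spanAlg π →+* End k E :=
    { toFun := fun z => (z : End k W).restrict (hEinv z)
      map_one' := rfl
      map_mul' := fun z w => rfl
      map_zero' := rfl
      map_add' := fun z w => rfl }
  set G1 : spanAlg π := u • G0 with hG1
  have hAE : ∀ i : ℕ, ∀ v ∈ E, (A ^ i) v = ((G1 : End k W) ^ i) v := by
    have hA1 : ∀ v ∈ E, A v = (G1 : End k W) v := fun v hv => by
      have h1 : U v = u • v := Module.End.mem_eigenspace_iff.1 hv
      have h2 : A = (G0 : End k W) * U := by rw [hU, ← mul_assoc, hG0', one_mul]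
      rw [h2, Module.End.mul_apply, h1, map_smul]
      rfl
    intro i
    induction i with
    | zero => exact fun v _ => rfl
    | succ i ih =>
      intro v hv
      rw [pow_succ, pow_succ, Module.End.mul_apply, Module.End.mul_apply, hA1 v hv,
        ih _ (hEinv G1 v hv)]
  have hsum0 : res (∑ i ∈ range ℓ, G1 ^ i) = 0 := by
    refine LinearMap.ext fun v => Subtype.ext ?_
    show ((∑ i ∈ range ℓ, G1 ^ i : spanAlg π) : End k W) (v : W) = 0
    rw [AddSubmonoidClass.coe_finsetSum, LinearMap.sum_apply]
    simp only [SubmonoidClass.coe_pow, ← hAE _ _ v.2]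
    rw [← LinearMap.sum_apply, hA, LinearMap.zero_apply]
  have hGsum : ∑ i ∈ range ℓ, (e G1) ^ i = 0 := by
    have hi : Function.Injective res := by
      have : IsSimpleRing (spanAlg π) := by
        have hm0 : m ≠ 0 := fun h => by
          subst h
          exact Subgroup.index_ne_zero_of_finite hm.symm
        have : Nonempty (Fin m) := ⟨⟨0, Nat.pos_of_ne_zero hm0⟩⟩
        exact IsSimpleRing.of_ringEquiv (e.trans algEquivMatrix').symm.toRingEquiv
          inferInstance
      exact res.injective
    have h := congrArg e (hi (hsum0.trans (map_zero res).symm))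
    simpa only [map_sum, map_pow, map_zero] using h
  -- the fixed subalgebra
  obtain ⟨S, hS, hScard⟩ := exists_orbit_reps σ hℓ (fun q => by
    induction q using QuotientGroup.induction_on with | _ x => ?_
    have hit : ∀ i : ℕ, σ^[i] (x : Q ⧸ scalarSub π) = ((α^[i] x : Q) : Q ⧸ scalarSub π) := by
      intro i
      induction i with
      | zero => rfl
      | succ i ih => rw [Function.iterate_succ_apply', Function.iterate_succ_apply', ih, hσ]
    have hπ : ∀ i : ℕ, A ^ i * π x = π (α^[i] x) * A ^ i := by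
      intro i
      induction i with
      | zero => simp
      | succ i ih =>
        rw [pow_succ', mul_assoc, ih, ← mul_assoc, hα, Function.iterate_succ_apply', mul_assoc]
    rw [hit, QuotientGroup.eq]
    refine ⟨1, ?_⟩
    have h := hπ ℓ
    rw [hAℓ, one_mul, mul_one] at h
    rw [one_smul, map_mul, h, ← map_mul, inv_mul_cancel, map_one])
  let B := Basis.span (linearIndependent_transOp hβ hcent)
  have hspan : Submodule.span k (Set.range (transOp π)) = Subalgebra.toSubmodule (spanAlg π) :=
    span_transOp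
  -- centraliser of `G` against the fixed points
  let C : Submodule k (End k (Fin m → k)) :=
    { carrier := {Y | Commute (e G1) Y}
      zero_mem' := Commute.zero_right _
      add_mem' := Commute.add_right
      smul_mem' := fun c _ h => Commute.smul_right h c }
  let L : End k (Fin m → k) →ₗ[k] (S → k) :=
    { toFun := fun Y q => B.repr ⟨(e.symm Y : End k W), hspan.ge (e.symm Y).2⟩
        (q : Q ⧸ scalarSub π)
      map_add' := fun Y Z => funext fun q => by
        rw [Pi.add_apply, ← Finsupp.add_apply, ← map_add]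
        congr 2
        exact Subtype.ext (by rw [Submodule.coe_add, map_add]; rfl)
      map_smul' := fun c Y => funext fun q => by
        rw [RingHom.id_apply, Pi.smul_apply, ← Finsupp.smul_apply, ← map_smul]
        congr 2
        exact Subtype.ext (by rw [Submodule.coe_smul, map_smul]; rfl) }
  let coord : C →ₗ[k] (S → k) := L.domRestrict C
  have hu0 : u ≠ 0 := by
    intro h
    obtain ⟨v, hv⟩ := exists_ne (0 : E)
    apply hv
    apply Subtype.ext
    have h2 := hAE ℓ v v.2
    have hG10 : G1 = 0 := by rw [hG1, h, zero_smul]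
    rw [hAℓ, hG10, ZeroMemClass.coe_zero, zero_pow hℓ.ne_zero, Module.End.one_apply,
      LinearMap.zero_apply] at h2
    exact h2
  have hcoord : Function.Injective coord := by
    suffices hker : ∀ Y : End k (Fin m → k), Y ∈ C → L Y = 0 → Y = 0 by
      intro a b h
      refine Subtype.ext (sub_eq_zero.1 (hker _ (C.sub_mem a.2 b.2) ?_))
      rw [map_sub, sub_eq_zero]
      exact h
    intro Y hY hY0
    set z := e.symm Y with hz
    have hfix : A * (z : End k W) * A ^ n = z := by
      have h2 : G0 * z = z * G0 := by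
        have h1 : G1 * z = z * G1 := e.injective (by
          rw [map_mul, map_mul, e.apply_symm_apply]
          exact hY.eq)
        rw [hG1, smul_mul_assoc, mul_smul_comm] at h1
        have := congrArg (fun w => u⁻¹ • w) h1
        simpa only [smul_smul, inv_mul_cancel₀ hu0, one_smul] using this
      rw [hGz z, show (G0 : End k W) * z = z * G0 from congrArg Subtype.val h2, mul_assoc, hG0',
        mul_one]
    set z' : Submodule.span k (Set.range (transOp π)) := ⟨(z : End k W), hspan.ge z.2⟩
    set f := fun q => B.repr z' q with hf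
    have hz' : ∑ q, f q • transOp π q = (z : End k W) := by
      have h := congrArg Subtype.val (B.sum_repr z')
      rw [Submodule.coe_sum] at h
      rw [← show (z' : End k W) = (z : End k W) from rfl, ← h]
      refine Finset.sum_congr rfl fun q _ => ?_
      rw [Submodule.coe_smul, Basis.coe_span_apply]
    have hperm : ∀ q, ∃ c : k, A * transOp π q * A ^ n = c • transOp π (σ q) := fun q => by
      show ∃ c : k, A * π q.out * A ^ n = _
      rw [hconjπ]
      obtain ⟨c, hc⟩ := exists_transOp (π := π) (α q.out)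
      refine ⟨c, hc.trans ?_⟩
      congr 2
      conv_rhs => rw [← QuotientGroup.out_eq' q, hσ]
    choose c hc using hperm
    have hσi : Function.Injective σ := by
      intro a b
      induction a using QuotientGroup.induction_on with | _ x => ?_
      induction b using QuotientGroup.induction_on with | _ y => ?_
      rw [hσ, hσ, QuotientGroup.eq, QuotientGroup.eq, ← map_inv, ← map_mul]
      rintro ⟨s, hs⟩
      refine ⟨s, ?_⟩
      have h1 : A * π (x⁻¹ * y) = s • A := by rw [hα, hs, smul_mul_assoc, one_mul]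
      have h2 := congrArg (fun w => A ^ n * w) h1
      simp only [← mul_assoc, hAA', one_mul, mul_smul_comm] at h2
      exact h2
    have hσs : Function.Bijective σ := Finite.injective_iff_bijective.1 hσi
    have heq : ∀ q, f (σ q) = f q * c q := by
      intro q
      have h1 : ∑ q', (f q' * c q') • transOp π (σ q') = ∑ q', f (σ q') • transOp π (σ q') := by
        rw [Fintype.sum_bijective σ hσs (fun q' => f (σ q') • transOp π (σ q'))
          (fun q' => f q' • transOp π q') fun _ => rfl, hz']
        conv_rhs => rw [← hfix, ← hz']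
        simp only [Finset.mul_sum, Finset.sum_mul, mul_smul_comm, smul_mul_assoc, hc, smul_smul]
      have h2 := ((linearIndependent_transOp hβ hcent).comp σ hσi)
      exact (Fintype.linearIndependent_iff.1 h2 (fun q' => f (σ q') - f q' * c q') (by
        simp only [Function.comp_apply, sub_smul, Finset.sum_sub_distrib, h1, sub_self]) q) |>
          sub_eq_zero.1
    have hc0 : ∀ q, c q ≠ 0 := fun q h => by
      have h1 := hc q
      rw [h, zero_smul] at h1
      change A * π q.out * A ^ n = 0 at h1
      rw [hconjπ] at h1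
      exact apply_ne_zero _ h1
    have hf0 : ∀ q, f q = 0 := by
      intro q
      obtain ⟨i, hi⟩ := hS q
      have hiter : ∀ i : ℕ, f (σ^[i] q) = 0 → f q = 0 := by
        intro i
        induction i with
        | zero => exact id
        | succ i ih =>
          intro h
          rw [Function.iterate_succ_apply', heq] at h
          exact ih ((mul_eq_zero.1 h).resolve_right (hc0 _))
      exact hiter i (congrFun hY0 ⟨_, hi⟩)
    have hz0 : z = 0 := Subtype.ext (by rw [← hz']; simp [hf0])
    rw [← e.apply_symm_apply Y, ← hz, hz0, map_zero]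
  have h1 := sq_le_mul_finrank_centralizer hℓ hℓk (e G1) hGsum C fun Y hY => hY
  have h2 := LinearMap.finrank_le_finrank_of_injective hcoord
  rw [Module.finrank_fintype_fun_eq_card, Fintype.card_coe] at h2
  rw [Module.finrank_fin_fun] at h1
  rw [Subgroup.index_eq_card] at hm ⊢
  set N := Nat.card (Q ⧸ scalarSub π)
  set F' := Nat.card {q // σ q = q}
  have h3 : N ≤ (ℓ - 1) * S.card := by
    calc N = m ^ 2 := by rw [sq, hm]
      _ ≤ (ℓ - 1) * finrank k C := h1
      _ ≤ _ := Nat.mul_le_mul_left _ h2
  have h4 := Nat.mul_le_mul_left (ℓ - 1) hScard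
  have h5 : ℓ * N ≤ (ℓ - 1) * N + (ℓ - 1) ^ 2 * F' := by
    calc ℓ * N ≤ ℓ * ((ℓ - 1) * S.card) := Nat.mul_le_mul_left _ h3
      _ = (ℓ - 1) * (ℓ * S.card) := by ring
      _ ≤ (ℓ - 1) * (N + (ℓ - 1) * F') := h4
      _ = _ := by ring
  have hl : ℓ * N = (ℓ - 1) * N + N := by
    conv_lhs => rw [show ℓ = (ℓ - 1) + 1 by omega, add_mul, one_mul]
  omega

end Cfsg.Agent.FittingHeight
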