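import Cfsg.Agent.Lib.FittingHeight.CyclicCore
import Cfsg.Agent.Lib.FittingHeight.PairingSpace
import Cfsg.Agent.Lib.FittingHeight.TwoPowerArith

/-!
# The Hall–Higman bound for the part inverted by the involution of a cyclic 2-group

`A = ⟨s⟩` of order `2 ^ n` has no fixed vector on `E`, `t = s ^ 2 ^ (n-1)` inverts the `q`-group `Q`
modulo the central subgroup `Z`, and `χ` is a weight of `Z`. Unless the pairing of `χ` is trivial,
its radical has index `q ^ 2` and the stabiliser of `χ` has order `q + 1`.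
-/

set_option linter.style.haveILetI false
set_option linter.unusedSectionVars false

namespace Cfsg.Agent.FittingHeight

open Subgroup SemidirectProduct
open scoped commutatorElement


/-- On a plane `y ^ 2 ^ (d-1) = -1` excludes `q = 2 ^ (d-1) ± 1`. -/
theorem no_half_plane {q : ℕ} [Fact q.Prime] (hq2 : q ≠ 2) {d : ℕ} (hd : 3 ≤ d)
    (hq : q + 1 = 2 ^ (d - 1) ∨ q = 2 ^ (d - 1) + 1) {V : Type*} [AddCommGroup V]
    [Module (ZMod q) V] [Finite V] {C : Type*} [AddCommGroup C] {β : V →+ V →+ C}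
    (halt : ∀ x, β x x = 0) (hnd : ∀ x, (∀ v, β v x = 0) → x = 0)
    (h2 : ∀ c : C, c + c = 0 → c = 0) (hcard : Nat.card V = q ^ 2)
    {y : (Module.End (ZMod q) V)ˣ} (hyi : Plane.Iso β y)
    (hy : (y : Module.End (ZMod q) V) ^ 2 ^ (d - 1) = -1) : False := by
  haveI : Nontrivial V := Finite.one_lt_card_iff_nontrivial.1 (by
    rw [hcard]; exact Nat.one_lt_pow two_ne_zero (Fact.out : q.Prime).one_lt)
  haveI : CharP (Module.End (ZMod q) V) q :=
    charP_of_injective_algebraMap (algebraMap (ZMod q) (Module.End (ZMod q) V)).injective q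
  haveI : ExpChar (Module.End (ZMod q) V) q := ExpChar.prime Fact.out
  set Y := (y : Module.End (ZMod q) V) with hY
  set Yi := ((y⁻¹ : (Module.End (ZMod q) V)ˣ) : Module.End (ZMod q) V) with hYi
  have hYY : Y * Yi = 1 := Units.mul_inv y
  have hYY' : Yi * Y = 1 := Units.inv_mul y
  obtain ⟨c, hc⟩ := Plane.scalar_of_symm halt hnd h2 hcard (Y + Yi) (by
    have := hyi.adj.add hyi.inv.adj
    rwa [inv_inv, add_comm Yi] at this)
  have hco : Commute Y Yi := hYY.trans hYY'.symm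
  have hinvq : Y ^ q * Yi ^ q = 1 := by rw [← hco.mul_pow, hYY, one_pow]
  have hpow := congrArg (· ^ q) hc
  simp only [add_pow_expChar_of_commute q hco, Plane.smul_one_pow_card] at hpow
  have hneg : Y ^ q + Yi ^ q = -(Y + Yi) := by
    rcases hq with hq | hq
    · have h1 : Y ^ q * Y = -1 := by
        rw [← pow_succ]; exact (congrArg (Y ^ ·) hq).trans hy
      have e1 : Y ^ q = -Yi := by
        rw [← mul_one (Y ^ q), ← hYY, ← mul_assoc, h1, neg_one_mul]
      have e2 : Yi ^ q = -Y := by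
        have : Yi * Yi ^ q = Yi * -Y := by
          rw [mul_neg, hYY', ← neg_inj, ← neg_mul, ← e1, hinvq, neg_neg]
        simpa [← mul_assoc, hYY] using congrArg (Y * ·) this
      rw [e1, e2]; abel
    · have e1 : Y ^ q = -Y :=
        (congrArg (Y ^ ·) hq).trans (by rw [pow_succ, hy, neg_one_mul])
      have e2 : Yi ^ q = -Yi := by
        have : Y * Yi ^ q = Y * -Yi := by
          rw [mul_neg, hYY, ← neg_inj, ← neg_mul, ← e1, hinvq, neg_neg]
        simpa [← mul_assoc, hYY'] using congrArg (Yi * ·) this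
      rw [e1, e2]; abel
  rw [hneg, hc, ← neg_smul] at hpow
  have hc0 : c = 0 := by
    have h := Plane.smul_one_inj (A := Module.End (ZMod q) V) hpow
    have : 2 * c = 0 := by linear_combination -h
    exact (mul_eq_zero.1 this).resolve_left (Plane.two_ne_zero' hq2)
  rw [hc0, zero_smul] at hc
  have hsq : Y * Y = -1 := by
    nth_rw 2 [eq_neg_of_add_eq_zero_left hc]
    rw [mul_neg, hYY]
  refine Plane.neg_one_ne_one' (A := Module.End (ZMod q) V) hq2 ?_
  rw [← hy, show d - 1 = 1 + (1 + (d - 3)) by omega, pow_add, pow_mul, pow_one, pow_two, hsq,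
    pow_add, pow_mul, pow_one, neg_one_sq, one_pow]

/-- `Sp₄(3)` has no `y` with `y ^ 8 = -1`. -/
theorem no_nine {V : Type*} [AddCommGroup V] [Module (ZMod 3) V] [Finite V] [Nontrivial V]
    {C : Type*} [AddCommGroup C] {β : V →+ V →+ C} (hnd : ∀ x, (∀ v, β v x = 0) → x = 0)
    (hcard : Nat.card V = 81) {y : (Module.End (ZMod 3) V)ˣ} (hyi : Plane.Iso β y)
    (hy : (y : Module.End (ZMod 3) V) ^ 8 = -1) : False := by
  haveI : Fact (Nat.Prime 3) := ⟨Nat.prime_three⟩
  set W := ((y ^ 2 : (Module.End (ZMod 3) V)ˣ) : Module.End (ZMod 3) V) with hW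
  set Wi := (((y ^ 2)⁻¹ : (Module.End (ZMod 3) V)ˣ) : Module.End (ZMod 3) V) with hWi
  have hWW : W * Wi = 1 := Units.mul_inv _
  have h3 : (3 : Module.End (ZMod 3) V) = 0 := by
    rw [← map_ofNat (algebraMap (ZMod 3) (Module.End (ZMod 3) V)) 3, show (3 : ZMod 3) = 0 from rfl,
      map_zero]
  have hW4 : W * W * (W * W) = -1 := by
    rw [← hy, hW, Units.val_pow_eq_pow_val, ← pow_add, ← pow_add]
  have hdbl : W + W = 0 → False := by
    intro h
    have hne : (1 : Module.End (ZMod 3) V) + 1 ≠ 0 := fun e =>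
      Plane.neg_one_ne_one' (A := Module.End (ZMod 3) V) (show (3 : ℕ) ≠ 2 by norm_num) (neg_eq_of_add_eq_zero_left e)
    apply hne
    rw [← hWW, ← add_mul, h, zero_mul]
  set f : Module.End (ZMod 3) V := W * W + W - 1 with hf
  set g : Module.End (ZMod 3) V := W * W - W - 1 with hg
  have hfg : f * g = 0 := by
    have : f * g = W * W * (W * W) + 1 - 3 * (W * W) := by
      rw [hf, hg, show (3 : Module.End (ZMod 3) V) = 1 + 1 + 1 by norm_num]
      noncomm_ring
    rw [this, hW4, h3, zero_mul, neg_add_cancel, sub_zero]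
  have hgf : g * f = 0 := by rw [← hfg, hf, hg]; noncomm_ring
  -- an operator `W² ± W - 1` is not zero
  have hnz : ∀ ε : ZMod 3, ε = 1 ∨ ε = -1 → W * W + ε • W - 1 ≠ 0 := by
    intro ε hε h0
    have a1 : Plane.Adj β W Wi := (hyi.pow 2).adj
    have a0 := ((a1.mul a1).add ((Plane.Adj.smul_one β ε).mul a1)).sub (Plane.Adj.one β)
    rw [smul_mul_assoc, one_mul, mul_smul_comm, mul_one] at a0
    have hz : Wi * Wi + ε • Wi - 1 = 0 := by
      refine LinearMap.ext fun v => hnd _ fun u => ?_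
      rw [← a0 u v, h0, LinearMap.zero_apply, map_zero, AddMonoidHom.zero_apply]
    have h1 : W * W * (Wi * Wi + ε • Wi - 1) = 0 := by rw [hz, mul_zero]
    rw [mul_sub, mul_add, mul_smul_comm, mul_one, show W * W * (Wi * Wi) = 1 by
      rw [mul_assoc, ← mul_assoc W Wi Wi, hWW, one_mul, hWW],
      show W * W * Wi = W by rw [mul_assoc, hWW, mul_one]] at h1
    refine hdbl ?_
    have h2 : ε • (W + W) = (W * W + ε • W - 1) + (1 + ε • W - W * W) := by rw [smul_add]; abel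
    rw [h0, h1, add_zero] at h2
    exact (smul_eq_zero.1 h2).resolve_left (by rcases hε with rfl | rfl <;> simp)
  have hsemi : ∀ x : V, x ≠ 0 → Function.Injective
      fun i : Fin 16 => ((y ^ (i : ℕ) : (Module.End (ZMod 3) V)ˣ) : Module.End (ZMod 3) V) x := by
    intro x hx
    have key : ∀ e : ℕ, 0 < e → e < 16 →
        ((y ^ e : (Module.End (ZMod 3) V)ˣ) : Module.End (ZMod 3) V) x ≠ x := by
      intro e he he' heq
      obtain ⟨l, hl, hl'⟩ : ∃ l < 16, e * l % 16 = 8 := by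
        interval_cases e <;> decide
      have hper : ∀ l, ((y ^ (e * l) : (Module.End (ZMod 3) V)ˣ) : Module.End (ZMod 3) V) x = x := by
        intro l
        induction l with
        | zero => simp
        | succ l ih => rw [Nat.mul_succ, pow_add, Units.val_mul, Module.End.mul_apply, heq, ih]
      have h16 : y ^ 16 = 1 := Units.ext (by
        rw [Units.val_pow_eq_pow_val, show 16 = 8 * 2 by norm_num, pow_mul, hy, neg_one_sq,
          Units.val_one])
      have := hper l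
      rw [pow_eq_pow_mod (e * l) h16, hl', Units.val_pow_eq_pow_val, hy, LinearMap.neg_apply,
        Module.End.one_apply] at this
      refine hx ((smul_eq_zero.1 (?_ : (2 : ZMod 3) • x = 0)).resolve_left (Plane.two_ne_zero' (show (3 : ℕ) ≠ 2 by norm_num)))
      rw [show (2 : ZMod 3) = 1 + 1 by norm_num, add_smul, one_smul]
      exact neg_eq_iff_add_eq_zero.1 this
    intro a b hab
    simp only at hab
    by_contra hne
    rcases Nat.lt_or_ge (a : ℕ) b with h | h
    · refine key (b - a) (by omega) (by omega) ?_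
      refine ((Module.End.isUnit_iff _).1 (y ^ (a : ℕ)).isUnit).1 ?_
      rw [← Module.End.mul_apply, ← Units.val_mul, ← pow_add, show (a : ℕ) + (b - a) = b by omega]
      exact hab.symm
    · have : (b : ℕ) ≠ a := fun e => hne (Fin.ext e.symm)
      refine key (a - b) (by omega) (by omega) ?_
      refine ((Module.End.isUnit_iff _).1 (y ^ (b : ℕ)).isUnit).1 ?_
      rw [← Module.End.mul_apply, ← Units.val_mul, ← pow_add, show (b : ℕ) + (a - b) = a by omega]
      exact hab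
  -- kernels of operators commuting with `y`
  have hbig : ∀ u u' : Module.End (ZMod 3) V, u * u' = 0 → u' ≠ 0 →
      Commute u (y : Module.End (ZMod 3) V) → 17 ≤ Nat.card (LinearMap.ker u) := by
    intro u u' huu hu' hcy
    obtain ⟨z, hz⟩ : ∃ z, u' z ≠ 0 := by
      by_contra hall
      push Not at hall
      exact hu' (LinearMap.ext hall)
    have hin : u' z ∈ LinearMap.ker u := by
      rw [LinearMap.mem_ker, ← Module.End.mul_apply, huu, LinearMap.zero_apply]
    let F : Option (Fin 16) → LinearMap.ker u := fun o => o.elim 0 fun i =>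
      ⟨((y ^ (i : ℕ) : (Module.End (ZMod 3) V)ˣ) : Module.End (ZMod 3) V) (u' z), by
        rw [LinearMap.mem_ker, Units.val_pow_eq_pow_val, ← Module.End.mul_apply,
          (hcy.pow_right _).eq, Module.End.mul_apply, LinearMap.mem_ker.1 hin, map_zero]⟩
    have hF : Function.Injective F := by
      have h0 : ∀ i, F (some i) ≠ 0 := fun i e => hz
        (((Module.End.isUnit_iff _).1 (y ^ (i : ℕ)).isUnit).1
          ((congrArg Subtype.val e).trans (map_zero _).symm))
      rintro (_ | a) (_ | b) hab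
      · rfl
      · exact absurd hab.symm (h0 b)
      · exact absurd hab (h0 a)
      · exact congrArg some (hsemi _ hz (congrArg Subtype.val hab))
    have := Nat.card_le_card_of_injective F hF
    simpa using this
  have hcy : Commute W (y : Module.End (ZMod 3) V) := by
    rw [hW, Units.val_pow_eq_pow_val]; exact (Commute.refl _).pow_left 2
  have hf0 : f ≠ 0 := by
    have := hnz 1 (Or.inl rfl)
    rwa [one_smul] at this
  have hg0 : g ≠ 0 := by
    have := hnz (-1) (Or.inr rfl)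
    rwa [neg_smul, one_smul, ← sub_eq_add_neg] at this
  have k1 := hbig f g hfg hg0 (((hcy.mul_left hcy).add_left hcy).sub_left (Commute.one_left _))
  have k2 := hbig g f hgf hf0 (((hcy.mul_left hcy).sub_left hcy).sub_left (Commute.one_left _))
  have hinj : Function.Injective fun p : LinearMap.ker f × LinearMap.ker g =>
      (p.1 : V) + (p.2 : V) := by
    rintro ⟨a, b⟩ ⟨a', b'⟩ h
    set d := (a : V) - a' with hd
    have hda : f d = 0 := by
      rw [hd, map_sub, LinearMap.mem_ker.1 a.2, LinearMap.mem_ker.1 a'.2, sub_zero]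
    have hdb : g d = 0 := by
      rw [show d = (b' : V) - b from sub_eq_sub_iff_add_eq_add.2 (h.trans (add_comm _ _)), map_sub,
        LinearMap.mem_ker.1 b'.2, LinearMap.mem_ker.1 b.2, sub_zero]
    have : (f - g) d = 0 := by rw [LinearMap.sub_apply, hda, hdb, sub_zero]
    rw [show f - g = (2 : ZMod 3) • W by
      rw [hf, hg, show (2 : ZMod 3) = 1 + 1 by norm_num, add_smul, one_smul]; abel,
      LinearMap.smul_apply, smul_eq_zero] at this
    have hd0 : d = 0 := ((Module.End.isUnit_iff _).1 (y ^ 2).isUnit).1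
      ((this.resolve_left (Plane.two_ne_zero' (show (3 : ℕ) ≠ 2 by norm_num))).trans (map_zero _).symm)
    rw [hd, sub_eq_zero] at hd0
    simp only [hd0, add_right_inj] at h
    exact Prod.ext (Subtype.ext hd0) (Subtype.ext h)
  have := Nat.card_le_card_of_injective _ hinj
  rw [Nat.card_prod, hcard] at this
  have := Nat.mul_le_mul k1 k2
  omega

variable {M : Type*} [Group M] [Finite M] {A : Type*} [CommGroup A] [Fintype A] {φ : A →* MulAut M}
  {k : Type*} [Field k] [IsAlgClosed k] {E : Type*} [AddCommGroup E] [Module k E]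
  [FiniteDimensional k E] (ρ : M ⋊[φ] A →* Module.End k E) {n : ℕ} {s : A}

include ρ in
theorem twoPower_bound (hn : n ≠ 0) (hcard : Nat.card A = 2 ^ n) (hgen : ∀ a, a ∈ zpowers s)
    (hAk : (Nat.card A : k) ≠ 0) (hsum : ∀ v, ∑ a : A, ρ (inr a) v = 0)
    {q : ℕ} [hqF : Fact q.Prime] (hq2 : q ≠ 2) (hqk : (q : k) ≠ 0)
    (Q Z : Subgroup M) (hQi : ∀ a, ∀ x ∈ Q, φ a x ∈ Q) (hQq : IsPGroup q Q) (hZQ : Z ≤ Q)
    (hZi : ∀ a, ∀ x ∈ Z, φ a x ∈ Z) (hZcen : Z ≤ centralizer (Q : Set M))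
    (hcom : ∀ x ∈ Q, ∀ y ∈ Q, ⁅x, y⁆ ∈ Z) (hinvt : ∀ x ∈ Q, x * φ (s ^ 2 ^ (n - 1)) x ∈ Z)
    (χ : (Z.map (inl : M →* M ⋊[φ] A)) →* k) (v : E) (hv0 : v ≠ 0)
    (hv : v ∈ weightSpace ρ (Z.map inl) χ) (P : QPairing Q k q)
    (hP : ∀ y x : Q, ((P.toFun y x : kˣ) : k) = wVal Z χ ⁅(y : M), (x : M)⁆) (hne : P.rad ≠ ⊤) :
    ∃ j < n, 2 ≤ n - j ∧ s ^ 2 ^ j ∈ aStab Z χ ∧ q + 1 = 2 ^ (n - j) ∧ P.rad.index = q ^ 2 := by
  classical
  have hp : Nat.Prime 2 := Nat.prime_two
  set t := s ^ 2 ^ (n - 1) with ht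
  have ht1 : t ≠ 1 := by
    intro h
    have := orderOf_dvd_of_pow_eq_one h
    rw [orderOf_eq_card_of_forall_mem_zpowers hgen, hcard] at this
    have := (Nat.pow_dvd_pow_iff_le_right hp.one_lt).1 this
    omega
  have hQk : (Nat.card Q : k) ≠ 0 := by
    obtain ⟨e, he⟩ := hQq.exists_card_eq
    rw [he, Nat.cast_pow]
    exact pow_ne_zero _ hqk
  have haStab : ∀ (L : Subgroup M) (_ : ∀ a, ∀ x ∈ L, φ a x ∈ L)
      (χ : (L.map (inl : M →* M ⋊[φ] A)) →* k) (v : E), v ≠ 0 →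
      v ∈ weightSpace ρ (L.map inl) χ → t ∈ aStab L χ := fun L hL χ v hv0 hv =>
    tau_mem_of_ne_bot hp hcard hgen (aStab_ne_bot ρ hL hv hv0 (hsum v))
  set ξ := wVal Z χ with hξ
  obtain ⟨j, hj, hH, hord⟩ :=
    exists_eq_zpowers_pow hp hcard hgen (aStab_ne_bot ρ hZi hv hv0 (hsum v))
  set h := s ^ 2 ^ j with hh
  have hhmem : h ∈ aStab Z χ := hH ▸ mem_zpowers h
  set W := weightSpace ρ (Z.map inl) χ with hW
  have hWQ : ∀ x ∈ Q, ∀ w ∈ W, ρ (inl x) w ∈ W := fun x hx w hw =>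
    mapsTo_weightSpace_of_commute ρ (inl_mem_centralizer (mem_centralizer_iff.2 fun y (hy : y ∈ Z) =>
      (mem_centralizer_iff.1 (hZcen hy) x hx).symm)) hw
  have hWh : ∀ a ∈ aStab Z χ, ∀ w ∈ W, ρ (inr a) w ∈ W := fun a ha w hw => by
    have := mapsTo_weightSpace ρ (inr_mem_normalizer hZi a) hw
    rwa [(mem_wStab_iff _).1 (mem_aStab.1 ha)] at this
  have hWscal : ∀ z ∈ Z, ∀ w ∈ W, ρ (inl z) w = ξ z • w := fun z hz w hw =>
    apply_eq_wVal_smul ρ hw hz
  have hWsum : ∀ w ∈ W, ∑ a : aStab Z χ, ρ (inr (a : A)) w = 0 := fun w hw =>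
    sum_aStab_eq_zero ρ hZi hw (hsum w)
  haveI : Nontrivial W := ⟨⟨⟨v, hv⟩, 0, fun e => hv0 (congrArg Subtype.val e)⟩⟩
  let π : Q →* Module.End k W :=
    { toFun := fun x => (ρ (inl (x : M))).restrict (hWQ x x.2)
      map_one' := LinearMap.ext fun w => Subtype.ext (by
        show ρ (inl ((1 : Q) : M)) (w : E) = w
        rw [OneMemClass.coe_one, map_one, apply_one])
      map_mul' := fun x y => LinearMap.ext fun w => Subtype.ext (by
        show ρ (inl ((x * y : Q) : M)) (w : E) = ρ (inl (x : M)) (ρ (inl (y : M)) (w : E))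
        rw [Subgroup.coe_mul, map_mul, apply_mul]) }
  let S : Module.End k W := (ρ (inr h)).restrict (hWh h hhmem)
  let ψ := restrictAct φ Q hQi
  let c : Q → Q → M := fun y x => ⁅(y : M), (x : M)⁆
  have hc : ∀ y x : Q, c y x ∈ Z := fun y x => hcom _ y.2 _ x.2
  have hπc : ∀ y x : Q, π ⁅y, x⁆ = ξ (c y x) • 1 := fun y x => LinearMap.ext fun w => Subtype.ext (by
    show ρ (inl ((⁅y, x⁆ : Q) : M)) (w : E) = ξ (c y x) • (w : E)
    exact hWscal _ (hc y x) _ w.2)
  set Z' := Z.subgroupOf Q with hZ'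
  have hZ'c : Z' ≤ center Q := fun z hz => mem_center_iff.2 fun g =>
    Subtype.ext (mem_centralizer_iff.1 (hZcen (show (z : M) ∈ Z from hz)) g g.2)
  have hcom' : ∀ y x : Q, ⁅y, x⁆ ∈ Z' := fun y x => hc y x
  let ξ' : Z' →* k :=
    { toFun := fun z => ξ ((z : Q) : M)
      map_one' := wVal_one
      map_mul' := fun a b => wVal_mul (show ((a : Q) : M) ∈ Z from a.2) b.2 }
  have hbil : ∀ y x x' : Q, ξ (c y (x * x')) = ξ (c y x) * ξ (c y x') := fun y x x' => by
    rw [← wVal_mul (hc y x) (hc y x')]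
    congr 1
    show ((⁅y, x * x'⁆ : Q) : M) = ((⁅y, x⁆ * ⁅y, x'⁆ : Q) : M)
    rw [PGroup.commutator_mul_right (hZ'c (hcom' y x'))]
  set R : Subgroup Q := P.rad with hRdef
  have hPξ : ∀ y x : Q, P.toFun y x = 1 ↔ ξ' ⟨⁅y, x⁆, hcom' y x⟩ = 1 := fun y x => by
    show _ ↔ ξ (c y x) = 1
    rw [← hP y x, Units.val_eq_one, OneMemClass.coe_eq_one]
  have hR : ∀ x, x ∈ R ↔ ∀ y, ξ' ⟨⁅y, x⁆, hcom' y x⟩ = 1 := fun x =>
    P.mem_rad.trans (forall_congr' fun y => hPξ y x)
  have hZR : Z' ≤ R := fun z hz => (hR z).2 fun y => by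
    rw [← map_one ξ']; congr 1; apply Subtype.ext
    exact commutatorElement_eq_one_iff_mul_comm.2 (mem_center_iff.1 (hZ'c hz) y)
  have hRn : R.Normal := ⟨fun x hx g => by
    have : g * x * g⁻¹ = ⁅g, x⁆ * x := by group
    rw [this]; exact mul_mem (hZR (hcom' g x)) hx⟩
  have hZ'n : Z'.Normal := ⟨fun z hz g => by
    rw [mem_center_iff.1 (hZ'c hz) g, mul_inv_cancel_right]; exact hz⟩
  have hZ'i : ∀ a, ∀ z ∈ Z', ψ a z ∈ Z' := fun a z hz => hZi a z hz
  have hfree : ∀ a : A, a ≠ 1 → ∀ g : Q, g⁻¹ * ψ a g ∈ Z' → g ∈ Z' := by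
    intro a ha g hg
    obtain ⟨e, he⟩ := mem_powers_iff_mem_zpowers.2 (tau_mem_of_ne_bot hp hcard hgen (H := zpowers a)
      (by rwa [Ne, zpowers_eq_bot]))
    replace he : a ^ e = t := he
    have hgt : ∀ e, g⁻¹ * ψ (a ^ e) g ∈ Z' := by
      intro e
      induction e with
      | zero => simp
      | succ e ih =>
        rw [pow_succ', map_mul, MulAut.mul_apply]
        have h1 : ψ a (g⁻¹ * ψ (a ^ e) g) ∈ Z' := hZ'i a _ ih
        have := mul_mem hg h1
        rwa [map_mul, map_inv, mul_assoc, mul_inv_cancel_left] at this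
    have h1 := hgt e
    rw [he] at h1
    have h2 : g * g ∈ Z' := by
      have h3 : g * ψ t g ∈ Z' := hinvt _ g.2
      have := mul_mem h3 (inv_mem h1)
      rwa [show g * ψ t g * (g⁻¹ * ψ t g)⁻¹ = g * g by group] at this
    obtain ⟨e', he'⟩ := hQq g
    obtain ⟨i, hi⟩ := ((hqF.out.odd_of_ne_two hq2).pow (n := e'))
    have : g = (g * g) ^ (i + 1) := by
      rw [← pow_two, ← pow_mul, show 2 * (i + 1) = q ^ e' + 1 by omega, pow_succ, he', one_mul]
    rw [this]
    exact pow_mem h2 _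
  -- `t` is semiregular on `Q/R` and on `R/Z`, and `R` is scalar
  have hinv : ∀ a ∈ aStab Z χ, ∀ z : Z', ξ' ⟨ψ a z, hZ'i a _ z.2⟩ = ξ' z := fun a ha z =>
    wVal_act hZi ha z.2
  have hRi : ∀ a ∈ aStab Z χ, ∀ x ∈ R, ψ a x ∈ R := fun a ha x hx => (hR _).2 fun y => by
    obtain ⟨y, rfl⟩ := (ψ a).surjective y
    rw [← (hR x).1 hx y, ← hinv a ha ⟨⁅y, x⁆, hcom' y x⟩]
    congr 1; exact Subtype.ext (map_commutatorElement (ψ a) y x).symm
  have htst : t ∈ aStab Z χ := haStab Z hZi χ v hv0 hv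
  let act : A →* MulAut (Q ⧸ Z') := quotAct ψ Z' hZ'i
  have hqcomm : ∀ u w : Q ⧸ Z', u * w = w * u := by
    intro u w
    induction u using QuotientGroup.induction_on with | H x => ?_
    induction w using QuotientGroup.induction_on with | H y => ?_
    rw [← QuotientGroup.mk_mul, ← QuotientGroup.mk_mul, QuotientGroup.eq,
      show (x * y)⁻¹ * (y * x) = ⁅y⁻¹, x⁻¹⁆ by group]
    exact hcom' _ _
  have hact : ∀ u : Q ⧸ Z', act t u = u → u = 1 := by
    intro u
    induction u using QuotientGroup.induction_on with | H x => ?_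
    intro hx
    exact (QuotientGroup.eq_one_iff x).2 (hfree t ht1 x (QuotientGroup.eq.1 (Eq.symm hx)))
  set Rb := R.map (QuotientGroup.mk' Z') with hRb
  have hRbi : ∀ u ∈ Rb, u⁻¹ * act t u ∈ Rb := by
    rintro _ ⟨x, hx, rfl⟩
    exact mul_mem (inv_mem ⟨x, hx, rfl⟩) ⟨ψ t x, hRi t htst x hx, rfl⟩
  let fR : Rb → Rb := fun u => ⟨(u : Q ⧸ Z')⁻¹ * act t u, hRbi _ u.2⟩
  have hfRinj : Function.Injective fR := by
    intro u w huw
    have h1 : (u : Q ⧸ Z')⁻¹ * act t u = (w : Q ⧸ Z')⁻¹ * act t w := congrArg Subtype.val huw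
    refine Subtype.ext (mul_inv_eq_one.1 (hact _ ?_))
    rw [map_mul, map_inv]
    calc act t u * (act t w)⁻¹ = (u : Q ⧸ Z') * ((u : Q ⧸ Z')⁻¹ * act t u) * (act t w)⁻¹ := by group
      _ = (u : Q ⧸ Z') * (w : Q ⧸ Z')⁻¹ := by rw [h1]; group
  have hdec : ∀ r : R, ∃ r₀ : R, ((r₀ : Q)⁻¹ * ψ t r₀)⁻¹ * r ∈ Z' := by
    intro r
    obtain ⟨⟨_, x, hx, rfl⟩, hu⟩ := (Finite.injective_iff_surjective.1 hfRinj)
      ⟨QuotientGroup.mk' Z' (r : Q), mem_map_of_mem _ r.2⟩
    have h1 : (((x : Q)⁻¹ * ψ t x : Q) : Q ⧸ Z') = ((r : Q) : Q ⧸ Z') := congrArg Subtype.val hu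
    exact ⟨⟨x, hx⟩, QuotientGroup.eq.1 h1⟩
  have hfreeR : ∀ a : A, a ≠ 1 → a ∈ aStab Z χ → ∀ g : Q, g⁻¹ * ψ a g ∈ R → g ∈ R := by
    intro a ha hast g hg
    -- reduce to `t`
    obtain ⟨e, he⟩ := mem_powers_iff_mem_zpowers.2 (tau_mem_of_ne_bot hp hcard hgen (H := zpowers a)
      (by rwa [Ne, zpowers_eq_bot]))
    replace he : a ^ e = t := he
    have hgt : ∀ e, g⁻¹ * ψ (a ^ e) g ∈ R := by
      intro e
      induction e with
      | zero => simp
      | succ e ih =>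
        rw [pow_succ', map_mul, MulAut.mul_apply]
        have h1 : ψ a (g⁻¹ * ψ (a ^ e) g) ∈ R := hRi a hast _ ih
        have := mul_mem hg h1
        rwa [map_mul, map_inv, mul_assoc, mul_inv_cancel_left] at this
    have hgR := hgt e
    rw [he] at hgR
    obtain ⟨r₀, hr₀⟩ := hdec ⟨_, hgR⟩
    have hmem : g * (r₀ : Q)⁻¹ ∈ Z' := by
      refine hfree t ht1 _ ?_
      have h1 : ((r₀ : Q)⁻¹ * ψ t r₀)⁻¹ * (g⁻¹ * ψ t g) ∈ Z' := hr₀
      rw [map_mul, map_inv]
      have h2 := hcom' ((r₀ : Q) * g⁻¹ * ψ t g) (ψ t r₀)⁻¹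
      have : (g * (r₀ : Q)⁻¹)⁻¹ * (ψ t g * (ψ t r₀)⁻¹) =
          ⁅(r₀ : Q) * g⁻¹ * ψ t g, (ψ t r₀)⁻¹⁆ * ((ψ t r₀)⁻¹ * ((r₀ : Q) * g⁻¹ * ψ t g)) := by
        group
      rw [this]
      refine mul_mem h2 ?_
      rwa [show (ψ t r₀)⁻¹ * ((r₀ : Q) * g⁻¹ * ψ t g) =
        ((r₀ : Q)⁻¹ * ψ t r₀)⁻¹ * (g⁻¹ * ψ t g) by group]
    have := mul_mem (hZR hmem) r₀.2
    rwa [inv_mul_cancel_right] at this
  -- `R` acts by scalars
  have hRscal : ∀ r : R, ∃ cst : k, π r = cst • 1 := by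
    intro r
    obtain ⟨r₀, hr₀⟩ := hdec r
    refine ⟨ξ ((((r₀ : Q)⁻¹ * ψ t r₀)⁻¹ * r : Q) : M), ?_⟩
    set L := (R.map Q.subtype).map (inl : M →* M ⋊[φ] A) with hL
    have hRQ : R.map Q.subtype ≤ Q := map_subtype_le R
    have hRW : ∀ l ∈ L, ∀ w ∈ W, ρ l w ∈ W := by
      rintro _ ⟨x, hx, rfl⟩ w hw
      exact hWQ x (hRQ hx) w hw
    have hRcomm : ∀ a ∈ L, ∀ b ∈ L, ∀ w ∈ W, ρ a (ρ b w) = ρ b (ρ a w) := by
      rintro _ ⟨_, ⟨a, ha, rfl⟩, rfl⟩ _ ⟨_, ⟨b, hb, rfl⟩, rfl⟩ w hw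
      show ρ (inl (a : M)) (ρ (inl (b : M)) w) = ρ (inl (b : M)) (ρ (inl (a : M)) w)
      rw [← apply_mul, ← apply_mul, ← map_mul, ← map_mul]
      rw [show (a : M) * b = ⁅(a : M), (b : M)⁆ * (b * a) by group, map_mul inl, apply_mul,
        hWscal _ (hc a b) _ (hWQ _ (mul_mem b.2 a.2) w hw), show ξ ⁅(a : M), (b : M)⁆ = 1 from (hR b).1 hb a,
        one_smul]
    have hRk : (Nat.card L : k) ≠ 0 := natCard_map_inl_ne_zero (natCard_ne_zero_of_le hQk hRQ)
    have hd : ((r₀ : Q)⁻¹ * ψ t r₀ : Q) ∈ R := mul_mem (inv_mem r₀.2) (hRi t htst _ r₀.2)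
    have hfixW : inl (((r₀ : Q)⁻¹ * ψ t r₀ : Q) : M) ∈ fixerOf ρ W := by
      refine mem_fixerOf_of_forall_weight ρ hRk hRW hRcomm (l₀ := ⟨_, mem_map_of_mem _
        (mem_map_of_mem Q.subtype hd)⟩) fun θ w hwW hw0 hw => ?_
      -- some non-trivial element of the stabiliser of `χ` fixes `θ`
      have hN : ∀ a : aStab Z χ, (inr (a : A) : M ⋊[φ] A) ∈ normalizer (L : Set (M ⋊[φ] A)) := by
        intro a
        have hclo : ∀ a ∈ aStab Z χ, ∀ l ∈ L, inr a * l * (inr a)⁻¹ ∈ L := by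
          rintro a ha _ ⟨_, ⟨x, hx, rfl⟩, rfl⟩
          exact ⟨_, ⟨ψ a x, hRi a ha x hx, rfl⟩, inl_apply a (x : M)⟩
        refine mem_normalizer_iff.2 fun l => ⟨hclo a a.2 l, fun hl => ?_⟩
        have := hclo _ (inv_mem a.2) _ hl
        rwa [map_inv, show (inr (a : A))⁻¹ * (inr (a : A) * l * (inr (a : A))⁻¹) *
          ((inr (a : A))⁻¹)⁻¹ = l by group] at this
      obtain ⟨a, ha, ha1⟩ : ∃ a : aStab Z χ, (inr (a : A) : M ⋊[φ] A) ∈ wStab k L θ ∧ a ≠ 1 := by
        by_contra hno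
        push Not at hno
        have h0 := sum_stab_eq_zero ρ hw (fun a : aStab Z χ => (inr (a : A) : M ⋊[φ] A)) hN
          (hWsum w hwW) {1} (fun a => by
            simp only [Finset.mem_singleton]
            refine ⟨?_, hno a⟩
            rintro rfl
            simp [one_mem])
        rw [Finset.sum_singleton, OneMemClass.coe_one, map_one, apply_one] at h0
        exact hw0 h0
      obtain ⟨e, he⟩ := mem_powers_iff_mem_zpowers.2 (tau_mem_of_ne_bot hp hcard hgen
        (H := zpowers (a : A)) (by rw [Ne, zpowers_eq_bot]; exact fun e => ha1 (Subtype.ext e)))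
      have htw : (inr t : M ⋊[φ] A) ∈ wStab k L θ := by
        rw [← show (a : A) ^ e = t from he, map_pow]
        exact pow_mem ha e
      have hr0L : inl ((r₀ : Q) : M) ∈ L := mem_map_of_mem _ (mem_map_of_mem Q.subtype r₀.2)
      have h1 := apply_eq_of_mem_wStab htw ⟨_, hr0L⟩ (by
        rw [← inl_apply]
        exact mem_map_of_mem _ ⟨ψ t r₀, hRi t htst _ r₀.2, rfl⟩)
      have hsplit : (⟨_, mem_map_of_mem (inl : M →* M ⋊[φ] A) (mem_map_of_mem Q.subtype hd)⟩ : L) =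
          (⟨_, hr0L⟩ : L)⁻¹ * ⟨inr t * inl ((r₀ : Q) : M) * (inr t)⁻¹, by
            rw [← inl_apply]
            exact mem_map_of_mem _ ⟨ψ t r₀, hRi t htst _ r₀.2, rfl⟩⟩ := by
        apply Subtype.ext
        show inl (((r₀ : Q) : M)⁻¹ * φ t ((r₀ : Q) : M)) =
          (inl ((r₀ : Q) : M))⁻¹ * (inr t * inl ((r₀ : Q) : M) * (inr t)⁻¹)
        rw [map_mul, map_inv, inl_apply]
      rw [hsplit, map_mul, h1, ← map_mul, inv_mul_cancel, map_one]
    refine LinearMap.ext fun w => Subtype.ext ?_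
    show ρ (inl ((r : Q) : M)) (w : E) = _ • (w : E)
    have hsplit : ((r : Q) : M) = (((r₀ : Q)⁻¹ * ψ t r₀ : Q) : M) *
        ((((r₀ : Q)⁻¹ * ψ t r₀)⁻¹ * r : Q) : M) := by
      rw [← Subgroup.coe_mul, mul_inv_cancel_left]
    conv_lhs => rw [hsplit]
    rw [map_mul, apply_mul]
    refine (congrArg _ (hWscal _ hr₀ _ w.2)).trans ?_
    rw [map_smul]
    exact congrArg _ (hfixW _ w.2)
  choose lam₀ hlam₀ using hRscal
  have hone : ∀ {a b : k}, a • (1 : Module.End k W) = b • 1 → a = b := fun e =>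
    smul_left_injective k (one_ne_zero (α := Module.End k W)) e
  let lam : R →* k :=
    { toFun := lam₀
      map_one' := hone (by rw [← hlam₀, one_smul]; exact map_one π)
      map_mul' := fun a b => hone (by
        rw [← hlam₀, Subgroup.coe_mul, map_mul, hlam₀, hlam₀, smul_mul_smul_comm, one_mul]) }
  have hlamc : ∀ y x : Q, lam ⟨⁅y, x⁆, hZR (hcom' y x)⟩ = ξ' ⟨⁅y, x⁆, hcom' y x⟩ := fun y x =>
    hone (by show lam₀ _ • 1 = ξ (c y x) • 1; rw [← hlam₀]; exact hπc y x)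
  -- the scalar subgroup is `R`
  have hRS : scalarSub π = R := by
    refine le_antisymm (fun x hx => (hR x).2 fun y => ?_) fun x hx => ⟨_, hlam₀ ⟨x, hx⟩⟩
    obtain ⟨a, ha⟩ := hx
    refine hone ((hπc y x).symm.trans ?_)
    rw [one_smul, commutatorElement_def, map_mul, map_mul, map_mul, ha]
    rw [show π y * (a • 1 : Module.End k W) = a • 1 * π y by
      rw [smul_mul_assoc, mul_smul_comm, one_mul, mul_one], mul_assoc (a • 1 : Module.End k W),
      ← map_mul, mul_inv_cancel, map_one, mul_one, ← ha, ← map_mul, mul_inv_cancel, map_one]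
  have hcomm : ∀ x y : Q, π x * π y = ξ (c x y) • (π y * π x) := fun x y => by
    rw [← map_mul, ← map_mul, show x * y = ⁅x, y⁆ * (y * x) by group, map_mul, hπc,
      smul_mul_assoc, one_mul]
  obtain ⟨m₀, hm₀, -⟩ := exists_matrix (π := π) (fun x y => ⟨_, hcomm x y⟩) (fun x hx => by
    rw [hRS]
    refine (hR x).2 fun y => hone ((hπc y x).symm.trans ?_)
    rw [one_smul, commutatorElement_def, map_mul, map_mul, map_mul, ← hx y, mul_assoc (π x),
      ← map_mul π y, mul_inv_cancel, map_one, mul_one, ← map_mul, mul_inv_cancel, map_one])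
  rw [hRS] at hm₀
  -- the bound
  have hrk : ((2 ^ (n - j) : ℕ) : k) ≠ 0 := by
    intro h0
    apply hAk
    rw [hcard, show n = (n - j) + j by omega, pow_add, Nat.cast_mul, h0, zero_mul]
  haveI : NeZero ((2 ^ (n - j) : ℕ) : k) := ⟨hrk⟩
  obtain ⟨ζ, hζ⟩ := HasEnoughRootsOfUnity.exists_primitiveRoot k (2 ^ (n - j))
  have hSpow : ∀ (e : ℕ) (w : W), (((S ^ e) w : W) : E) = ρ (inr (h ^ e)) (w : E) := by
    intro e
    induction e with
    | zero => intro w; simp
    | succ e ih =>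
      intro w
      rw [pow_succ', Module.End.mul_apply, pow_succ', map_mul, apply_mul, ← ih]
      rfl
  have hσord : orderOf (ψ h) = 2 ^ (n - j) := by
    refine Nat.dvd_antisymm (hord ▸ orderOf_map_dvd ψ h) ?_
    rw [← hord]
    refine orderOf_dvd_of_pow_eq_one ?_
    by_contra hne'
    have h1 : ψ (h ^ orderOf (ψ h)) = 1 := by rw [map_pow, pow_orderOf_eq_one]
    apply hne
    refine top_le_iff.1 fun g _ => hfreeR _ hne' (pow_mem hhmem _) g ?_
    rw [h1, MulAut.one_apply, inv_mul_cancel]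
    exact one_mem R
  obtain ⟨hbound, hdvd⟩ := HallHigman.index_le_sq_of_scalar (r := 2 ^ (n - j))
    (pow_pos hp.pos _) (by exact hQk) hrk hζ π R lam (fun z => hlam₀ z)
    (fun a b => hZ'c (hcom' a b)) (fun a b => hZR (hcom' a b))
    (fun g hg => (hR g).2 fun y => (hlamc y g).symm.trans (hg y))
    (ψ h) hσord
    (by
      refine Subgroup.eq_of_le_of_card_ge (by rintro _ ⟨x, hx, rfl⟩; exact hRi h hhmem x hx) ?_
      rw [card_map_of_injective (ψ h).injective])
    (fun z hz => hone (by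
      show lam₀ _ • 1 = lam₀ z • 1
      rw [← hlam₀, ← hlam₀]
      refine LinearMap.ext fun w => Subtype.ext ?_
      show ρ (inl (φ h ((z : Q) : M))) (w : E) = ρ (inl ((z : Q) : M)) (w : E)
      have hwz : ∀ u : W, ρ (inl ((z : Q) : M)) (u : E) = lam₀ z • (u : E) := fun u =>
        congrArg Subtype.val (LinearMap.congr_fun (hlam₀ z) u)
      rw [inl_apply, apply_mul, apply_mul, ← map_inv inr]
      rw [show ρ (inr h⁻¹) (w : E) = ((⟨_, hWh _ (inv_mem hhmem) _ w.2⟩ : W) : E) from rfl, hwz,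
        map_smul, hwz, ← apply_mul, ← map_mul, mul_inv_cancel, map_one, apply_one]))
    (fun a ha ha1 g hg => by
      obtain ⟨e, rfl⟩ := mem_powers_iff_mem_zpowers.2 ha
      have hne : h ^ e ≠ 1 := fun h0 => ha1 (by
        show ψ h ^ e = 1
        rw [← map_pow, h0, map_one])
      refine hfreeR (h ^ e) hne (pow_mem hhmem e) g ?_
      have hg' : ψ (h ^ e) g * g⁻¹ ∈ R := by rw [map_pow]; exact hg
      have := hRn.conj_mem _ hg' g⁻¹
      rwa [show g⁻¹ * (ψ (h ^ e) g * g⁻¹) * g⁻¹⁻¹ = g⁻¹ * ψ (h ^ e) g by group] at this)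
    S
    (LinearMap.ext fun w => Subtype.ext (by
      rw [hSpow, ← hord, pow_orderOf_eq_one, map_one, apply_one]; rfl))
    (fun g => LinearMap.ext fun w => Subtype.ext (by
      show ρ (inr h) (ρ (inl (g : M)) (w : E)) = ρ (inl (φ h (g : M))) (ρ (inr h) (w : E))
      rw [inl_apply, ← apply_mul, ← apply_mul, inv_mul_cancel_right]))
    (fun w hw => by
      have hfixa : ∀ a : aStab Z χ, ρ (inr (a : A)) (w : E) = w := by
        intro a
        obtain ⟨e, he⟩ := mem_powers_iff_mem_zpowers.2 (hH.le a.2)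
        rw [← show h ^ e = (a : A) from he, ← hSpow]
        congr 1
        clear he
        induction e with
        | zero => simp
        | succ e ih => rw [pow_succ, Module.End.mul_apply, hw, ih]
      have h0 := hWsum w w.2
      simp only [hfixa, Finset.sum_const, Finset.card_univ] at h0
      rw [← Nat.cast_smul_eq_nsmul k, smul_eq_zero, ← Nat.card_eq_fintype_card, hH,
        Nat.card_zpowers, hord] at h0
      exact Subtype.ext (h0.resolve_left hrk))
  -- arithmetic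
  have hm1 : 1 < m₀ := by
    by_contra hle
    apply hne
    rw [← Subgroup.index_eq_one, ← hm₀]
    have : R.index ≠ 0 := Subgroup.index_ne_zero_of_finite
    interval_cases m₀ <;> omega
  obtain ⟨e, he⟩ := hQq.exists_card_eq
  obtain ⟨a, -, ha⟩ : ∃ a ≤ e, m₀ = q ^ a := (Nat.dvd_prime_pow hqF.out).1
    ((dvd_mul_right m₀ m₀).trans (hm₀ ▸ he ▸ R.index_dvd_card))
  rw [← hm₀, ← pow_two] at hbound hdvd
  have hmle : m₀ ≤ 2 ^ (n - j) - 1 := (Nat.pow_le_pow_iff_left two_ne_zero).1 hbound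
  have hm2 : 2 ^ (n - j) ∣ (m₀ + 1) * (m₀ - 1) := by
    rwa [← Nat.sq_sub_sq, one_pow]
  have ha0 : a ≠ 0 := fun e => by rw [ha, e, pow_zero] at hm1; omega
  have hq3 : 3 ≤ q := by have := hqF.out.two_le; omega
  rw [ha] at hmle hm2 hm₀
  obtain ⟨hd2, hcases⟩ := TwoPower.cases_of_dvd (hqF.out.odd_of_ne_two hq2) hq3 ha0 hmle hm2
  refine ⟨j, hj, hd2, hhmem, ?_⟩
  -- the operator of `h` on the space of the pairing
  have hψiso : ψ h ∈ P.isoSub := fun x y => Subtype.ext (Units.ext (by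
    rw [hP, hP]
    show ξ ⁅(φ h (x : M)), φ h (y : M)⁆ = ξ ⁅(x : M), (y : M)⁆
    rw [← map_commutatorElement]
    exact hinv h hhmem ⟨⁅x, y⁆, hcom' x y⟩))
  set y := P.act ⟨ψ h, hψiso⟩ with hy
  have hpowh : ∀ (i : ℕ) (x : Q), ((y ^ i : (Module.End (ZMod q) P.Space)ˣ) :
      Module.End (ZMod q) P.Space) (P.cls x) = P.cls (ψ (h ^ i) x) := fun i x => by
    rw [hy, ← map_pow, QPairing.act_cls]
    congr 1
    show (((⟨ψ h, hψiso⟩ : P.isoSub) ^ i : P.isoSub) : MulAut Q) x = ψ (h ^ i) x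
    exact congrArg (fun f : MulAut Q => f x) ((SubmonoidClass.coe_pow _ i).trans (map_pow ψ h i).symm)
  have hht : h ^ 2 ^ (n - j - 1) = t := by
    rw [hh, ← pow_mul, ← pow_add, show j + (n - j - 1) = n - 1 by omega]
  have hyneg : (y : Module.End (ZMod q) P.Space) ^ 2 ^ (n - j - 1) = -1 := by
    refine LinearMap.ext fun w => ?_
    obtain ⟨x, rfl⟩ := P.cls_surjective w
    rw [← Units.val_pow_eq_pow_val, hpowh, hht, LinearMap.neg_apply, Module.End.one_apply]
    refine eq_neg_of_add_eq_zero_right ?_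
    rw [← P.cls_mul, P.cls_eq_zero]
    exact hZR (hinvt _ x.2)
  have hyi : Plane.Iso P.form y := P.act_iso _
  have hcardV : ∀ b, q ^ a * q ^ a = b → Nat.card P.Space = b := fun b hb => hm₀.symm.trans hb
  haveI : Finite P.Space := inferInstanceAs (Finite (Additive (Q ⧸ P.rad)))
  haveI : Nontrivial P.Space := Finite.one_lt_card_iff_nontrivial.1 (by
    rw [hcardV _ rfl]; exact Nat.one_lt_mul_iff.2 ⟨pow_pos (by omega) _, pow_pos (by omega) _,
      Or.inl (Nat.one_lt_pow ha0 (by omega))⟩)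
  rcases hcases with ⟨rfl, hq⟩ | ⟨rfl, hd3, hq⟩ | ⟨rfl, rfl, hd4⟩
  · exact ⟨hq, by rw [← hm₀]; ring⟩
  · exact (no_half_plane hq2 hd3 hq P.form_self P.form_nondeg (QPairing.no_two_torsion hq2)
      (by rw [hcardV _ rfl]; ring) hyi hyneg).elim
  · exact (no_nine P.form_nondeg (by rw [hcardV _ rfl]; norm_num) hyi
      (by rw [hd4] at hyneg; exact hyneg)).elim

end Cfsg.Agent.FittingHeight
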