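import Cfsg.Agent.Lib.FittingHeight.TwoPowerBound

/-!
# A cyclic 2-group on a linear configuration

`A = ⟨s⟩` of order `2 ^ n` has no fixed vector on `E`, `M` acts faithfully, `Q` is an invariant
`q`-group normalised by the invariant `ℓ`-group `R`, `ℓ ≠ q`. Then every `g⁻¹ t g`, `g ∈ R`,
`t = s ^ 2 ^ (n-1)`, centralises `Q`.
-/

set_option linter.style.haveILetI false
set_option linter.unusedSectionVars false

namespace Cfsg.Agent.FittingHeight

open Subgroup SemidirectProduct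
open scoped commutatorElement

theorem le_normalizer_of_conj {G : Type*} [Group G] {R K : Subgroup G}
    (h : ∀ r ∈ R, ∀ x ∈ K, r * x * r⁻¹ ∈ K) : R ≤ normalizer (K : Set G) := fun r hr =>
  mem_normalizer_iff.2 fun x => ⟨fun hx => h r hr x hx, fun hx => by
    have := h _ (inv_mem hr) _ hx
    rwa [show r⁻¹ * (r * x * r⁻¹) * r⁻¹⁻¹ = x by group] at this⟩

theorem conj_mem_of_le_normalizer {G : Type*} [Group G] {R K : Subgroup G}
    (h : R ≤ normalizer (K : Set G)) {r x : G} (hr : r ∈ R) (hx : x ∈ K) : r * x * r⁻¹ ∈ K :=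
  (mem_normalizer_iff.1 (h hr) x).1 hx

/-- `c x c⁻¹ = x d` with `c` commuting with `d` of coprime order forces `d = 1`. -/
theorem eq_one_of_conj_eq_mul {G : Type*} [Group G] {x d c : G}
    (hco : (orderOf d).Coprime (orderOf c)) (h : c * x * c⁻¹ = x * d) (hd : c * d = d * c) :
    d = 1 := by
  have key : ∀ i : ℕ, c ^ i * x * (c ^ i)⁻¹ = x * d ^ i := by
    intro i
    induction i with
    | zero => simp
    | succ i ih =>
      have hcd : c * d ^ i * c⁻¹ = d ^ i := by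
        rw [(Commute.pow_right hd i).eq, mul_inv_cancel_right]
      calc c ^ (i + 1) * x * (c ^ (i + 1))⁻¹
          = c * (c ^ i * x * (c ^ i)⁻¹) * c⁻¹ := by rw [pow_succ']; group
        _ = c * (x * d ^ i) * c⁻¹ := by rw [ih]
        _ = c * x * c⁻¹ * (c * d ^ i * c⁻¹) := by group
        _ = x * d * d ^ i := by rw [h, hcd]
        _ = x * d ^ (i + 1) := by rw [pow_succ', mul_assoc]
  have h1 := key (orderOf c)
  rw [pow_orderOf_eq_one, one_mul, inv_one, mul_one] at h1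
  exact orderOf_eq_one_iff.1
    (Nat.eq_one_of_dvd_coprimes hco dvd_rfl (orderOf_dvd_of_pow_eq_one (left_eq_mul.1 h1)))

variable {M : Type*} [Group M] [Finite M] {A : Type*} [CommGroup A] [Fintype A] {φ : A →* MulAut M}
  {k : Type*} [Field k] [IsAlgClosed k] {E : Type*} [AddCommGroup E] [Module k E]
  [FiniteDimensional k E] (ρ : M ⋊[φ] A →* Module.End k E) {n : ℕ} {s : A}

include ρ in
theorem centralizes_twoPower (hn : n ≠ 0) (hcard : Nat.card A = 2 ^ n)
    (hgen : ∀ a, a ∈ zpowers s) (hAk : (Nat.card A : k) ≠ 0)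
    (hfaith : ∀ m : M, ρ (inl m) = 1 → m = 1) (hsum : ∀ v, ∑ a : A, ρ (inr a) v = 0)
    {q l : ℕ} [hqF : Fact q.Prime] [hlF : Fact l.Prime] (hq2 : q ≠ 2) (hl2 : l ≠ 2) (hlq : l ≠ q)
    (hqk : (q : k) ≠ 0) (R : Subgroup M) (hRi : ∀ a, ∀ x ∈ R, φ a x ∈ R) (hRl : IsPGroup l R) :
    ∀ (Q : Subgroup M), (∀ a, ∀ x ∈ Q, φ a x ∈ Q) → IsPGroup q Q →
      R ≤ normalizer (Q : Set M) →
      ∀ g ∈ R, ∀ x ∈ Q, g⁻¹ * φ (s ^ 2 ^ (n - 1)) g * x = x * (g⁻¹ * φ (s ^ 2 ^ (n - 1)) g) := by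
  classical
  intro Q
  induction hm : Nat.card Q using Nat.strong_induction_on generalizing Q with
  | _ m ih =>
  subst hm
  intro hQi hQq hRQ
  have hp : Nat.Prime 2 := Nat.prime_two
  set t := s ^ 2 ^ (n - 1) with ht
  have htt : ∀ x : M, φ t (φ t x) = x := fun x => by
    rw [← MulAut.mul_apply, ← map_mul, ← pow_add, ← two_mul, ← pow_succ',
      Nat.sub_add_cancel (Nat.pos_of_ne_zero hn), ← hcard, pow_card_eq_one', map_one,
      MulAut.one_apply]
  set R1 := closure ((fun g => g⁻¹ * φ t g) '' (R : Set M)) with hR1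
  have hR1R : R1 ≤ R := (closure_le R).2 (by
    rintro _ ⟨g, hg, rfl⟩
    exact mul_mem (inv_mem hg) (hRi t g hg))
  have hR1i : ∀ a, ∀ c ∈ R1, φ a c ∈ R1 := by
    intro a c hc
    have : R1.map (φ a : M →* M) ≤ R1 := by
      rw [hR1, MonoidHom.map_closure]
      refine closure_mono ?_
      rintro _ ⟨_, ⟨g, hg, rfl⟩, rfl⟩
      refine ⟨φ a g, hRi a g hg, ?_⟩
      show (φ a g)⁻¹ * φ t (φ a g) = φ a (g⁻¹ * φ t g)
      rw [map_mul, map_inv, ← MulAut.mul_apply, ← map_mul, mul_comm, map_mul, MulAut.mul_apply]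
    exact this (mem_map_of_mem _ hc)
  have hR1n : ∀ r ∈ R, ∀ c ∈ R1, r * c * r⁻¹ ∈ R1 := by
    intro r hr c hc
    refine closure_induction (p := fun c _ => r * c * r⁻¹ ∈ R1) ?_ ?_ ?_ ?_ hc
    · rintro _ ⟨g, hg, rfl⟩
      have : r * (g⁻¹ * φ t g) * r⁻¹ =
          ((g * r⁻¹)⁻¹ * φ t (g * r⁻¹)) * ((r⁻¹)⁻¹ * φ t r⁻¹)⁻¹ := by
        rw [map_mul]; group
      show r * (g⁻¹ * φ t g) * r⁻¹ ∈ R1
      rw [this]
      exact mul_mem (subset_closure ⟨_, mul_mem hg (inv_mem hr), rfl⟩)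
        (inv_mem (subset_closure ⟨_, inv_mem hr, rfl⟩))
    · rw [mul_one, mul_inv_cancel]; exact one_mem _
    · intro a b _ _ ha hb
      rw [show r * (a * b) * r⁻¹ = r * a * r⁻¹ * (r * b * r⁻¹) by group]
      exact mul_mem ha hb
    · intro a _ ha
      rw [show r * a⁻¹ * r⁻¹ = (r * a * r⁻¹)⁻¹ by group]
      exact inv_mem ha
  suffices hgoal : ∀ c ∈ R1, ∀ x ∈ Q, c * x = x * c from fun g hg x hx =>
    hgoal _ (subset_closure ⟨g, hg, rfl⟩) x hx
  by_contra hcon
  have hconjQ : ∀ r ∈ R, ∀ x ∈ Q, r * x * r⁻¹ ∈ Q := fun r hr x hx =>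
    conj_mem_of_le_normalizer hRQ hr hx
  have hproper : ∀ K : Subgroup M, K < Q → (∀ a, ∀ x ∈ K, φ a x ∈ K) →
      (∀ r ∈ R, ∀ x ∈ K, r * x * r⁻¹ ∈ K) → ∀ c ∈ R1, ∀ x ∈ K, c * x = x * c := by
    intro K hK hKi hKR c hc x hx
    have h1 := ih _ (lt_of_le_of_ne (card_le_of_le hK.le) fun h =>
      hK.ne (Subgroup.eq_of_le_of_card_ge hK.le h.ge)) K rfl hKi (hQq.to_le hK.le)
      (le_normalizer_of_conj hKR)
    refine closure_induction (p := fun c _ => c * x = x * c) ?_ ?_ ?_ ?_ hc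
    · rintro _ ⟨g, hg, rfl⟩; exact h1 g hg x hx
    · rw [one_mul, mul_one]
    · intro a b _ _ ha hb; exact (Commute.mul_left ha hb).eq
    · intro a _ ha; exact (Commute.inv_left ha).eq
  -- `Q` is generated by the `x⁻¹ (c x c⁻¹)`
  set S2 : Set M := {d | ∃ x ∈ Q, ∃ c ∈ R1, x⁻¹ * (c * x * c⁻¹) = d} with hS2
  have hS2Q : ∀ d ∈ S2, d ∈ Q := by
    rintro _ ⟨x, hx, c, hc, rfl⟩
    exact mul_mem (inv_mem hx) (hconjQ c (hR1R hc) x hx)
  have hQ2 : closure S2 = Q := by
    have hle : closure S2 ≤ Q := (closure_le Q).2 hS2Q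
    rcases hle.lt_or_eq with hlt | h
    · refine absurd (fun c hc x hx => ?_) hcon
      have hi : ∀ a, ∀ d ∈ closure S2, φ a d ∈ closure S2 := by
        intro a d hd
        have : (closure S2).map (φ a : M →* M) ≤ closure S2 := by
          rw [MonoidHom.map_closure]
          refine closure_mono ?_
          rintro _ ⟨_, ⟨x, hx, c, hc, rfl⟩, rfl⟩
          refine ⟨φ a x, hQi a x hx, φ a c, hR1i a c hc, ?_⟩
          simp
        exact this (mem_map_of_mem _ hd)
      have hr : ∀ r ∈ R, ∀ d ∈ closure S2, r * d * r⁻¹ ∈ closure S2 := by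
        intro r hr d hd
        have : (closure S2).map (MulAut.conj r : M →* M) ≤ closure S2 := by
          rw [MonoidHom.map_closure]
          refine closure_mono ?_
          rintro _ ⟨_, ⟨x, hx, c, hc, rfl⟩, rfl⟩
          refine ⟨r * x * r⁻¹, hconjQ r hr x hx, r * c * r⁻¹, hR1n r hr c hc, ?_⟩
          show _ = r * (x⁻¹ * (c * x * c⁻¹)) * r⁻¹
          group
        exact this (mem_map_of_mem _ hd)
      set d := x⁻¹ * (c * x * c⁻¹) with hd
      have hdm : d ∈ closure S2 := subset_closure ⟨x, hx, c, hc, rfl⟩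
      have hd1 : d = 1 := by
        refine eq_one_of_conj_eq_mul (x := x) (c := c) ?_ (by rw [hd, mul_inv_cancel_left])
          (hproper _ hlt hi hr c hc d hdm)
        obtain ⟨e, he⟩ := IsPGroup.iff_orderOf.1 hQq ⟨d, hle hdm⟩
        obtain ⟨f, hf⟩ := IsPGroup.iff_orderOf.1 hRl ⟨c, hR1R hc⟩
        rw [orderOf_mk] at he hf
        rw [he, hf]
        exact Nat.Coprime.pow e f ((Nat.coprime_primes hqF.out hlF.out).2 (Ne.symm hlq))
      rw [hd, inv_mul_eq_one] at hd1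
      exact (mul_inv_eq_iff_eq_mul.1 hd1.symm)
    · exact h
  have hcentral : ∀ K : Subgroup M, K < Q → (∀ a, ∀ x ∈ K, φ a x ∈ K) →
      (∀ r ∈ R, ∀ x ∈ K, r * x * r⁻¹ ∈ K) → (∀ g ∈ Q, ∀ x ∈ K, g * x * g⁻¹ ∈ K) →
      K ≤ centralizer (Q : Set M) := by
    intro K hK hKi hKR hKQ d hd
    have hle : Q ≤ centralizer ({d} : Set M) := by
      rw [← hQ2, closure_le]
      rintro _ ⟨x, hx, c, hc, rfl⟩
      show x⁻¹ * (c * x * c⁻¹) ∈ centralizer {d}
      rw [mem_centralizer_singleton_iff]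
      have h1 : c * d * c⁻¹ = d := by rw [hproper K hK hKi hKR c hc d hd, mul_inv_cancel_right]
      have h2 : c * (x * d * x⁻¹) * c⁻¹ = x * d * x⁻¹ := by
        rw [hproper K hK hKi hKR c hc _ (hKQ x hx d hd), mul_inv_cancel_right]
      calc x⁻¹ * (c * x * c⁻¹) * d
          = x⁻¹ * (c * (x * (c⁻¹ * (c * d * c⁻¹) * c) * x⁻¹) * c⁻¹) * (c * x * c⁻¹) := by
            conv_lhs => rw [← h1]
            group
        _ = x⁻¹ * (c * (x * d * x⁻¹) * c⁻¹) * (c * x * c⁻¹) := by group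
        _ = x⁻¹ * (x * d * x⁻¹) * (c * x * c⁻¹) := by rw [h2]
        _ = d * (x⁻¹ * (c * x * c⁻¹)) := by group
    exact mem_centralizer_iff.2 fun y hy => mem_centralizer_singleton_iff.1 (hle hy)
  have hQne : Q ≠ ⊥ := fun h => hcon fun c _ x hx => by
    rw [h, mem_bot] at hx; rw [hx, one_mul, mul_one]
  have hQk : (Nat.card Q : k) ≠ 0 := by
    obtain ⟨e, he⟩ := hQq.exists_card_eq
    rw [he, Nat.cast_pow]
    exact pow_ne_zero _ hqk
  have haStab : ∀ (L : Subgroup M) (_ : ∀ a, ∀ x ∈ L, φ a x ∈ L)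
      (χ : (L.map (inl : M →* M ⋊[φ] A)) →* k) (v : E), v ≠ 0 →
      v ∈ weightSpace ρ (L.map inl) χ → t ∈ aStab L χ := fun L hL χ v hv0 hv =>
    tau_mem_of_ne_bot hp hcard hgen (aStab_ne_bot ρ hL hv hv0 (hsum v))
  -- `Q` is not abelian
  have hnab : ¬ Q ≤ centralizer (Q : Set M) := by
    intro hab
    have hfixQ : ∀ x ∈ Q, φ t x = x := by
      intro x hx
      by_contra hne
      have hz : x⁻¹ * φ t x ∈ Q := mul_mem (inv_mem hx) (hQi t x hx)
      have hz1 : x⁻¹ * φ t x ≠ 1 := fun e => hne (inv_mul_eq_one.1 e).symm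
      have : IsMulCommutative Q :=
        ⟨⟨fun a b => Subtype.ext (mem_centralizer_iff.1 (hab b.2) a a.2)⟩⟩
      obtain ⟨χ, v, hv0, hv, hχ⟩ := exists_weight_ne_one ρ this hQk hfaith hz hz1
      apply hχ
      rw [wRes_eq_wVal]
      show wVal Q χ (x⁻¹ * φ t x) = 1
      rw [wVal_mul (inv_mem hx) (hQi t x hx), wVal_inv hx,
        wVal_act hQi (haStab Q hQi χ v hv0 hv) hx, inv_mul_cancel₀ (wVal_ne_zero hx)]
    refine hcon fun c hc x hx => ?_
    refine closure_induction (p := fun c _ => c * x = x * c) ?_ ?_ ?_ ?_ hc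
    · rintro _ ⟨g, hg, rfl⟩
      show g⁻¹ * φ t g * x = x * (g⁻¹ * φ t g)
      have h1 := hfixQ _ (hconjQ g hg x hx)
      rw [map_mul, map_mul, map_inv, hfixQ x hx] at h1
      calc g⁻¹ * φ t g * x = g⁻¹ * (φ t g * x * (φ t g)⁻¹) * φ t g := by group
        _ = g⁻¹ * (g * x * g⁻¹) * φ t g := by rw [h1]
        _ = x * (g⁻¹ * φ t g) := by group
    · rw [one_mul, mul_one]
    · intro a b _ _ ha hb; exact (Commute.mul_left ha hb).eq
    · intro a _ ha; exact (Commute.inv_left ha).eq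
  -- `Q'` and the `q`-th powers are central
  set Q' := ⁅Q, Q⁆ with hQ'
  have hQ'lt : Q' < Q := by
    have : Group.IsNilpotent Q := hQq.isNilpotent
    have : Group.IsSolvable Q := inferInstance
    have hne : Nontrivial Q := (nontrivial_iff_ne_bot Q).2 hQne
    have h1 := Group.IsSolvable.commutator_lt_top_of_nontrivial (G := Q)
    rw [hQ', ← map_subtype_commutator]
    conv_rhs => rw [← range_subtype Q, MonoidHom.range_eq_map]
    exact (map_lt_map_iff_of_injective Q.subtype_injective).2 h1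
  have hQ'map : ∀ f : M →* M, (∀ x ∈ Q, f x ∈ Q) → ∀ d ∈ Q', f d ∈ Q' := by
    intro f hf d hd
    have : (⁅Q, Q⁆).map f ≤ ⁅Q, Q⁆ := by
      rw [map_commutator]
      have : Q.map f ≤ Q := by
        rintro _ ⟨y, hy, rfl⟩; exact hf y hy
      exact commutator_mono this this
    exact this (mem_map_of_mem _ hd)
  have hQ'c : Q' ≤ centralizer (Q : Set M) := hcentral Q' hQ'lt
    (fun a => hQ'map (φ a : M →* M) (hQi a))
    (fun r hr => hQ'map (MulAut.conj r : M →* M) (hconjQ r hr))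
    (fun g hg => hQ'map (MulAut.conj g : M →* M) fun x hx => mul_mem (mul_mem hg hx) (inv_mem hg))
  set Z := Q ⊓ centralizer (Q : Set M) with hZdef
  have hQ'Z : Q' ≤ Z := le_inf hQ'lt.le hQ'c
  have hZQ : Z ≤ Q := inf_le_left
  have hZlt : Z < Q := lt_of_le_of_ne hZQ fun e => hnab (e.ge.trans inf_le_right)
  have hZi : ∀ a, ∀ x ∈ Z, φ a x ∈ Z := fun a x hx => ⟨hQi a x hx.1, mem_centralizer_iff.2 fun y hy => by
    have : φ a⁻¹ y ∈ Q := hQi _ _ hy
    have h1 := congrArg (φ a) (mem_centralizer_iff.1 hx.2 _ this)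
    rwa [map_mul, map_mul, ← MulAut.mul_apply, ← map_mul, mul_inv_cancel, map_one,
      MulAut.one_apply] at h1⟩
  have hZconj : ∀ r ∈ R, ∀ x ∈ Z, r * x * r⁻¹ ∈ Z := fun r hr x hx =>
    ⟨hconjQ r hr x hx.1, mem_centralizer_iff.2 fun y hy => by
      have h1 : r⁻¹ * y * r ∈ Q := by simpa using hconjQ r⁻¹ (inv_mem hr) y hy
      calc y * (r * x * r⁻¹) = r * (r⁻¹ * y * r * x) * r⁻¹ := by group
        _ = r * (x * (r⁻¹ * y * r)) * r⁻¹ := by rw [mem_centralizer_iff.1 hx.2 _ h1]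
        _ = r * x * r⁻¹ * y := by group⟩
  have hzQ : ∀ z ∈ Z, ∀ a ∈ Q, a * z * a⁻¹ = z := fun z hz a ha => by
    rw [mem_centralizer_iff.1 hz.2 a ha, mul_inv_cancel_right]
  have hZR1 : ∀ c ∈ R1, ∀ z ∈ Z, c * z = z * c := hproper Z hZlt hZi hZconj
  have hcom : ∀ x ∈ Q, ∀ y ∈ Q, ⁅x, y⁆ ∈ Z := fun x hx y hy =>
    hQ'Z (commutator_mem_commutator hx hy)
  have hqpow : ∀ x ∈ Q, x ^ q ∈ Z := by
    set Sq : Set M := (fun x => x ^ q) '' (Q : Set M) with hSq
    set K := closure Sq ⊔ Z with hK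
    have hKQ : K ≤ Q := sup_le ((closure_le Q).2 (by
      rintro _ ⟨x, hx, rfl⟩; exact pow_mem hx q)) hZQ
    have hKn : ∀ g ∈ Q, ∀ x ∈ K, g * x * g⁻¹ ∈ K := fun g hg x hx => by
      rw [show g * x * g⁻¹ = ⁅g, x⁆ * x by group]
      exact mul_mem (mem_sup_right (hcom g hg x (hKQ hx))) hx
    have hKmap : ∀ f : M →* M, (∀ x ∈ Q, f x ∈ Q) → (∀ x ∈ Z, f x ∈ Z) → ∀ x ∈ K, f x ∈ K := by
      intro f hfQ hfZ x hx
      have : K.map f ≤ K := by
        rw [hK, Subgroup.map_sup, MonoidHom.map_closure]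
        refine sup_le_sup (closure_mono ?_) ?_
        · rintro _ ⟨_, ⟨y, hy, rfl⟩, rfl⟩
          exact ⟨f y, hfQ y hy, (map_pow f y q).symm⟩
        · rintro _ ⟨y, hy, rfl⟩; exact hfZ y hy
      exact this (mem_map_of_mem _ hx)
    have hKlt : K < Q := by
      refine lt_of_le_of_ne hKQ fun e => ?_
      have hZn : (Z.subgroupOf Q).Normal := ⟨fun z hz g => by
        show (g : M) * (z : M) * (g : M)⁻¹ ∈ Z
        rw [hzQ (z : M) hz g g.2]; exact hz⟩
      let p : Q ⧸ Z.subgroupOf Q →* Q ⧸ Z.subgroupOf Q :=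
        { toFun := fun u => u ^ q
          map_one' := one_pow q
          map_mul' := fun u w => Commute.mul_pow (by
            induction u using QuotientGroup.induction_on with | _ a => ?_
            induction w using QuotientGroup.induction_on with | _ b => ?_
            show _ = _
            rw [← QuotientGroup.mk_mul, ← QuotientGroup.mk_mul, QuotientGroup.eq,
              show (a * b)⁻¹ * (b * a) = ⁅b⁻¹, a⁻¹⁆ by group]
            exact hcom _ (inv_mem b.2) _ (inv_mem a.2)) q }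
      have hsurj : Function.Surjective p := by
        intro u
        induction u using QuotientGroup.induction_on with | _ x => ?_
        obtain ⟨x, hx⟩ := x
        have hxK : x ∈ K := e ▸ hx
        let Im : Subgroup M := (p.range.comap (QuotientGroup.mk' (Z.subgroupOf Q))).map Q.subtype
        have hKI : K ≤ Im := by
          rw [hK, sup_le_iff, closure_le]
          refine ⟨?_, fun z hz => ⟨⟨z, hZQ hz⟩, ⟨1, ?_⟩, rfl⟩⟩
          · rintro _ ⟨y, hy, rfl⟩
            exact ⟨(⟨y, hy⟩ : Q) ^ q, ⟨((⟨y, hy⟩ : Q) : Q ⧸ Z.subgroupOf Q), rfl⟩, rfl⟩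
          · rw [map_one]
            exact ((QuotientGroup.eq_one_iff (⟨z, hZQ hz⟩ : Q)).2 hz).symm
        obtain ⟨y, ⟨w, hw⟩, hyx⟩ := hKI hxK
        obtain rfl : y = ⟨x, hx⟩ := Subtype.ext hyx
        exact ⟨w, hw⟩
      have hinj := Finite.injective_iff_surjective.2 hsurj
      have hq' : IsPGroup q (Q ⧸ Z.subgroupOf Q) := hQq.to_quotient _
      have : Nontrivial (Q ⧸ Z.subgroupOf Q) :=
        QuotientGroup.nontrivial_iff.2 fun e => hZlt.ne (le_antisymm hZQ (subgroupOf_eq_top.1 e))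
      obtain ⟨a, ha, hca⟩ := hq'.nontrivial_iff_card.1 this
      obtain ⟨u, hu⟩ := exists_prime_orderOf_dvd_card' q (G := Q ⧸ Z.subgroupOf Q)
        (hca ▸ dvd_pow_self q ha.ne')
      have : u = 1 := hinj (show u ^ q = 1 ^ q by rw [one_pow, ← hu, pow_orderOf_eq_one])
      rw [this, orderOf_one] at hu
      exact hqF.out.one_lt.ne hu
    intro x hx
    exact ⟨pow_mem hx q, hcentral K hKlt
      (fun a => hKmap (φ a : M →* M) (hQi a) (hZi a))
      (fun r hr => hKmap (MulAut.conj r : M →* M) (hconjQ r hr) (hZconj r hr)) hKn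
      (mem_sup_left (subset_closure ⟨x, hx, rfl⟩))⟩
  -- each weight of `Z` kills the `⁅y, x⁻¹ (c x c⁻¹)⁆`
  have hweight : ∀ (χ : (Z.map (inl : M →* M ⋊[φ] A)) →* k) (v : E), v ≠ 0 →
      v ∈ weightSpace ρ (Z.map inl) χ →
      ∀ y ∈ Q, ∀ d ∈ S2, wVal Z χ ⁅y, d⁆ = 1 := by
    intro χ v hv0 hv
    set ξ := wVal Z χ with hξ
    have hmulR : ∀ y x x' : Q, ξ ⁅(y : M), (x : M) * x'⁆ = ξ ⁅(y : M), (x : M)⁆ * ξ ⁅(y : M), (x' : M)⁆ := by
      intro y x x'
      rw [show ⁅(y : M), (x : M) * x'⁆ = ⁅(y : M), (x : M)⁆ * ((x : M) * ⁅(y : M), (x' : M)⁆ * (x : M)⁻¹) by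
        group, hzQ _ (hcom _ y.2 _ x'.2) x x.2]
      exact wVal_mul (hcom _ y.2 _ x.2) (hcom _ y.2 _ x'.2)
    have hrU : ∀ y x : Q, Units.mk0 (ξ ⁅(y : M), (x : M)⁆) (wVal_ne_zero (hcom _ y.2 _ x.2)) ∈
        rootsOfUnity q k := by
      intro y x
      rw [mem_rootsOfUnity, Units.ext_iff, Units.val_pow_eq_pow_val, Units.val_mk0, Units.val_one]
      have hpow : ∀ i : ℕ, ξ ⁅(y : M), (x : M) ^ i⁆ = ξ ⁅(y : M), (x : M)⁆ ^ i := by
        intro i
        induction i with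
        | zero => rw [pow_zero, pow_zero, commutatorElement_one_right]; exact wVal_one
        | succ i ih =>
          rw [pow_succ, pow_succ, ← ih]
          exact hmulR y (x ^ i) x
      rw [← hpow, show ⁅(y : M), (x : M) ^ q⁆ = 1 from commutatorElement_eq_one_iff_mul_comm.2
        (mem_centralizer_iff.1 (hqpow _ x.2).2 y y.2)]
      exact wVal_one
    let P : QPairing Q k q :=
      { toFun := fun y x => ⟨_, hrU y x⟩
        mul_left := fun a b y => Subtype.ext (Units.ext (by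
          show ξ ⁅(a : M) * b, (y : M)⁆ = ξ ⁅(a : M), (y : M)⁆ * ξ ⁅(b : M), (y : M)⁆
          rw [show ⁅(a : M) * b, (y : M)⁆ =
            (a : M) * ⁅(b : M), (y : M)⁆ * (a : M)⁻¹ * ⁅(a : M), (y : M)⁆ by group,
            hzQ _ (hcom _ b.2 _ y.2) a a.2, mul_comm (ξ _)]
          exact wVal_mul (hcom _ b.2 _ y.2) (hcom _ a.2 _ y.2)))
        mul_right := fun y a b => Subtype.ext (Units.ext (hmulR y a b))
        self := fun x => Subtype.ext (Units.ext (by
          show ξ ⁅(x : M), (x : M)⁆ = 1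
          rw [commutatorElement_self]; exact wVal_one)) }
    have hPone : ∀ y x : Q, ξ ⁅(y : M), (x : M)⁆ = 1 → P.toFun y x = 1 := fun y x h =>
      Subtype.ext (Units.ext h)
    have hZrad : ∀ x : Q, (x : M) ∈ Z → x ∈ P.rad := fun x hx y => hPone y x (by
      rw [commutatorElement_eq_one_iff_mul_comm.2 (mem_centralizer_iff.1 hx.2 y y.2)]
      exact wVal_one)
    -- the automorphisms
    let ψ := restrictAct φ Q hQi
    have hψiso : ∀ a ∈ aStab Z χ, ψ a ∈ P.isoSub := fun a ha x y => Subtype.ext (Units.ext (by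
      show ξ ⁅φ a (x : M), φ a (y : M)⁆ = ξ ⁅(x : M), (y : M)⁆
      rw [← map_commutatorElement]
      exact wVal_act hZi ha (hcom _ x.2 _ y.2)))
    let κ : R1 →* MulAut Q :=
      (Subgroup.normalizerMonoidHom Q).comp (Subgroup.inclusion (hR1R.trans hRQ))
    have hκ : ∀ (c : R1) (x : Q), ((κ c x : Q) : M) = c * x * (c : M)⁻¹ := fun c x => rfl
    have hκiso : ∀ c, κ c ∈ P.isoSub := fun c x y => Subtype.ext (Units.ext (by
      show ξ ⁅((κ c x : Q) : M), ((κ c y : Q) : M)⁆ = ξ ⁅(x : M), (y : M)⁆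
      rw [hκ, hκ, show ⁅(c : M) * x * (c : M)⁻¹, (c : M) * y * (c : M)⁻¹⁆ =
        c * ⁅(x : M), (y : M)⁆ * (c : M)⁻¹ by group, hZR1 c c.2 _ (hcom _ x.2 _ y.2),
        mul_inv_cancel_right]))
    let Γ : R1 →* (Module.End (ZMod q) P.Space)ˣ := P.act.comp (κ.codRestrict P.isoSub hκiso)
    have htst : t ∈ aStab Z χ := haStab Z hZi χ v hv0 hv
    set τ := P.act ⟨ψ t, hψiso t htst⟩ with hτ
    have hτcls : ∀ x : Q, (τ : Module.End (ZMod q) P.Space) (P.cls x) =
        P.cls ⟨φ t x, hQi t x x.2⟩ := fun x => by rw [hτ, P.act_cls]; rfl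
    have hconjA : ∀ a (ha : a ∈ aStab Z χ) (c : R1),
        P.act ⟨ψ a, hψiso a ha⟩ * Γ c * (P.act ⟨ψ a, hψiso a ha⟩)⁻¹ =
          Γ ⟨φ a c, hR1i a c c.2⟩ := by
      intro a ha c
      show P.act _ * P.act _ * (P.act _)⁻¹ = P.act _
      rw [← map_inv, ← map_mul, ← map_mul]
      congr 1
      refine Subtype.ext (MulEquiv.ext fun x => Subtype.ext ?_)
      show φ a ((c : M) * (((ψ a)⁻¹ x : Q) : M) * (c : M)⁻¹) = φ a c * x * (φ a c)⁻¹
      have hx : φ a (((ψ a)⁻¹ x : Q) : M) = x :=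
        congrArg Subtype.val ((ψ a).apply_symm_apply x)
      rw [map_mul, map_mul, map_inv, hx]
    -- `Q₁`
    let Kt : Subgroup M :=
      { carrier := {y | y ∈ Q ∧ y * φ t y ∈ Z}
        one_mem' := ⟨one_mem Q, by rw [map_one, one_mul]; exact one_mem Z⟩
        mul_mem' := fun {a b} ha hb => ⟨mul_mem ha.1 hb.1, by
          have h1 := hcom b hb.1 _ (hQi t a ha.1)
          rw [map_mul, show a * b * (φ t a * φ t b) =
            a * ⁅b, φ t a⁆ * a⁻¹ * (a * φ t a) * (b * φ t b) by group, hzQ _ h1 a ha.1]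
          exact mul_mem (mul_mem h1 ha.2) hb.2⟩
        inv_mem' := fun {a} ha => ⟨inv_mem ha.1, by
          rw [map_inv, show a⁻¹ * (φ t a)⁻¹ = (⁅φ t a, a⁆ * (a * φ t a))⁻¹ by group]
          exact inv_mem (mul_mem (hcom _ (hQi t a ha.1) _ ha.1) ha.2)⟩ }
    set S1 : Set M := (fun x => x⁻¹ * φ t x) '' (Q : Set M) with hS1
    set Q1 := closure S1 ⊔ Z with hQ1
    have hQ1K : Q1 ≤ Kt := by
      rw [hQ1, sup_le_iff, closure_le]
      refine ⟨?_, fun z hz => ⟨hZQ hz, mul_mem hz (hZi t z hz)⟩⟩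
      rintro _ ⟨x, hx, rfl⟩
      refine ⟨mul_mem (inv_mem hx) (hQi t x hx), ?_⟩
      show x⁻¹ * φ t x * φ t (x⁻¹ * φ t x) ∈ Z
      rw [map_mul, map_inv, htt, show x⁻¹ * φ t x * ((φ t x)⁻¹ * x) = 1 by group]
      exact one_mem Z
    have hQ1Q : Q1 ≤ Q := fun x hx => (hQ1K hx).1
    have hZQ1 : Z ≤ Q1 := le_sup_right
    have hS1Q1 : ∀ x : Q, (x : M)⁻¹ * φ t x ∈ Q1 := fun x =>
      mem_sup_left (subset_closure ⟨x, x.2, rfl⟩)
    have hQ1i : ∀ a, ∀ x ∈ Q1, φ a x ∈ Q1 := by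
      intro a x hx
      have : Q1.map (φ a : M →* M) ≤ Q1 := by
        rw [hQ1, Subgroup.map_sup, MonoidHom.map_closure]
        refine sup_le_sup (closure_mono ?_) ?_
        · rintro _ ⟨_, ⟨g, hg, rfl⟩, rfl⟩
          refine ⟨φ a g, hQi a g hg, ?_⟩
          show (φ a g)⁻¹ * φ t (φ a g) = φ a (g⁻¹ * φ t g)
          rw [map_mul, map_inv, ← MulAut.mul_apply, ← map_mul, mul_comm, map_mul, MulAut.mul_apply]
        · rintro _ ⟨y, hy, rfl⟩; exact hZi a y hy
      exact this (mem_map_of_mem _ hx)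
    let ι := Subgroup.inclusion hQ1Q
    have hneg : ∀ x : Q1, (τ : Module.End (ZMod q) P.Space) (P.cls (ι x)) = -P.cls (ι x) := by
      intro x
      rw [hτcls, eq_neg_iff_add_eq_zero, add_comm, ← P.cls_mul, P.cls_eq_zero]
      exact hZrad _ (hQ1K x.2).2
    have hd : ∀ x : Q, P.cls (ι ⟨_, hS1Q1 x⟩) =
        -P.cls x + (τ : Module.End (ZMod q) P.Space) (P.cls x) := fun x => by
      rw [hτcls, ← P.cls_inv, ← P.cls_mul]; rfl
    let T : Submodule (ZMod q) P.Space := LinearMap.ker ((τ : Module.End (ZMod q) P.Space) + 1)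
    have hT : ∀ w, w ∈ T ↔ (τ : Module.End (ZMod q) P.Space) w = -w := fun w => by
      rw [LinearMap.mem_ker, LinearMap.add_apply, Module.End.one_apply, eq_neg_iff_add_eq_zero]
    have h2 := QPairing.no_two_torsion (q := q) (k := k) hq2
    let P1 : QPairing Q1 k q :=
      { toFun := fun y x => P.toFun (ι y) (ι x)
        mul_left := fun a b y => by rw [map_mul, P.mul_left]
        mul_right := fun y a b => by rw [map_mul, P.mul_right]
        self := fun x => P.self _ }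
    -- the radical of `Q₁` is that of `Q`
    have hrad : ∀ x : Q1, x ∈ P1.rad → P.cls (ι x) = 0 := by
      intro x hx
      refine P.form_nondeg _ fun w => ?_
      obtain ⟨y, rfl⟩ := P.cls_surjective w
      set w := P.cls (ι x) with hw
      set u := (τ : Module.End (ZMod q) P.Space) (P.cls y) with hu
      have e1 : P.form (P.cls y + u) w = 0 := by
        refine h2 _ ?_
        have hiso := P.act_iso ⟨ψ t, hψiso t htst⟩ (P.cls y + u) w
        have hu' : (τ : Module.End (ZMod q) P.Space) u = P.cls y := by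
          rw [hu, hτcls, hτcls]
          exact congrArg P.cls (Subtype.ext (htt y))
        rw [← hτ, map_add, hu', ← hu, hneg x, map_neg, add_comm u] at hiso
        nth_rw 2 [← hiso]
        rw [add_neg_cancel]
      have e2 : P.form (-P.cls y + u) w = 0 := by
        rw [hu, ← hd, hw, P.form_cls]
        exact congrArg Additive.ofMul (hx _)
      refine h2 _ ?_
      rw [map_add, AddMonoidHom.add_apply] at e1 e2
      rw [map_neg, AddMonoidHom.neg_apply] at e2
      rw [neg_add_eq_zero] at e2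
      rw [← e2] at e1
      exact e1
    let f : Q1 →* Multiplicative T :=
      { toFun := fun x => Multiplicative.ofAdd ⟨P.cls (ι x), (hT _).2 (hneg x)⟩
        map_one' := congrArg Multiplicative.ofAdd (Subtype.ext (P.cls_eq_zero.2 (by
          rw [map_one]; exact one_mem _)))
        map_mul' := fun a b => congrArg Multiplicative.ofAdd (Subtype.ext (by
          show P.cls (ι (a * b)) = P.cls (ι a) + P.cls (ι b)
          rw [map_mul, P.cls_mul])) }
    have hfker : f.ker = P1.rad := by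
      ext x
      refine ⟨fun h y => ?_, fun h => congrArg Multiplicative.ofAdd (Subtype.ext (hrad x h))⟩
      exact (P.cls_eq_zero.1 (congrArg (fun u : Multiplicative T => (u.toAdd : P.Space)) h)) (ι y)
    have hfsurj : Function.Surjective f := by
      rintro ⟨w, hw⟩
      obtain ⟨x, rfl⟩ := P.cls_surjective w
      obtain ⟨i, hi⟩ := hqF.out.odd_of_ne_two hq2
      refine ⟨⟨_, hS1Q1 x⟩ ^ i, congrArg Multiplicative.ofAdd (Subtype.ext ?_)⟩
      show P.cls (ι (⟨_, hS1Q1 x⟩ ^ i)) = P.cls x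
      have hcp : ∀ (j : ℕ) (z : Q), P.cls (z ^ j) = j • P.cls z := fun j z => by
        induction j with
        | zero => rw [pow_zero, zero_smul]; exact P.cls_eq_zero.2 (one_mem _)
        | succ j ih => rw [pow_succ, P.cls_mul, ih, succ_nsmul]
      rw [map_pow, hcp, hd, (hT _).1 hw]
      have h0 : q • P.cls x = 0 := by
        rw [← hcp, P.cls_eq_zero]; exact P.pow_mem_rad x
      replace h0 : (2 * i + 1) • P.cls x = 0 :=
        (congrArg (fun m : ℕ => m • P.cls x) hi.symm).trans h0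
      rw [succ_nsmul] at h0
      rw [show -P.cls x + -P.cls x = -(2 • P.cls x) by rw [two_nsmul, neg_add], smul_neg, ← mul_nsmul',
        mul_comm]
      exact (eq_neg_of_add_eq_zero_right h0).symm
    have hcardT : Nat.card T = P1.rad.index := by
      rw [← hfker, Subgroup.index_ker, MonoidHom.range_eq_top.2 hfsurj, card_top]
      rfl
    -- `τ` commutes with the image of `R₁`
    have hcomm : ∀ c : R1, τ * Γ c = Γ c * τ := by
      by_cases htop : P1.rad = ⊤
      · have hτ1 : τ = 1 := Units.ext (LinearMap.ext fun w => by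
          obtain ⟨x, rfl⟩ := P.cls_surjective w
          have := hd x
          rw [hrad _ (htop.ge (mem_top _)), eq_comm, neg_add_eq_zero] at this
          exact this.symm)
        intro c; rw [hτ1, one_mul, mul_one]
      · obtain ⟨j, hj, hd2, hhst, hqd, hidx⟩ := twoPower_bound ρ hn hcard hgen hAk hsum hq2 hqk
          Q1 Z hQ1i (hQq.to_le hQ1Q) hZQ1 hZi
          (le_trans inf_le_right (centralizer_le (fun x hx => hQ1Q hx)))
          (fun x hx y hy => hcom x (hQ1Q hx) y (hQ1Q hy)) (fun x hx => (hQ1K hx).2)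
          χ v hv0 hv P1 (fun y x => rfl) htop
        set y := P.act ⟨ψ (s ^ 2 ^ j), hψiso _ hhst⟩ with hy
        have hyt : y ^ 2 ^ (n - j - 1) = τ := by
          rw [hy, hτ, ← map_pow]
          congr 1
          apply Subtype.ext
          show ψ (s ^ 2 ^ j) ^ 2 ^ (n - j - 1) = ψ t
          rw [← map_pow, ← pow_mul, ← pow_add, show j + (n - j - 1) = n - 1 by omega]
        haveI : Finite P.Space := inferInstanceAs (Finite (Additive (Q ⧸ P.rad)))
        intro c
        have key := Plane.centralizes (β := P.form) P.form_self P.form_nondeg h2 hq2 hd2 hqd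
          (P.act_iso _ : Plane.Iso P.form y)
          (by
            rw [hyt, hτ, ← map_mul, ← map_one P.act]
            congr 1
            exact Subtype.ext (MulEquiv.ext fun x => Subtype.ext (htt (x : M))))
          T (fun w => by rw [hyt]; exact hT w) (by rw [hcardT, hidx]) hl2 hlq Γ.range
          ((hRl.to_le hR1R).of_surjective Γ.rangeRestrict Γ.rangeRestrict_surjective)
          (by rintro _ ⟨c, rfl⟩; exact P.act_iso _)
          (by
            rintro _ ⟨c, rfl⟩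
            exact ⟨_, (hconjA _ hhst c).symm⟩)
          (Γ c) ⟨c, rfl⟩
        rwa [hyt] at key
    have hΓ : ∀ c : R1, Γ c = 1 := by
      rintro ⟨c, hc⟩
      refine closure_induction (p := fun c hc => Γ ⟨c, hc⟩ = 1) ?_ (map_one Γ) ?_ ?_ hc
      · rintro _ ⟨g, hg, rfl⟩
        set C : R1 := ⟨g⁻¹ * φ t g, subset_closure ⟨g, hg, rfl⟩⟩ with hC
        show Γ C = 1
        have hinvC : (⟨φ t C, hR1i t C C.2⟩ : R1) = C⁻¹ := Subtype.ext (by
          show φ t (g⁻¹ * φ t g) = (g⁻¹ * φ t g)⁻¹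
          rw [map_mul, map_inv, htt, mul_inv_rev, inv_inv])
        have h1 : τ * Γ C * τ⁻¹ = Γ C⁻¹ := by rw [← hinvC, hτ]; exact hconjA t htst C
        rw [hcomm, mul_inv_cancel_right, map_inv] at h1
        have h2' : Γ C ^ 2 = 1 := by rw [pow_two, ← eq_inv_iff_mul_eq_one]; exact h1
        obtain ⟨e, he⟩ := IsPGroup.iff_orderOf.1 (hRl.to_le hR1R) C
        exact orderOf_eq_one_iff.1 (Nat.eq_one_of_dvd_coprimes
          ((Nat.coprime_primes hlF.out hp).2 hl2 |>.pow_left e)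
          ((orderOf_map_dvd Γ C).trans (dvd_of_eq he)) (orderOf_dvd_of_pow_eq_one h2'))
      · intro a b ha hb h1 h2'
        show Γ (⟨a, ha⟩ * ⟨b, hb⟩) = 1
        rw [map_mul, h1, h2', one_mul]
      · intro a ha h1
        show Γ (⟨a, ha⟩⁻¹) = 1
        rw [map_inv, h1, inv_one]
    rintro y hy d ⟨x, hx, c, hc, rfl⟩
    have hc1 := P.act_cls (κ.codRestrict P.isoSub hκiso ⟨c, hc⟩) ⟨x, hx⟩
    rw [show P.act (κ.codRestrict P.isoSub hκiso ⟨c, hc⟩) = 1 from hΓ ⟨c, hc⟩] at hc1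
    exact congrArg (fun u : rootsOfUnity q k => ((u : kˣ) : k))
      ((QuotientGroup.eq.1 hc1 : _ ∈ P.rad) ⟨y, hy⟩)
  -- hence these lie in `Z`
  refine hZlt.ne (le_antisymm hZQ ?_)
  conv_lhs => rw [← hQ2]
  rw [closure_le]
  intro d hd
  refine ⟨hS2Q d hd, mem_centralizer_iff.2 fun y hy => ?_⟩
  rw [← commutatorElement_eq_one_iff_mul_comm]
  by_contra hne
  have hZc : IsMulCommutative Z :=
    ⟨⟨fun a b => Subtype.ext (mem_centralizer_iff.1 b.2.2 a a.2.1)⟩⟩
  obtain ⟨χ, v, hv0, hv, hχ⟩ := exists_weight_ne_one ρ hZc (natCard_ne_zero_of_le hQk hZQ) hfaith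
    (hcom y hy d (hS2Q d hd)) hne
  rw [wRes_eq_wVal] at hχ
  exact hχ (hweight χ v hv0 hv y hy d hd)

end Cfsg.Agent.FittingHeight
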