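import Cfsg.Agent.Lib.FittingHeight.Reduction
import Cfsg.Agent.Lib.FittingHeight.TwoPowerCore

/-!
# A cyclic group of order `2 ^ e` without fixed points

`t`, the involution, centralises `G` modulo the second Fitting subgroup. The reduction follows
`CyclicReduction.lean`.
-/

set_option linter.unusedVariables false

namespace Cfsg.Agent.FittingHeight

open Subgroup
open scoped IsMulCommutative

universe u

/-- The second Fitting subgroup. -/
def fitTwo (G : Type*) [Group G] [Finite G] : Subgroup G :=
  letI : (fittingSubgroup G).Normal := Components.fittingSubgroup_normal G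
  (fittingSubgroup (G ⧸ fittingSubgroup G)).comap (QuotientGroup.mk' (fittingSubgroup G))

theorem mem_fitTwo {G : Type*} [Group G] [Finite G] [(fittingSubgroup G).Normal] {g : G} :
    g ∈ fitTwo G ↔ (g : G ⧸ fittingSubgroup G) ∈ fittingSubgroup (G ⧸ fittingSubgroup G) :=
  Iff.rfl

instance fitTwo_normal (G : Type*) [Group G] [Finite G] : (fitTwo G).Normal :=
  haveI : (fittingSubgroup G).Normal := Components.fittingSubgroup_normal G
  (Components.fittingSubgroup_normal (G ⧸ fittingSubgroup G)).comap _

theorem exists_lowerCentralSeries_le {G : Type*} [Group G] [Finite G] :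
    ∃ k, (fitTwo G).lowerCentralSeries k ≤ fittingSubgroup G := by
  haveI : (fittingSubgroup G).Normal := Components.fittingSubgroup_normal G
  obtain ⟨k, hk⟩ := Subgroup.nilpotent_iff_lowerCentralSeries.1
    (Components.fittingSubgroup_isNilpotent (G ⧸ fittingSubgroup G))
  refine ⟨k, ?_⟩
  rw [← QuotientGroup.ker_mk' (fittingSubgroup G), ← Subgroup.map_eq_bot_iff,
    Subgroup.map_lowerCentralSeries, fitTwo,
    Subgroup.map_comap_eq_self_of_surjective (QuotientGroup.mk'_surjective _),
    ← Subgroup.top_subtype_lowerCentralSeries, hk, Subgroup.map_bot]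

theorem le_fitTwo {G : Type*} [Group G] [Finite G] {X : Subgroup G} [X.Normal] {k : ℕ}
    (h : X.lowerCentralSeries k ≤ fittingSubgroup G) : X ≤ fitTwo G := by
  haveI : (fittingSubgroup G).Normal := Components.fittingSubgroup_normal G
  refine Subgroup.map_le_iff_le_comap.1 ?_
  set Y := X.map (QuotientGroup.mk' (fittingSubgroup G)) with hY
  have : Y.Normal := Normal.map inferInstance _ (QuotientGroup.mk'_surjective _)
  have : Group.IsNilpotent Y := Subgroup.nilpotent_iff_lowerCentralSeries.2 ⟨k, by
    rw [← Subgroup.map_eq_bot_iff_of_injective _ Y.subtype_injective,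
      Subgroup.top_subtype_lowerCentralSeries, hY, ← Subgroup.map_lowerCentralSeries,
      Subgroup.map_eq_bot_iff, QuotientGroup.ker_mk']
    exact h⟩
  exact Components.le_fittingSubgroup (N := Y) inferInstance

private theorem memFitTwo_aux {A : Type*} [CommGroup A] [Fintype A] {e : ℕ} {s : A} (he : e ≠ 0)
    (hcard : Nat.card A = 2 ^ e) (hgen : ∀ a, a ∈ Subgroup.zpowers s) :
    ∀ (n : ℕ) (G : Type u) [Group G] [Finite G] [Group.IsSolvable G],
    Nat.card G = n → ∀ φ : A →* MulAut G, (Nat.card A).Coprime (Nat.card G) →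
    Coprime.fixedBy φ = ⊥ → ∀ g : G, g⁻¹ * φ (s ^ 2 ^ (e - 1)) g ∈ fitTwo G := by
  have hA : Group.IsSolvable A := Group.isSolvable_of_comm fun a b => mul_comm a b
  intro n
  induction n using Nat.strong_induction_on with
  | _ n ih =>
    intro G _ _ _ hn φ hcop hfix
    rcases subsingleton_or_nontrivial G with _ | _
    · intro g
      rw [Subsingleton.elim (g⁻¹ * φ (s ^ 2 ^ (e - 1)) g) 1]; exact one_mem _
    -- the induction hypothesis for a quotient
    have hquot : ∀ (N : Subgroup G) [N.Normal] (hN : ∀ a, ∀ x ∈ N, φ a x ∈ N), N ≠ ⊥ →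
        ∀ g : G, ((g⁻¹ * φ (s ^ 2 ^ (e - 1)) g : G) : G ⧸ N) ∈ fitTwo (G ⧸ N) := by
      intro N _ hN hne
      refine fun g => ih _ ?_ (G ⧸ N) rfl (quotAct φ N hN)
        (hcop.coprime_dvd_right (card_quotient_dvd_card N)) (fixedBy_quotAct φ N hN hcop hA hfix) (g : G ⧸ N)
      rw [← hn, card_eq_card_quotient_mul_card_subgroup N]
      exact lt_mul_of_one_lt_right Nat.card_pos ((one_lt_card_iff_ne_bot N).2 hne)
    set F := fittingSubgroup G with hF
    have hFn : F.Normal := Components.fittingSubgroup_normal G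
    have hFc : F.Characteristic := Components.fittingSubgroup_characteristic G
    have hFnil : Group.IsNilpotent F := Components.fittingSubgroup_isNilpotent G
    by_cases hsplit : ∃ N₁ N₂ : Subgroup G, N₁.Normal ∧ N₂.Normal ∧ (∀ a, ∀ x ∈ N₁, φ a x ∈ N₁) ∧
        (∀ a, ∀ x ∈ N₂, φ a x ∈ N₂) ∧ N₁ ≠ ⊥ ∧ N₂ ≠ ⊥ ∧ N₁ ⊓ N₂ = ⊥
    · obtain ⟨N₁, N₂, hn₁, hn₂, hi₁, hi₂, h₁, h₂, h12⟩ := hsplit
      have ha := hquot N₁ hi₁ h₁
      have hb := hquot N₂ hi₂ h₂
      set F₁ := fittingSubgroup (G ⧸ N₁)
      set F₂ := fittingSubgroup (G ⧸ N₂)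
      have : F₁.Normal := Components.fittingSubgroup_normal _
      have : F₂.Normal := Components.fittingSubgroup_normal _
      set X := F₁.comap (QuotientGroup.mk' N₁) ⊓ F₂.comap (QuotientGroup.mk' N₂) with hX
      have : Group.IsNilpotent F₁ := Components.fittingSubgroup_isNilpotent _
      have : Group.IsNilpotent F₂ := Components.fittingSubgroup_isNilpotent _
      let e' : X →* F₁ × F₂ :=
        ((((QuotientGroup.mk' N₁).comp X.subtype).codRestrict F₁ fun x => x.2.1).prod
          (((QuotientGroup.mk' N₂).comp X.subtype).codRestrict F₂ fun x => x.2.2))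
      have hinj : Function.Injective e' := by
        rw [← MonoidHom.ker_eq_bot_iff, Subgroup.eq_bot_iff_forall]
        intro x hx
        have h1 : ((x : G) : G ⧸ N₁) = 1 := congrArg (fun y : F₁ × F₂ => (y.1 : G ⧸ N₁)) hx
        have h2 : ((x : G) : G ⧸ N₂) = 1 := congrArg (fun y : F₁ × F₂ => (y.2 : G ⧸ N₂)) hx
        rw [QuotientGroup.eq_one_iff] at h1 h2
        exact Subtype.ext ((Subgroup.eq_bot_iff_forall _).1 h12 _ ⟨h1, h2⟩)
      have : Group.IsNilpotent X := Group.nilpotent_of_mulEquiv (MonoidHom.ofInjective hinj).symm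
      have hXF : X ≤ F := Components.le_fittingSubgroup (N := X) inferInstance
      set Y := (fitTwo (G ⧸ N₁)).comap (QuotientGroup.mk' N₁) ⊓
        (fitTwo (G ⧸ N₂)).comap (QuotientGroup.mk' N₂) with hY
      obtain ⟨k₁, hk₁⟩ := exists_lowerCentralSeries_le (G := G ⧸ N₁)
      obtain ⟨k₂, hk₂⟩ := exists_lowerCentralSeries_le (G := G ⧸ N₂)
      have hle : Y.lowerCentralSeries (k₁ + k₂) ≤ X := by
        refine le_inf ?_ ?_ <;> rw [← Subgroup.map_le_iff_le_comap, Subgroup.map_lowerCentralSeries]
        · refine le_trans (le_trans (Subgroup.lowerCentralSeries_mono _ ?_)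
            (Subgroup.lowerCentralSeries_antitone _ (Nat.le_add_right k₁ k₂))) hk₁
          exact Subgroup.map_le_iff_le_comap.2 inf_le_left
        · refine le_trans (le_trans (Subgroup.lowerCentralSeries_mono _ ?_)
            (Subgroup.lowerCentralSeries_antitone _ (Nat.le_add_left k₂ k₁))) hk₂
          exact Subgroup.map_le_iff_le_comap.2 inf_le_right
      exact fun g => le_fitTwo (hle.trans hXF) (⟨ha g, hb g⟩ : _ ∈ Y)
    push Not at hsplit
    -- only one prime occurs in `F`
    have hFne : F ≠ ⊥ := Components.fittingSubgroup_ne_bot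
    obtain ⟨r_, hr, hrF⟩ :=
      Nat.exists_prime_and_dvd (fun h => hFne (Subgroup.card_eq_one.1 h) : Nat.card F ≠ 1)
    have := Fact.mk hr
    have hcore : ∀ q : ℕ, ∀ a, ∀ x ∈ pCore q G, φ a x ∈ pCore q G := fun q a x hx => by
      have := PCore.map_pCore_mulEquiv (p := q) (φ a)
      rw [← this]
      exact mem_map_of_mem _ hx
    have hFeq : F = ⨆ p : (Nat.card G).primeFactors, pCore (p : ℕ) G :=
      Components.fittingSubgroup_eq_iSup_pCore
    have hFr : IsPGroup r_ F := by
      have hO : F ≤ pCore r_ G := by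
        by_contra hcon
        obtain ⟨q, hq, hqn⟩ : ∃ q : ℕ, q.Prime ∧ q ≠ r_ ∧ pCore q G ≠ ⊥ := by
          by_contra hh
          push Not at hh
          apply hcon
          rw [hFeq]
          refine iSup_le fun p => ?_
          by_cases hp : (p : ℕ) = r_
          · rw [hp]
          · rw [hh p (Nat.prime_of_mem_primeFactors p.2) hp]; exact bot_le
        have := Fact.mk hq
        have hr0 : pCore r_ G ≠ ⊥ := by
          intro h0
          have hco : (Nat.card F).Coprime r_ := by
            have hle : F ≤ pPrimeCore r_ G := by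
              rw [hFeq]
              refine iSup_le fun p => ?_
              by_cases hp : (p : ℕ) = r_
              · rw [hp, h0]; exact bot_le
              · have := Fact.mk (Nat.prime_of_mem_primeFactors p.2)
                exact PCore.pCore_le_pPrimeCore hp
            exact PCore.coprime_card_pPrimeCore.coprime_dvd_left (card_dvd_of_le hle)
          exact hr.not_dvd_one (hco ▸ Nat.dvd_gcd hrF dvd_rfl)
        exact hsplit (pCore r_ G) (pCore q G) (Components.pCore_normal' r_) (Components.pCore_normal' q)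
          (hcore r_) (hcore q) hr0 hqn.2
          (disjoint_iff.1 (PCore.pCore_disjoint_pCore (Ne.symm hqn.1)))
      exact PCore.isPGroup_pCore.to_le hO
    set D := (frattini F).map F.subtype with hD
    have hDn : D.Normal := inferInstance
    by_cases hD1 : D = ⊥
    swap
    · -- `Φ(F) ≠ 1`
      have hDi : ∀ a, ∀ x ∈ D, φ a x ∈ D := fun a x hx => by
        have hFmap := map_eq_of_invariant φ (fun a x hx => apply_mem_of_characteristic φ (C := F) a hx) a
        let e : F ≃* F := ((φ a).subgroupMap F).trans (MulEquiv.subgroupCongr hFmap)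
        obtain ⟨y, hy, rfl⟩ := hx
        refine ⟨e y, ?_, rfl⟩
        have := characteristic_iff_map_eq.1 (inferInstance : (frattini F).Characteristic) e
        rw [← this]
        exact mem_map_of_mem _ hy
      have hm := hquot D hDi hD1
      have hDΦ : D ≤ frattini G := by
        refine PGroup.le_frattini_of_forall_coatom fun M hM => ?_
        by_contra hDM
        have htop : D ⊔ M = ⊤ := hM.2 _ (lt_of_le_of_ne le_sup_right fun e => hDM (e ▸ le_sup_left))
        have hF' : (M.subgroupOf F) ⊔ frattini F = ⊤ := by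
          refine top_le_iff.1 fun x _ => ?_
          obtain ⟨y, ⟨y', hy', rfl⟩, m, hm, hxm⟩ := (Coprime.mem_sup_iff_of_le_normalizer'
            (H := M) (N := D) (by rw [normalizer_eq_top]; exact le_top)).1
            ((sup_comm D M ▸ htop).ge (mem_top (x : G)))
          have hmF : m ∈ F := by
            have : m = (y' : G)⁻¹ * x := by rw [← hxm]; show m = (y' : G)⁻¹ * ((y' : G) * m); group
            rw [this]
            exact mul_mem (inv_mem y'.2) x.2
          have hx' : x = y' * ⟨m, hmF⟩ := Subtype.ext hxm.symm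
          rw [hx']
          exact mul_mem (mem_sup_right hy') (mem_sup_left (show (⟨m, hmF⟩ : F) ∈ M.subgroupOf F from hm))
        have hFM : F ≤ M := subgroupOf_eq_top.1 (frattini_nongenerating hF')
        exact hDM ((map_subtype_le _).trans hFM)
      set f := QuotientGroup.mk' D
      set Φ := frattini G
      set f' := QuotientGroup.mk' Φ
      have : (fittingSubgroup (G ⧸ D)).Normal := Components.fittingSubgroup_normal _
      set X := (fittingSubgroup (G ⧸ D)).comap f ⊔ Φ with hX
      have hnil : Group.IsNilpotent (X.map f') := by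
        rw [hX, Subgroup.map_sup, (Subgroup.map_eq_bot_iff Φ (f := f')).2
          (by rw [QuotientGroup.ker_mk']), sup_bot_eq]
        let g : G ⧸ D →* G ⧸ Φ := QuotientGroup.map D Φ (MonoidHom.id G) hDΦ
        have hfg : ((fittingSubgroup (G ⧸ D)).comap f).map f' = (fittingSubgroup (G ⧸ D)).map g := by
          conv_rhs => rw [← map_comap_eq_self_of_surjective (QuotientGroup.mk'_surjective D)
            (fittingSubgroup (G ⧸ D)), map_map]
          rfl
        rw [hfg]
        have := Components.fittingSubgroup_isNilpotent (G ⧸ D)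
        exact Group.nilpotent_of_surjective _ (g.subgroupMap_surjective _)
      have := Solvable.isNilpotent_of_frattini X le_sup_right hnil
      have hX0 : (fittingSubgroup (G ⧸ D)).comap f ≤ F :=
        le_sup_left.trans (Components.le_fittingSubgroup (N := X) inferInstance)
      obtain ⟨k, hk⟩ := exists_lowerCentralSeries_le (G := G ⧸ D)
      set Y := (fitTwo (G ⧸ D)).comap f with hY
      refine fun g => le_fitTwo (X := Y) (k := k) (le_trans ?_ hX0) (hm g)
      rw [← Subgroup.map_le_iff_le_comap, Subgroup.map_lowerCentralSeries, hY,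
        Subgroup.map_comap_eq_self_of_surjective (QuotientGroup.mk'_surjective D)]
      exact hk
    -- `F` is elementary abelian and `G/F` acts on it
    obtain ⟨hFcomm, hFexp⟩ := (PGroup.frattini_eq_bot_iff hFr).1
      ((map_eq_bot_iff_of_injective _ F.subtype_injective).1 hD1)
    have hCF : centralizer (F : Set G) ≤ F := Components.centralizer_fittingSubgroup_le
    have hFi : ∀ a, ∀ x ∈ F, φ a x ∈ F := fun a x hx => apply_mem_of_characteristic φ a hx
    set ψ := quotAct φ F hFi with hψ
    let _ : CommGroup F := inferInstance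
    obtain ⟨d, R, hR⟩ := exists_endRepresentation (V := Additive F) r_ (fun x => by
      show Additive.ofMul (Additive.toMul x ^ r_) = 0
      rw [hFexp]; rfl)
    let toEnd : MulAut F →* AddMonoid.End (Additive F) :=
      { toFun := fun e => MonoidHom.toAdditive e.toMonoidHom
        map_one' := AddMonoidHom.ext fun x => rfl
        map_mul' := fun e e' => AddMonoidHom.ext fun x => rfl }
    let L := R.toMonoidHom.comp toEnd
    have hL : Function.Injective L := fun e e' h => MulEquiv.ext fun x =>
      congrArg Additive.toMul (DFunLike.congr_fun (hR h) (Additive.ofMul x))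
    have hconj : ∀ g : G, g ∈ F → (MulAut.conjNormal (H := F)) g = 1 := fun g hg =>
      MulEquiv.ext fun x => Subtype.ext (by
        have h' : g * (x : G) = x * g := congrArg Subtype.val (mul_comm' (⟨g, hg⟩ : F) x)
        show g * (x : G) * g⁻¹ = x
        rw [h', mul_inv_cancel_right])
    let ρM : G ⧸ F →* MulAut F :=
      QuotientGroup.lift F (MulAut.conjNormal (H := F)) fun g hg => hconj g hg
    let resA : A →* MulAut F :=
      { toFun := fun a => ((φ a).subgroupMap F).trans
          (MulEquiv.subgroupCongr (map_eq_of_invariant φ hFi a))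
        map_one' := MulEquiv.ext fun x => Subtype.ext (by
          show φ 1 (x : G) = x
          rw [map_one, MulAut.one_apply])
        map_mul' := fun a b => MulEquiv.ext fun x => Subtype.ext (by
          show φ (a * b) (x : G) = φ a (φ b (x : G))
          rw [map_mul, MulAut.mul_apply]) }
    have hcompat : ∀ a : A, ρM.comp ((ψ a).toMonoidHom) =
        ((MulAut.conj (resA a)).toMonoidHom).comp ρM := fun a => by
      refine MonoidHom.ext fun q => ?_
      induction q using QuotientGroup.induction_on with | _ g => ?_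
      refine MulEquiv.ext fun x => Subtype.ext ?_
      show φ a g * (x : G) * (φ a g)⁻¹ = φ a (g * (((resA a)⁻¹ : MulAut F) x : G) * g⁻¹)
      have hx : φ a (((resA a)⁻¹ : MulAut F) x : G) = x :=
        congrArg Subtype.val ((resA a).apply_symm_apply x)
      rw [map_mul, map_mul, map_inv, hx]
    let ρ : SemidirectProduct (G ⧸ F) A ψ →*
        Module.End (AlgebraicClosure (ZMod r_)) (Fin d → AlgebraicClosure (ZMod r_)) :=
      L.comp (SemidirectProduct.lift ρM resA hcompat)
    have hAr : ((Nat.card A : ℕ) : AlgebraicClosure (ZMod r_)) ≠ 0 := by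
      rw [Ne, CharP.cast_eq_zero_iff (AlgebraicClosure (ZMod r_)) r_]
      intro h
      exact hr.not_dvd_one (hcop ▸ Nat.dvd_gcd h (hrF.trans (card_subgroup_dvd_card F)))
    have hfaith : ∀ q : G ⧸ F, ρ (SemidirectProduct.inl q) = 1 → q = 1 := by
      intro q
      induction q using QuotientGroup.induction_on with | _ g => ?_
      intro hq
      have h1 : ρM (g : G ⧸ F) = 1 := by
        refine hL (Eq.trans ?_ (hq.trans (map_one L).symm))
        show _ = L (SemidirectProduct.lift ρM resA hcompat (SemidirectProduct.inl _))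
        rw [SemidirectProduct.lift_inl]
      rw [QuotientGroup.eq_one_iff]
      refine hCF (mem_centralizer_iff.2 fun x hx => ?_)
      have h3 : g * x * g⁻¹ = x :=
        congrArg Subtype.val (DFunLike.congr_fun h1 (⟨x, hx⟩ : F))
      exact (mul_inv_eq_iff_eq_mul.1 h3).symm
    have hsum : ∀ v, ∑ a : A, ρ (SemidirectProduct.inr a) v = 0 := by
      intro v
      have h1 : ∑ a : A, ρ (SemidirectProduct.inr a) = 0 := by
        have : ∀ a, ρ (SemidirectProduct.inr a) = L (resA a) := fun a => by
          show L (SemidirectProduct.lift ρM resA hcompat (SemidirectProduct.inr a)) = _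
          rw [SemidirectProduct.lift_inr]
        simp only [this]
        have h0 : ∀ y : F, ∏ a : A, resA a y = 1 := by
          intro y
          have hfixed : ((∏ a : A, resA a y : F) : G) ∈ Coprime.fixedBy φ := fun b => by
            show (resA b (∏ a : A, resA a y) : G) = _
            rw [map_prod]
            refine congrArg Subtype.val (Fintype.prod_equiv (Equiv.mulLeft b) _ _ fun a => ?_)
            show resA b (resA a y) = resA (b * a) y
            rw [map_mul, MulAut.mul_apply]
          rw [hfix, mem_bot] at hfixed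
          exact Subtype.ext hfixed
        show ∑ a : A, R (toEnd (resA a)) = 0
        rw [← map_sum, show ∑ a : A, toEnd (resA a) = 0 from ?_, map_zero]
        refine AddMonoidHom.ext fun x => ?_
        refine (AddMonoidHom.finsetSum_apply _ _ _).trans ?_
        show ∑ a : A, Additive.ofMul (resA a (Additive.toMul x)) = 0
        rw [← ofMul_prod, h0]
        rfl
      rw [← LinearMap.sum_apply, h1, LinearMap.zero_apply]
    have hOr : ∀ N : Subgroup (G ⧸ F), N.Normal → (∀ a, ∀ x ∈ N, ψ a x ∈ N) → IsPGroup r_ N →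
        N = ⊥ := by
      intro N hNn _ hNp
      have : (N.comap (QuotientGroup.mk' F)).Normal := hNn.comap _
      have hp : IsPGroup r_ (N.comap (QuotientGroup.mk' F)) :=
        hNp.comap_of_ker_isPGroup _ (by rw [QuotientGroup.ker_mk']; exact hFr)
      have hle : N.comap (QuotientGroup.mk' F) ≤ F :=
        (PCore.le_pCore hp).trans (Components.pCore_le_fittingSubgroup hr)
      rw [← map_comap_eq_self_of_surjective (QuotientGroup.mk'_surjective F) N,
        Subgroup.map_eq_bot_iff, QuotientGroup.ker_mk']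
      exact hle
    have hMcop : (Nat.card A).Coprime (Nat.card (G ⧸ F)) :=
      hcop.coprime_dvd_right (card_quotient_dvd_card F)
    have hMfix := fixedBy_quotAct φ F hFi hcop hA hfix
    set tau := s ^ 2 ^ (e - 1) with htau
    have : Group.IsSolvable (G ⧸ F) := inferInstance
    set N := fittingSubgroup (G ⧸ F) with hNdef
    haveI hNn : N.Normal := Components.fittingSubgroup_normal _
    haveI hNc : N.Characteristic := Components.fittingSubgroup_characteristic _
    have hNi : ∀ a, ∀ x ∈ N, ψ a x ∈ N := fun a x hx => apply_mem_of_characteristic ψ a hx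
    set ψ2 := quotAct ψ N hNi with hψ2
    have hcardM : Odd (Nat.card (G ⧸ F)) := by
      have := hMcop
      rw [hcard] at this
      exact Nat.coprime_two_left.1 (Nat.Coprime.coprime_dvd_left (dvd_pow_self 2 he) this)
    have hcorei : ∀ q : ℕ, ∀ a, ∀ x ∈ pCore q (G ⧸ F), ψ a x ∈ pCore q (G ⧸ F) :=
      fun q a x hx => by
        have h := PCore.map_pCore_mulEquiv (p := q) (ψ a)
        rw [← h]
        exact mem_map_of_mem _ hx
    let Fix : Subgroup ((G ⧸ F) ⧸ N) :=
      MonoidHom.eqLocus (ψ2 tau : (G ⧸ F) ⧸ N →* (G ⧸ F) ⧸ N) (MonoidHom.id _)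
    have hFM : fittingSubgroup ((G ⧸ F) ⧸ N) ≤ Fix := by
      rw [Components.fittingSubgroup_eq_iSup_pCore]
      refine iSup_le fun ⟨l, hl⟩ => ?_
      have hlp := Nat.prime_of_mem_primeFactors hl
      have := Fact.mk hlp
      have hl2 : l ≠ 2 := by
        rintro rfl
        exact Nat.not_even_iff_odd.2 hcardM (even_iff_two_dvd.2
          ((Nat.dvd_of_mem_primeFactors hl).trans (card_quotient_dvd_card N)))
      show pCore l ((G ⧸ F) ⧸ N) ≤ Fix
      set Pb := pCore l ((G ⧸ F) ⧸ N) with hPb
      haveI : Pb.Normal := Components.pCore_normal' l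
      set P := Pb.comap (QuotientGroup.mk' N) with hP
      haveI hPn : P.Normal := Normal.comap inferInstance _
      have hPi : ∀ a, ∀ x ∈ P, ψ a x ∈ P := fun a x hx => by
        show ψ2 a (x : (G ⧸ F) ⧸ N) ∈ Pb
        have h := PCore.map_pCore_mulEquiv (p := l) (ψ2 a)
        rw [hPb, ← h]
        exact mem_map_of_mem _ hx
      obtain ⟨S, hS⟩ := Coprime.exists_invariant_sylow_hom (restrictAct ψ P hPi)
        (hMcop.coprime_dvd_right (card_subgroup_dvd_card P)) (Or.inl hA) l
      set R := (S : Subgroup P).map P.subtype with hR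
      have hRP : R ≤ P := map_subtype_le _
      have hRl : IsPGroup l R := S.2.map _
      have hRi : ∀ a, ∀ x ∈ R, ψ a x ∈ R := by
        rintro a _ ⟨x, hx, rfl⟩
        exact ⟨_, hS a x hx, rfl⟩
      have hNP : N ≤ P := fun x hx => by
        show (x : (G ⧸ F) ⧸ N) ∈ Pb
        rw [(QuotientGroup.eq_one_iff x).2 hx]; exact one_mem _
      -- `P = R N`
      have hRN : ∀ x ∈ P, ∃ r ∈ R, r⁻¹ * x ∈ N := by
        intro x hx
        let π : P →* Pb := ((QuotientGroup.mk' N).comp P.subtype).codRestrict Pb fun y => y.2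
        have hπ : Function.Surjective π := by
          rintro ⟨y, hy⟩
          obtain ⟨z, rfl⟩ := QuotientGroup.mk'_surjective N y
          exact ⟨⟨z, hy⟩, rfl⟩
        have htop : ((S.mapSurjective hπ : Sylow l Pb) : Subgroup Pb) = ⊤ :=
          ((S.mapSurjective hπ).is_maximal' (IsPGroup.to_subgroup PCore.isPGroup_pCore ⊤) le_top).symm
        rw [Sylow.coe_mapSurjective] at htop
        obtain ⟨r, hr, hrx⟩ := htop.ge (mem_top (π ⟨x, hx⟩))
        exact ⟨r, ⟨r, hr, rfl⟩, QuotientGroup.eq.1 (congrArg Subtype.val hrx)⟩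
      -- the elements of `R` centralising every other `O_q`
      set C := ⨅ q : ℕ, ⨅ _ : q.Prime ∧ q ≠ l, centralizer (pCore q (G ⧸ F) : Set (G ⧸ F)) with hC
      have hmemC : ∀ {x}, x ∈ C ↔ ∀ q : ℕ, q.Prime ∧ q ≠ l →
          x ∈ centralizer (pCore q (G ⧸ F) : Set (G ⧸ F)) := by
        intro x; simp only [hC, mem_iInf]
      have hCn : C.Normal := ⟨fun x hx g => hmemC.2 fun q hq => by
        haveI : (pCore q (G ⧸ F)).Normal := Components.pCore_normal' q
        exact (Subgroup.Normal.conj_mem inferInstance _ (hmemC.1 hx q hq) g)⟩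
      set S0 := R ⊓ C with hS0
      have hS0P : S0 ≤ P := inf_le_left.trans hRP
      have hPS0 : P ≤ normalizer (S0 : Set (G ⧸ F)) := by
        have hRn : R ≤ normalizer (S0 : Set (G ⧸ F)) := le_normalizer_of_conj fun r hr x hx =>
          mem_inf.2 ⟨R.mul_mem (R.mul_mem hr (mem_inf.1 hx).1) (R.inv_mem hr),
            hCn.conj_mem _ (mem_inf.1 hx).2 r⟩
        have hNn : N ≤ normalizer (S0 : Set (G ⧸ F)) := by
          rw [hNdef, Components.fittingSubgroup_eq_iSup_pCore]
          refine iSup_le fun ⟨q, hq⟩ => ?_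
          rcases eq_or_ne q l with rfl | hql
          · refine le_trans ?_ hRn
            have hle : pCore q (G ⧸ F) ≤ P :=
              (Components.pCore_le_fittingSubgroup hlp).trans hNP
            haveI := Components.pCore_normal' (G := G ⧸ F) q
            have hcomap : IsPGroup q ((pCore q (G ⧸ F)).subgroupOf P) :=
              (PCore.isPGroup_pCore (p := q) (G := G ⧸ F)).comap_subtype
            have h1 : (pCore q (G ⧸ F)).subgroupOf P ≤ (S : Subgroup P) :=
              hcomap.le_sylow_of_normal S
            intro x hx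
            exact ⟨⟨x, hle hx⟩, h1 hx, rfl⟩
          · exact le_trans (le_centralizer_iff.1 fun x hx =>
              hmemC.1 (mem_inf.1 hx).2 q ⟨Nat.prime_of_mem_primeFactors hq, hql⟩) (centralizer_le_normalizer _)
        intro x hx
        obtain ⟨r, hr, hrx⟩ := hRN x hx
        rw [← mul_inv_cancel_left r x]
        exact mul_mem (hRn hr) (hNn hrx)
      have hS0N : S0 ≤ N := by
        haveI : (S0.subgroupOf P).Normal := (normal_subgroupOf_iff_le_normalizer hS0P).2 hPS0
        have h1 : S0.subgroupOf P ≤ pCore l P :=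
          PCore.le_pCore ((hRl.to_le inf_le_left).comap_subtype)
        haveI : (pCore l P).Characteristic := PCore.pCore_characteristic
        have h2 : (pCore l P).map P.subtype ≤ pCore l (G ⧸ F) :=
          PCore.le_pCore ((PCore.isPGroup_pCore).map _)
        intro x hx
        exact Components.pCore_le_fittingSubgroup hlp
          (h2 (mem_map_of_mem P.subtype (h1 (show (⟨x, hS0P hx⟩ : P) ∈ S0.subgroupOf P from hx))))
      have hgR : ∀ r ∈ R, r⁻¹ * ψ tau r ∈ N := by
        intro r hr'
        refine hS0N (mem_inf.2 ⟨R.mul_mem (R.inv_mem hr') (hRi tau r hr'), hmemC.2 fun q ⟨hq, hql⟩ => ?_⟩)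
        haveI := Fact.mk hq
        have hbot : pCore q (G ⧸ F) = ⊥ ∨ ((q : AlgebraicClosure (ZMod r_)) ≠ 0 ∧ q ≠ 2) := by
          rcases eq_or_ne q r_ with rfl | hqr
          · exact Or.inl (hOr _ (Components.pCore_normal' q) (hcorei q) PCore.isPGroup_pCore)
          rcases eq_or_ne q 2 with rfl | hq2
          · left
            rw [← Subgroup.card_eq_one]
            obtain ⟨i, hi⟩ := IsPGroup.iff_card.1 (PCore.isPGroup_pCore (p := 2) (G := G ⧸ F))
            rcases Nat.eq_zero_or_pos i with rfl | hi0
            · simpa using hi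
            · exact absurd (even_iff_two_dvd.2 ((hi ▸ dvd_pow_self 2 hi0.ne').trans
                (card_subgroup_dvd_card (pCore 2 (G ⧸ F))))) (Nat.not_even_iff_odd.2 hcardM)
          · refine Or.inr ⟨?_, hq2⟩
            rw [Ne, CharP.cast_eq_zero_iff (AlgebraicClosure (ZMod r_)) r_]
            exact fun h => hqr ((Nat.prime_dvd_prime_iff_eq hr hq).1 h).symm
        rw [mem_centralizer_iff]
        intro x hx
        rcases hbot with h | ⟨hqk, hq2⟩
        · rw [h, SetLike.mem_coe, mem_bot] at hx
          rw [hx, one_mul, mul_one]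
        · haveI := Components.pCore_normal' (G := G ⧸ F) q
          exact (centralizes_twoPower ρ he hcard hgen hAr hfaith hsum hq2 hl2 (Ne.symm hql) hqk R hRi hRl
            (pCore q (G ⧸ F)) (hcorei q) PCore.isPGroup_pCore
            (by rw [normalizer_eq_top]; exact le_top) r hr' x hx).symm
      intro xb hxb
      obtain ⟨x, rfl⟩ := QuotientGroup.mk'_surjective N xb
      show ψ2 tau (x : (G ⧸ F) ⧸ N) = (x : (G ⧸ F) ⧸ N)
      rw [hψ2, quotAct_mk]
      refine (QuotientGroup.eq.2 ?_).symm
      obtain ⟨r, hr', hrx⟩ := hRN x hxb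
      have h1 := hNn.conj_mem _ (hgR r hr') (r⁻¹ * x)⁻¹
      have : x⁻¹ * ψ tau x = (r⁻¹ * x)⁻¹ * (r⁻¹ * ψ tau r) * (r⁻¹ * x)⁻¹⁻¹ *
          ((r⁻¹ * x)⁻¹ * ψ tau (r⁻¹ * x)) := by
        rw [map_mul, map_inv]; group
      rw [this]
      exact mul_mem h1 (mul_mem (inv_mem hrx) (hNi _ _ hrx))
    intro g
    rw [mem_fitTwo]
    set c : G ⧸ F := ((g⁻¹ * φ tau g : G) : G ⧸ F) with hc
    show c ∈ N
    rw [← QuotientGroup.eq_one_iff (N := N)]
    set cb : (G ⧸ F) ⧸ N := (c : (G ⧸ F) ⧸ N) with hcb
    set gb : (G ⧸ F) ⧸ N := ((g : G ⧸ F) : (G ⧸ F) ⧸ N) with hgb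
    have hcfix : ψ2 tau cb = cb := hFM (hquot F hFi hFne g)
    have hgc : ψ2 tau gb = gb * cb := by
      show (((φ tau g : G) : G ⧸ F) : (G ⧸ F) ⧸ N) =
        ((g : G ⧸ F) : (G ⧸ F) ⧸ N) * (((g⁻¹ * φ tau g : G) : G ⧸ F) : (G ⧸ F) ⧸ N)
      rw [← QuotientGroup.mk_mul, ← QuotientGroup.mk_mul, mul_inv_cancel_left]
    have htt : ψ2 tau (ψ2 tau gb) = gb := by
      rw [← MulAut.mul_apply, ← map_mul, htau, ← pow_add, ← two_mul, ← pow_succ',
        Nat.sub_add_cancel (Nat.pos_of_ne_zero he), ← hcard, pow_card_eq_one', map_one,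
        MulAut.one_apply]
    have h1 : cb ^ 2 = 1 := by
      rw [hgc, map_mul, hgc, hcfix, mul_assoc, mul_eq_left, ← pow_two] at htt
      exact htt
    rw [← orderOf_eq_one_iff]
    refine Nat.eq_one_of_dvd_coprimes (hMcop.coprime_dvd_right (card_quotient_dvd_card N))
      ((orderOf_dvd_of_pow_eq_one h1).trans (hcard ▸ dvd_pow_self 2 he)) (orderOf_dvd_natCard cb)

/-- `t = s ^ 2 ^ (e - 1)` centralises `G` modulo the second Fitting subgroup. -/
theorem mem_fitTwo_of_twoPower {A : Type*} [CommGroup A] [Fintype A] {e : ℕ} {s : A} (he : e ≠ 0)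
    (hcard : Nat.card A = 2 ^ e) (hgen : ∀ a, a ∈ Subgroup.zpowers s)
    {G : Type u} [Group G] [Finite G] [Group.IsSolvable G] (φ : A →* MulAut G)
    (hcop : (Nat.card A).Coprime (Nat.card G)) (hfix : Coprime.fixedBy φ = ⊥) (g : G) :
    g⁻¹ * φ (s ^ 2 ^ (e - 1)) g ∈ fitTwo G :=
  memFitTwo_aux he hcard hgen _ G rfl φ hcop hfix g

end Cfsg.Agent.FittingHeight
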