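import Cfsg.Agent.Lib.FittingHeight.FpfCommute
import Cfsg.Agent.Lib.FittingHeight.Tools
import Cfsg.Agent.Lib.Coprime.Commutator

/-!
# Ward's theorem: an elementary abelian group of order `p²` without fixed points

In the linear configuration, for every `b ≠ 1` the group `C_S(b)` centralises `O_q(M)`, `S` an
invariant Sylow `s`-subgroup, `q ≠ s`; hence `M` is nilpotent.
-/

namespace Cfsg.Agent.FittingHeight

open Subgroup SemidirectProduct
open scoped commutatorElement IsMulCommutative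

universe u

theorem eq_top_of_mem {A : Type*} [Group A] [Finite A] {p : ℕ} (hp : p.Prime)
    (hcard : Nat.card A = p ^ 2) (hexp : ∀ a : A, a ^ p = 1) {H : Subgroup A} {a c : A}
    (ha : a ∈ H) (ha1 : a ≠ 1) (hc : c ∈ H) (hca : c ∉ zpowers a) : H = ⊤ := by
  obtain ⟨i, hi, hiH⟩ := (Nat.dvd_prime_pow hp).1 (hcard ▸ card_subgroup_dvd_card H)
  have hop : orderOf a = p := by
    have := Fact.mk hp
    exact orderOf_eq_prime (hexp a) ha1
  have hle : zpowers a ≤ H := zpowers_le.2 ha
  interval_cases i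
  · exact absurd ((Subgroup.card_eq_one.1 (by simpa using hiH) ▸ ha : a ∈ (⊥ : Subgroup A))) ha1
  · exact absurd ((Subgroup.eq_of_le_of_card_ge hle (by
      rw [hiH, Nat.card_zpowers, hop, pow_one])).ge hc) hca
  · exact Subgroup.eq_top_of_card_eq H (by rw [hiH, hcard])

theorem zpowers_eq_of_mem {A : Type*} [Group A] [Finite A] {p : ℕ} (hp : p.Prime)
    (hexp : ∀ a : A, a ^ p = 1) {a b : A} (hb : b ∈ zpowers a) (hb1 : b ≠ 1) :
    zpowers b = zpowers a := by
  have := Fact.mk hp
  have ha1 : a ≠ 1 := by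
    rintro rfl
    obtain ⟨i, rfl⟩ := hb
    exact hb1 (one_zpow i)
  exact Subgroup.eq_of_le_of_card_ge (zpowers_le.2 hb) (by
    rw [Nat.card_zpowers, Nat.card_zpowers, orderOf_eq_prime (hexp a) ha1,
      orderOf_eq_prime (hexp b) hb1])

theorem coreProp_ward {A : Type*} [CommGroup A] [Fintype A] {p : ℕ} (hp : p.Prime)
    (hcard : Nat.card A = p ^ 2) (hexp : ∀ a : A, a ^ p = 1) :
    CoreProp.{u} A (fun _ => True) := by
  classical
  intro M _ _ _ φ r k _ _ d ρ hr hchar hcop hAk hfix hfaith hsum hOr hheight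
  suffices hnil : Group.IsNilpotent M by
    obtain ⟨n, hn⟩ := Subgroup.nilpotent_iff_lowerCentralSeries.1 hnil
    exact ⟨n, trivial, hn⟩
  obtain ⟨n₀, -, hn₀⟩ := hheight
  have hpF := Fact.mk hp
  have hΓ : Finite (M ⋊[φ] A) := Coprime.finite_semidirectProduct φ
  have hAnc : ¬ IsCyclic A := by
    intro hcyc
    obtain ⟨g, hg⟩ := hcyc.exists_generator
    have h1 : orderOf g = p ^ 2 := by rw [orderOf_eq_card_of_forall_mem_zpowers hg, hcard]
    have h2 := Nat.le_of_dvd hp.pos (h1 ▸ orderOf_dvd_of_pow_eq_one (hexp g))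
    nlinarith [hp.two_le]
  have hpM : p.Coprime (Nat.card M) :=
    hcop.coprime_dvd_left (by rw [hcard]; exact dvd_pow_self p (by norm_num))
  -- an element fixed by two independent elements is trivial
  have hfix2 : ∀ {a c : A}, a ≠ 1 → c ∉ zpowers a → ∀ m : M, φ a m = m → φ c m = m → m = 1 := by
    intro a c ha hc m ham hcm
    have htop := eq_top_of_mem hp hcard hexp (H := (MulAction.stabilizer (MulAut M) m).comap φ)
      (show a ∈ _ from ham) ha (show c ∈ _ from hcm) hc
    have : m ∈ Coprime.fixedBy φ := fun b =>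
      (htop.ge (mem_top b) : φ b ∈ MulAction.stabilizer (MulAut M) m)
    rwa [hfix, mem_bot] at this
  refine isNilpotent_of_forall_centralizes hn₀ fun s _ => ?_
  obtain ⟨S, hSi⟩ := Coprime.exists_invariant_sylow_hom φ hcop
    (Or.inl (Group.isSolvable_of_comm fun x y : A => mul_comm x y)) s
  refine ⟨S, fun q hq hqs => ?_⟩
  have hqF := Fact.mk hq
  set Q0 := pCore q M with hQ0
  have hQ0p : IsPGroup q Q0 := PCore.isPGroup_pCore
  have hQ0n : Q0.Normal := Components.pCore_normal' q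
  have hQ0i : ∀ a, ∀ x ∈ Q0, φ a x ∈ Q0 := fun a x hx => by
    have h := PCore.map_pCore_mulEquiv (p := q) (φ a)
    rw [hQ0, ← h]
    exact mem_map_of_mem _ hx
  by_cases hqr : q = r
  · subst hqr
    rw [show Q0 = ⊥ from hOr _ hQ0n hQ0i hQ0p]
    exact fun x _ => mem_centralizer_iff.2 fun y hy => by
      rw [SetLike.mem_coe, mem_bot] at hy
      rw [hy, one_mul, mul_one]
  have hQ0k : (Nat.card Q0 : k) ≠ 0 := by
    obtain ⟨e, he⟩ := hQ0p.exists_card_eq
    rw [he, Nat.cast_pow]
    refine pow_ne_zero _ fun h => hqr ?_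
    exact ((Nat.prime_dvd_prime_iff_eq hr hq).1 ((CharP.cast_eq_zero_iff k r q).1 h)).symm
  -- reduce to the centralisers of elements of `A`
  refine le_of_forall_fixed hAnc hcop hSi (T := centralizer (Q0 : Set M)) fun b hb1 x₀ hx₀ hx₀b => ?_
  set S0 : Subgroup M := (S : Subgroup M) ⊓ MonoidHom.eqLocus (φ b : M →* M) (MonoidHom.id M)
    with hS0
  have hS0b : ∀ x ∈ S0, φ b x = x := fun x hx => hx.2
  suffices hmain : S0 ≤ centralizer (Q0 : Set M) from hmain ⟨hx₀, hx₀b⟩
  have hS0i : ∀ a, ∀ x ∈ S0, φ a x ∈ S0 := fun a x hx => ⟨hSi a x hx.1, by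
    show φ b (φ a x) = φ a x
    rw [← MulAut.mul_apply, ← map_mul, mul_comm, map_mul, MulAut.mul_apply, hS0b x hx]⟩
  have hsS0 : ∃ e, Nat.card S0 = s ^ e := (S.isPGroup'.to_le inf_le_left).exists_card_eq
  have hcopSq : ∀ {R : Subgroup M}, IsPGroup q R → (Nat.card S0).Coprime (Nat.card R) := by
    intro R hR
    obtain ⟨e, he⟩ := hsS0
    obtain ⟨f, hf⟩ := hR.exists_card_eq
    rw [he, hf]
    exact Nat.Coprime.pow e f ((Nat.coprime_primes Fact.out hq).2 (Ne.symm hqs))
  -- an element with no fixed point on both groups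
  have hT : ∀ {R : Subgroup M} {a : A}, IsPGroup q R → S0 ≤ normalizer (R : Set M) →
      (∀ e, ∀ x ∈ R, φ e x ∈ R) → (∀ x ∈ S0, φ a x = x → x = 1) → (∀ x ∈ R, φ a x = x → x = 1) →
      S0 ≤ centralizer (R : Set M) := by
    intro R a hR hS0R hRa hSf hRf
    have hinl : Function.Injective (inl : M → M ⋊[φ] A) := inl_injective
    have key := le_centralizer_of_fpf (Γ := M ⋊[φ] A) hp (a := inr a)
      (by rw [← map_pow, hexp, map_one]) (K := R.map inl) (S := S0.map inl)
      (hR.map inl)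
      ((map_mono hS0R).trans (le_normalizer_map inl))
      (inr_mem_normalizer hRa a)
      (by rw [← Nat.card_congr (S0.equivMapOfInjective inl hinl).toEquiv,
            ← Nat.card_congr (R.equivMapOfInjective inl hinl).toEquiv]
          exact hcopSq hR)
      (by rw [← Nat.card_congr (R.equivMapOfInjective inl hinl).toEquiv]
          exact hpM.coprime_dvd_right (card_subgroup_dvd_card R))
      (by
        rintro _ ⟨x, hx, rfl⟩
        exact ⟨φ a x, hS0i a x hx, inl_apply a x⟩)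
      (by
        rintro _ ⟨x, hx, rfl⟩ h
        rw [← inl_apply] at h
        rw [hSf x hx (hinl h), map_one])
      (by
        rintro _ ⟨x, hx, rfl⟩ h
        rw [← inl_apply] at h
        rw [hRf x hx (hinl h), map_one])
    intro x hx
    rw [mem_centralizer_iff]
    intro y hy
    exact hinl (by
      rw [map_mul, map_mul]
      exact mem_centralizer_iff.1 (key (mem_map_of_mem _ hx)) _ (mem_map_of_mem _ hy))
  by_contra hcon
  -- a minimal counterexample
  obtain ⟨Q, ⟨hQ0le, hQi, hS0Q, hQne⟩, hQmin⟩ := Set.Finite.exists_minimal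
    (s := {Q : Subgroup M | Q ≤ Q0 ∧ (∀ a, ∀ x ∈ Q, φ a x ∈ Q) ∧
      S0 ≤ normalizer (Q : Set M) ∧ ¬ S0 ≤ centralizer (Q : Set M)}) (Set.toFinite _)
    ⟨Q0, le_rfl, hQ0i, by rw [normalizer_eq_top]; exact le_top, hcon⟩
  have hQp : IsPGroup q Q := hQ0p.to_le hQ0le
  have hQk : (Nat.card Q : k) ≠ 0 := natCard_ne_zero_of_le hQ0k hQ0le
  have hmin : ∀ {R : Subgroup M}, R ≤ Q → (∀ a, ∀ x ∈ R, φ a x ∈ R) →
      S0 ≤ normalizer (R : Set M) → R ≠ Q → S0 ≤ centralizer (R : Set M) := by
    intro R hRQ hRi hRn hne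
    by_contra hR
    exact hne (le_antisymm hRQ (hQmin ⟨hRQ.trans hQ0le, hRi, hRn, hR⟩ hRQ))
  have hmapQ : ∀ a, Q.map (φ a : M →* M) = Q := map_eq_of_invariant φ hQi
  have hmapS : ∀ a, S0.map (φ a : M →* M) = S0 := map_eq_of_invariant φ hS0i
  -- `Q = [Q, S0]`
  have hcommQ : ⁅Q, S0⁆ = Q := by
    by_contra hne
    have hi : ∀ a, ∀ x ∈ ⁅Q, S0⁆, φ a x ∈ ⁅Q, S0⁆ := fun a x hx => by
      have := mem_map_of_mem (φ a : M →* M) hx
      rwa [map_commutator, hmapQ, hmapS] at this
    have h := hmin (Coprime.commutator_le_left_of_le_normalizer hS0Q) hi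
      (normalizer_commutator_ge_right Q S0) hne
    exact hQne (Coprime.le_centralizer_of_commutator_le_centralizer hS0Q (hcopSq hQp)
      (Or.inr (by have := hQp.isNilpotent; infer_instance)) h)
  set Z : Subgroup M := ⁅Q, Q⁆ with hZ
  have hZQ : Z ≤ Q := Subgroup.commutator_le.2 fun a ha b hb => by
    rw [commutatorElement_def]
    exact mul_mem (mul_mem (mul_mem ha hb) (inv_mem ha)) (inv_mem hb)
  have hZi : ∀ a, ∀ x ∈ Z, φ a x ∈ Z := fun a x hx => by
    have := mem_map_of_mem (φ a : M →* M) hx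
    rwa [map_commutator, hmapQ] at this
  have hQne1 : Q ≠ ⊥ := by
    rintro rfl
    exact hQne fun x _ => mem_centralizer_iff.2 fun y hy => by
      rw [SetLike.mem_coe, mem_bot] at hy
      rw [hy, one_mul, mul_one]
  have hZS : S0 ≤ centralizer (Z : Set M) := by
    refine hmin hZQ hZi ?_ fun h => ?_
    · intro x hx
      refine mem_normalizer_iff.2 fun y => ?_
      have hx' : Q.map (MulAut.conj x : M →* M) = Q := by
        ext z
        constructor
        · rintro ⟨z', hz', rfl⟩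
          exact (mem_normalizer_iff.1 (hS0Q hx) z').1 hz'
        · intro hz
          refine ⟨x⁻¹ * z * x, (mem_normalizer_iff.1 (hS0Q hx) _).2 ?_, ?_⟩
          · rwa [show x * (x⁻¹ * z * x) * x⁻¹ = z by group]
          · show x * (x⁻¹ * z * x) * x⁻¹ = z
            group
      have hZx : Z.map (MulAut.conj x : M →* M) = Z := by rw [hZ, map_commutator, hx']
      constructor
      · intro hy
        have := mem_map_of_mem (MulAut.conj x : M →* M) hy
        rwa [hZx] at this
      · intro hy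
        obtain ⟨y', hy', he⟩ := hZx.ge hy
        rwa [(MulAut.conj x).injective he] at hy'
    · have := hQp.isNilpotent
      obtain ⟨m, hm⟩ := Subgroup.nilpotent_iff_lowerCentralSeries.1 this
      have hle : ∀ i, Q ≤ Q.lowerCentralSeries i := by
        intro i
        induction i with
        | zero => exact le_rfl
        | succ i ih => exact h.ge.trans (commutator_mono ih le_rfl)
      refine hQne1 (eq_bot_iff.2 ((hle m).trans ?_))
      rw [← Subgroup.top_subtype_lowerCentralSeries, hm, Subgroup.map_bot]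
  have hZc : Z ≤ centralizer (Q : Set M) := by
    rw [← commutator_eq_bot_iff_le_centralizer]
    have h1 : ⁅⁅S0, Z⁆, Q⁆ = ⊥ := by
      rw [commutator_eq_bot_iff_le_centralizer.2 hZS, commutator_bot_left]
    have h2 : ⁅⁅Z, Q⁆, S0⁆ = ⊥ := by
      refine commutator_eq_bot_iff_le_centralizer.2 ?_
      have : ⁅Z, Q⁆ ≤ Z := by
        refine (commutator_mono hZQ le_rfl).trans_eq ?_
        rfl
      exact this.trans (le_centralizer_iff.1 hZS)
    have h3 : ⁅⁅Q, S0⁆, Z⁆ = ⊥ := commutator_commutator_eq_bot_of_rotate h1 h2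
    rwa [hcommQ, commutator_comm] at h3
  by_cases hZ1 : Z = ⊥
  swap
  · -- stage one
    obtain ⟨z₀, hz₀, hz₀1⟩ : ∃ z ∈ Z, z ≠ 1 := by
      obtain ⟨⟨z, hz⟩, hz1⟩ := Subgroup.ne_bot_iff_exists_ne_one.1 hZ1
      exact ⟨z, hz, fun h => hz1 (Subtype.ext h)⟩
    have hZcomm : IsMulCommutative Z := ⟨⟨fun x y => Subtype.ext
      (mem_centralizer_iff.1 (hZc y.2) x (hZQ x.2))⟩⟩
    obtain ⟨χ, v, hv0, hv, hχ⟩ := exists_weight_ne_one ρ hZcomm
      (natCard_ne_zero_of_le hQk hZQ) hfaith hz₀ hz₀1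
    obtain ⟨⟨a, ha⟩, ha1'⟩ :=
      Subgroup.ne_bot_iff_exists_ne_one.1 (aStab_ne_bot ρ hZi hv hv0 (hsum v))
    have ha1 : a ≠ 1 := fun h => ha1' (Subtype.ext h)
    have hstab : aStab Z χ = zpowers a := by
      refine le_antisymm (fun c hc => ?_) (zpowers_le.2 ha)
      by_contra hca
      exact hχ (wRes_eq_one_of_forall_mem hcop hfix hZi
        (fun a' => (eq_top_of_mem hp hcard hexp ha ha1 hc hca).ge (mem_top a')) _)
    set W := weightSpace ρ (Z.map (inl : M →* M ⋊[φ] A)) χ with hW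
    have hQW : ∀ x ∈ Q, ∀ w ∈ W, ρ (inl x) w ∈ W := fun x hx w hw =>
      mapsTo_weightSpace_of_commute ρ (inl_mem_centralizer (mem_centralizer_iff.2 fun z hz =>
        (mem_centralizer_iff.1 (hZc hz) x hx).symm)) hw
    have hSW : ∀ x ∈ S0, ∀ w ∈ W, ρ (inl x) w ∈ W := fun x hx w hw =>
      mapsTo_weightSpace_of_commute ρ (inl_mem_centralizer (hZS hx)) hw
    have haW : ∀ w ∈ W, ρ (inr a) w ∈ W := fun w hw => by
      obtain ⟨hN, he⟩ := (mem_aStab.1 ha : inr a ∈ wStab k _ χ)
      have := mapsTo_weightSpace ρ hN hw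
      rwa [he] at this
    -- the kernel on `W`
    set K : Subgroup M := Q ⊓ (fixerOf ρ W).comap inl with hK
    -- `C_Q(c)` acts trivially for `c ∉ ⟨a⟩`
    have hC : ∀ c : A, c ∉ zpowers a → ∀ x ∈ Q, φ c x = x → x ∈ K := by
      intro c hca x hxQ hxc
      refine ⟨hxQ, ?_⟩
      set P : Subgroup M := Q ⊓ MonoidHom.eqLocus (φ c : M →* M) (MonoidHom.id M) with hP
      have hPi : ∀ e, ∀ y ∈ P, φ e y ∈ P := fun e y hy => ⟨hQi e y hy.1, by
        show φ c (φ e y) = φ e y
        rw [← MulAut.mul_apply, ← map_mul, mul_comm, map_mul, MulAut.mul_apply,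
          show φ c y = y from hy.2]⟩
      have hcommP : ∀ g ∈ P, ∀ h ∈ P, ∀ w ∈ W, ρ (inl ⁅g, h⁆) w = w := by
        intro g hg h hh w hw
        have hzZ : ⁅g, h⁆ ∈ Z := commutator_mem_commutator hg.1 hh.1
        have hzc : φ c ⁅g, h⁆ = ⁅g, h⁆ := by
          rw [map_commutatorElement, show φ c g = g from hg.2, show φ c h = h from hh.2]
        have h1 : χ ⟨inl ⁅g, h⁆, mem_map_of_mem _ hzZ⟩ = 1 :=
          weight_eq_one_of_fixedPointFree (R := Z ⊓ MonoidHom.eqLocus (φ c : M →* M)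
              (MonoidHom.id M)) inf_le_left
            (fun y hy => ⟨hZi a y hy.1, by
              show φ c (φ a y) = φ a y
              rw [← MulAut.mul_apply, ← map_mul, mul_comm, map_mul, MulAut.mul_apply,
                show φ c y = y from hy.2]⟩)
            ha (fun y hy hay => hfix2 ha1 hca y hay hy.2) (mem_map_of_mem _ ⟨hzZ, hzc⟩)
        have := hw ⟨inl ⁅g, h⁆, mem_map_of_mem _ hzZ⟩
        rwa [h1, one_smul] at this
      refine mem_fixerOf_of_forall_weight ρ (L := P.map inl)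
        (natCard_map_inl_ne_zero (natCard_ne_zero_of_le hQk inf_le_left))
        (W := W) ?_ ?_ (l₀ := ⟨inl x, mem_map_of_mem _ ⟨hxQ, hxc⟩⟩) ?_
      · rintro _ ⟨g, hg, rfl⟩ w hw
        exact hQW g hg.1 w hw
      · rintro _ ⟨g, hg, rfl⟩ _ ⟨h, hh, rfl⟩ w hw
        rw [← apply_mul, ← apply_mul, ← map_mul, ← map_mul,
          show g * h = ⁅g, h⁆ * (h * g) by rw [commutatorElement_def]; group, map_mul inl,
          apply_mul, hcommP g hg h hh _ (hQW _ (mul_mem hh.1 hg.1) w hw)]
      · intro ψ w hw hw0 hψ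
        by_cases hfa : (inr a : M ⋊[φ] A) ∈ wStab k (P.map inl) ψ
        · exact weight_eq_one_of_fixedPointFree le_rfl (hPi a) hfa
            (fun y hy hay => hfix2 ha1 hca y hay hy.2) (mem_map_of_mem _ ⟨hxQ, hxc⟩)
        exfalso
        have hs0 : ∑ e : aStab Z χ, ρ (inr (e : A)) w = 0 :=
          sum_aStab_eq_zero ρ hZi hw (hsum w)
        have hs1 := sum_stab_eq_zero ρ hψ (fun e : aStab Z χ => (inr (e : A) : M ⋊[φ] A))
          (fun e => inr_mem_normalizer hPi e) hs0 {1} (fun e => by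
            rw [Finset.mem_singleton]
            constructor
            · rintro rfl
              rw [OneMemClass.coe_one, map_one]
              exact one_mem _
            · intro he
              by_contra he1
              refine hfa ?_
              have hmem : (e : A) ∈ zpowers a := hstab.le e.2
              have := zpowers_eq_of_mem hp hexp hmem fun h => he1 (Subtype.ext h)
              exact (zpowers_le.2 (show (e : A) ∈ (wStab k (P.map inl) ψ).comap inr from he))
                (this.ge (mem_zpowers a)))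
        rw [Finset.sum_singleton, OneMemClass.coe_one, map_one, apply_one] at hs1
        exact hw0 hs1
    -- `K` is normalised by `Q`, `S0` and `a`
    have hKconj : ∀ g : M, (∀ w ∈ W, ρ (inl g) w ∈ W) → (∀ w ∈ W, ρ (inl g⁻¹) w ∈ W) →
        g ∈ normalizer (Q : Set M) → ∀ x ∈ K, g * x * g⁻¹ ∈ K := by
      intro g hg hg' hgQ x hx
      refine ⟨(mem_normalizer_iff.1 hgQ x).1 hx.1, fun w hw => ?_⟩
      rw [map_mul inl, map_mul inl, apply_mul, apply_mul, (hx.2 : inl x ∈ fixerOf ρ W) _ (hg' w hw),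
        ← apply_mul, ← map_mul, mul_inv_cancel, map_one, apply_one]
    have hKQ : ∀ g ∈ Q, ∀ x ∈ K, g * x * g⁻¹ ∈ K := fun g hg =>
      hKconj g (hQW g hg) (hQW _ (inv_mem hg)) (le_normalizer hg)
    have hKS : ∀ g ∈ S0, ∀ x ∈ K, g * x * g⁻¹ ∈ K := fun g hg =>
      hKconj g (hSW g hg) (hSW _ (inv_mem hg)) (hS0Q hg)
    have hKa : ∀ x ∈ K, φ a x ∈ K := fun x hx => ⟨hQi a x hx.1, fun w hw => by
      have hi : ((inr a)⁻¹ : M ⋊[φ] A) ∈ wStab k (Z.map inl) χ := inv_mem (mem_aStab.1 ha)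
      obtain ⟨hN, he⟩ := hi
      have hw' := mapsTo_weightSpace ρ hN hw
      rw [he] at hw'
      rw [inl_apply, apply_mul, apply_mul, (hx.2 : inl x ∈ fixerOf ρ W) _ hw', ← apply_mul,
        mul_inv_cancel, apply_one]⟩
    -- `S0` centralises `Q` modulo `K`
    have hmod : ∀ g ∈ S0, ∀ x ∈ Q, x⁻¹ * (g * x * g⁻¹) ∈ K := by
      by_cases hba : b ∈ zpowers a
      · -- `C_Q(a) = C_Q(b)` is centralised
        intro g hg
        let T : Subgroup M :=
          { carrier := {x | x ∈ Q ∧ x⁻¹ * (g * x * g⁻¹) ∈ K}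
            one_mem' := ⟨one_mem Q, by simp⟩
            mul_mem' := fun {x y} hx hy => ⟨mul_mem hx.1 hy.1, by
              rw [show (x * y)⁻¹ * (g * (x * y) * g⁻¹) =
                (y⁻¹ * (x⁻¹ * (g * x * g⁻¹)) * (y⁻¹)⁻¹) * (y⁻¹ * (g * y * g⁻¹)) by group]
              exact mul_mem (hKQ _ (inv_mem hy.1) _ hx.2) hy.2⟩
            inv_mem' := fun {x} hx => ⟨inv_mem hx.1, by
              rw [show x⁻¹⁻¹ * (g * x⁻¹ * g⁻¹) = x * (x⁻¹ * (g * x * g⁻¹))⁻¹ * x⁻¹ by group]
              exact hKQ x hx.1 _ (inv_mem hx.2)⟩ }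
        have hQT : Q ≤ T := by
          refine le_of_forall_fixed hAnc hcop hQi fun c hc1 x hx hxc => ⟨hx, ?_⟩
          by_cases hca : c ∈ zpowers a
          · -- `x` is fixed by `b`
            have hxb : φ b x = x := by
              have hbc : b ∈ zpowers c := by rw [zpowers_eq_of_mem hp hexp hca hc1]; exact hba
              exact (zpowers_le.2 (show c ∈ (MulAction.stabilizer (MulAut M) x).comap φ from hxc))
                hbc
            obtain ⟨a', ha'⟩ : ∃ a', a' ∉ zpowers b := by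
              by_contra h
              push Not at h
              exact hAnc ⟨⟨b, h⟩⟩
            set R : Subgroup M := Q ⊓ MonoidHom.eqLocus (φ b : M →* M) (MonoidHom.id M)
            have hRn : S0 ≤ normalizer (R : Set M) := by
              intro y hy
              rw [mem_normalizer_iff]
              intro z
              have he : φ b (y * z * y⁻¹) = y * φ b z * y⁻¹ := by
                rw [map_mul, map_mul, map_inv, hS0b y hy]
              have hQy := mem_normalizer_iff.1 (hS0Q hy) z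
              refine ⟨fun hz => ⟨hQy.1 hz.1, ?_⟩, fun hz => ⟨hQy.2 hz.1, ?_⟩⟩
              · show φ b (y * z * y⁻¹) = _
                rw [he, show φ b z = z from hz.2]
                rfl
              · show φ b z = z
                have h' : φ b (y * z * y⁻¹) = y * z * y⁻¹ := hz.2
                rw [he, mul_left_inj, mul_right_inj] at h'
                exact h'
            have hRc := hT (R := R) (a := a') (hQp.to_le inf_le_left) hRn
              (fun e y hy => ⟨hQi e y hy.1, by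
                show φ b (φ e y) = φ e y
                rw [← MulAut.mul_apply, ← map_mul, mul_comm, map_mul, MulAut.mul_apply,
                  show φ b y = y from hy.2]⟩)
              (fun y hy h => hfix2 hb1 ha' y (hS0b y hy) h)
              (fun y hy h => hfix2 hb1 ha' y hy.2 h)
            rw [← mem_centralizer_iff.1 (hRc hg) x ⟨hx, hxb⟩, mul_inv_cancel_right,
              inv_mul_cancel]
            exact one_mem K
          · have hxK := hC c hca x hx hxc
            exact mul_mem (inv_mem hxK) (hKS g hg x hxK)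
        exact fun x hx => (hQT hx).2
      · -- `a` has no fixed point on `S0` and commutes with `Q` modulo `K`
        let T : Subgroup M :=
          { carrier := {x | x ∈ Q ∧ x⁻¹ * φ a x ∈ K}
            one_mem' := ⟨one_mem Q, by simp⟩
            mul_mem' := fun {x y} hx hy => ⟨mul_mem hx.1 hy.1, by
              rw [map_mul, show (x * y)⁻¹ * (φ a x * φ a y) =
                (y⁻¹ * (x⁻¹ * φ a x) * (y⁻¹)⁻¹) * (y⁻¹ * φ a y) by group]
              exact mul_mem (hKQ _ (inv_mem hy.1) _ hx.2) hy.2⟩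
            inv_mem' := fun {x} hx => ⟨inv_mem hx.1, by
              rw [map_inv, show x⁻¹⁻¹ * (φ a x)⁻¹ = x * (x⁻¹ * φ a x)⁻¹ * x⁻¹ by group]
              exact hKQ x hx.1 _ (inv_mem hx.2)⟩ }
        have hQT : Q ≤ T := by
          refine le_of_forall_fixed hAnc hcop hQi fun c hc1 x hx hxc => ⟨hx, ?_⟩
          by_cases hca : c ∈ zpowers a
          · have hxa : φ a x = x := by
              have hac : a ∈ zpowers c := by
                rw [zpowers_eq_of_mem hp hexp hca hc1]; exact mem_zpowers a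
              exact (zpowers_le.2 (show c ∈ (MulAction.stabilizer (MulAut M) x).comap φ from hxc))
                hac
            rw [hxa, inv_mul_cancel]
            exact one_mem K
          · have hxK := hC c hca x hx hxc
            exact mul_mem (inv_mem hxK) (hKa x hxK)
        intro g hg x hx
        -- `g = t⁻¹ φ a t`
        obtain ⟨t, htS, rfl⟩ : ∃ t ∈ S0, t⁻¹ * φ a t = g := by
          let f : S0 → S0 := fun t =>
            ⟨(t : M)⁻¹ * φ a t, mul_mem (inv_mem t.2) (hS0i a t t.2)⟩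
          have hf : Function.Injective f := fun t t' h => by
            have h' : (t : M)⁻¹ * φ a t = (t' : M)⁻¹ * φ a t' := congrArg Subtype.val h
            have : φ a ((t' : M) * (t : M)⁻¹) = (t' : M) * (t : M)⁻¹ := by
              rw [map_mul, map_inv]
              calc φ a t' * (φ a t)⁻¹ = t' * ((t' : M)⁻¹ * φ a t') * ((t : M)⁻¹ * φ a t)⁻¹ *
                  (t : M)⁻¹ := by group
                _ = (t' : M) * (t : M)⁻¹ := by rw [← h']; group
            have hab : a ∉ zpowers b := fun h =>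
              hba ((zpowers_eq_of_mem hp hexp h ha1).ge (mem_zpowers b))
            have h1 := hfix2 hb1 hab _ (hS0b _ (mul_mem t'.2 (inv_mem t.2))) this
            exact Subtype.ext (mul_inv_eq_one.1 h1).symm
          obtain ⟨t, ht⟩ := (Finite.injective_iff_surjective.1 hf) ⟨g, hg⟩
          exact ⟨t, t.2, congrArg Subtype.val ht⟩
        set y := t * x * t⁻¹
        have hy : y ∈ Q := (mem_normalizer_iff.1 (hS0Q htS) x).1 hx
        have h1 : x⁻¹ * φ a x ∈ K := (hQT hx).2
        have h2 : y⁻¹ * φ a y ∈ K := (hQT hy).2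
        have hu : t⁻¹ * φ a t ∈ S0 := hg
        have h3 : t⁻¹ * (y⁻¹ * φ a y) * t⁻¹⁻¹ ∈ K := hKS _ (inv_mem htS) _ h2
        have h4 : (t⁻¹ * φ a t) * (x⁻¹ * φ a x)⁻¹ * (t⁻¹ * φ a t)⁻¹ ∈ K :=
          hKS _ hu _ (inv_mem h1)
        convert mul_mem h3 h4 using 1
        simp only [y, map_mul, map_inv]
        group
    have hle : ⁅Q, S0⁆ ≤ K := Subgroup.commutator_le.2 fun x hx g hg => by
      have h := hKQ x hx _ (hmod g hg x hx)
      have := inv_mem (hKQ x hx _ (hmod g hg x hx))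
      rw [commutatorElement_def]
      convert this using 1
      group
    rw [hcommQ] at hle
    exact hχ (weight_eq_one_of_fixed ρ hv hv0 ((hle (hZQ hz₀)).2 v hv))
  -- stage two: `Q` is abelian
  have hQcomm : IsMulCommutative Q := ⟨⟨fun x y => Subtype.ext (by
    have : ⁅(x : M), (y : M)⁆ ∈ Z := commutator_mem_commutator x.2 y.2
    rw [hZ1, mem_bot] at this
    exact (commutatorElement_eq_one_iff_commute.1 this).eq)⟩⟩
  have hQS : Q ⊓ centralizer (S0 : Set M) = ⊥ := by
    have := Coprime.inf_centralizer_inf_commutator_eq_bot hS0Q (hcopSq hQp)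
    rwa [hcommQ, inf_assoc, inf_comm (centralizer _), ← inf_assoc, inf_idem] at this
  obtain ⟨z₀, hz₀, hz₀1⟩ : ∃ z ∈ Q, z ≠ 1 := by
    obtain ⟨⟨z, hz⟩, hz1⟩ := Subgroup.ne_bot_iff_exists_ne_one.1 hQne1
    exact ⟨z, hz, fun h => hz1 (Subtype.ext h)⟩
  obtain ⟨χ, v, hv0, hv, hχ⟩ := exists_weight_ne_one ρ hQcomm hQk hfaith hz₀ hz₀1
  obtain ⟨⟨a, ha⟩, ha1'⟩ :=
    Subgroup.ne_bot_iff_exists_ne_one.1 (aStab_ne_bot ρ hQi hv hv0 (hsum v))
  have ha1 : a ≠ 1 := fun h => ha1' (Subtype.ext h)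
  -- `b` has no fixed point on `Q`
  have hQb : ∀ x ∈ Q, φ b x = x → x = 1 := by
    intro x hx hxb
    obtain ⟨a', ha'⟩ : ∃ a', a' ∉ zpowers b := by
      by_contra h
      push Not at h
      exact hAnc ⟨⟨b, h⟩⟩
    set R : Subgroup M := Q ⊓ MonoidHom.eqLocus (φ b : M →* M) (MonoidHom.id M)
    have hRn : S0 ≤ normalizer (R : Set M) := by
      intro y hy
      rw [mem_normalizer_iff]
      intro z
      have he : φ b (y * z * y⁻¹) = y * φ b z * y⁻¹ := by
        rw [map_mul, map_mul, map_inv, hS0b y hy]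
      have hQy := mem_normalizer_iff.1 (hS0Q hy) z
      refine ⟨fun hz => ⟨hQy.1 hz.1, ?_⟩, fun hz => ⟨hQy.2 hz.1, ?_⟩⟩
      · show φ b (y * z * y⁻¹) = _
        rw [he, show φ b z = z from hz.2]
        rfl
      · show φ b z = z
        have h' : φ b (y * z * y⁻¹) = y * z * y⁻¹ := hz.2
        rw [he, mul_left_inj, mul_right_inj] at h'
        exact h'
    have hRc := hT (R := R) (a := a') (hQp.to_le inf_le_left) hRn
      (fun e y hy => ⟨hQi e y hy.1, by
        show φ b (φ e y) = φ e y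
        rw [← MulAut.mul_apply, ← map_mul, mul_comm, map_mul, MulAut.mul_apply,
          show φ b y = y from hy.2]⟩)
      (fun y hy h => hfix2 hb1 ha' y (hS0b y hy) h)
      (fun y hy h => hfix2 hb1 ha' y hy.2 h)
    have : x ∈ Q ⊓ centralizer (S0 : Set M) := ⟨hx, mem_centralizer_iff.2 fun y hy =>
      (mem_centralizer_iff.1 (hRc hy) x ⟨hx, hxb⟩).symm⟩
    rwa [hQS, mem_bot] at this
  have hab : a ∉ zpowers b := by
    intro h
    refine hχ (weight_eq_one_of_fixedPointFree le_rfl (hQi b) ?_ hQb (mem_map_of_mem _ hz₀))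
    exact (zpowers_le.2 ha) ((zpowers_eq_of_mem hp hexp h ha1).ge (mem_zpowers b))
  have haS : ∀ x ∈ S0, φ a x = x → x = 1 := fun x hx h => hfix2 hb1 hab x (hS0b x hx) h
  -- the translates of `χ`
  set ξ := wRes Q χ with hξdef
  let γ : S0 →* MulAut Q := Q.normalizerMonoidHom.comp (Subgroup.inclusion hS0Q)
  have hγ : ∀ (g : S0) (x : Q), ((γ g x : Q) : M) = g * x * (g : M)⁻¹ := fun g x => rfl
  let _ : Fintype S0 := Fintype.ofFinite S0
  -- the product over `S0` is trivial
  have hprodS : ∀ x : Q, ∏ g : S0, γ g x = 1 := by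
    intro x
    have : ((∏ g : S0, γ g x : Q) : M) ∈ Q ⊓ centralizer (S0 : Set M) := by
      refine ⟨(∏ g : S0, γ g x).2, mem_centralizer_iff.2 fun h hh => ?_⟩
      have hinv : γ ⟨h, hh⟩ (∏ g : S0, γ g x) = ∏ g : S0, γ g x := by
        rw [map_prod]
        exact Fintype.prod_equiv (Equiv.mulLeft (⟨h, hh⟩ : S0)) _ _ fun g => by
          show γ (⟨h, hh⟩ : S0) (γ g x) = γ ((⟨h, hh⟩ : S0) * g) x
          rw [map_mul, MulAut.mul_apply]
      exact mul_inv_eq_iff_eq_mul.1 ((hγ ⟨h, hh⟩ _).symm.trans (congrArg Subtype.val hinv))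
    rw [hQS, mem_bot] at this
    exact Subtype.ext this
  let γA := restrictAct φ Q hQi
  have haξ : ∀ x : Q, ξ (γA a x) = ξ x := wRes_apply_act hQi (mem_aStab.1 ha)
  have haξ' : ∀ x : Q, ξ (γA a⁻¹ x) = ξ x :=
    wRes_apply_act hQi (mem_aStab.1 (inv_mem ha))
  let θ : S0 → S0 := fun g => ⟨φ a⁻¹ g, hS0i _ _ g.2⟩
  have hθ : ∀ (g : S0) (x : Q), γ (θ g) x = γA a⁻¹ (γ g (γA a x)) := by
    intro g x
    refine Subtype.ext ?_
    show φ a⁻¹ g * (x : M) * (φ a⁻¹ g)⁻¹ = φ a⁻¹ (g * φ a x * (g : M)⁻¹)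
    rw [map_mul, map_mul, map_inv (φ a⁻¹) (g : M), ← MulAut.mul_apply, ← map_mul, inv_mul_cancel,
      map_one, MulAut.one_apply]
  -- the stabiliser of `χ` in `S0`
  let T : Subgroup S0 :=
    { carrier := {g | ∀ x : Q, ξ (γ g x) = ξ x}
      one_mem' := fun x => by rw [map_one, MulAut.one_apply]
      mul_mem' := fun {g h} hg hh x => by rw [map_mul, MulAut.mul_apply, hg, hh]
      inv_mem' := fun {g} hg x => by
        rw [← hg (γ g⁻¹ x), ← MulAut.mul_apply, ← map_mul, mul_inv_cancel, map_one,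
          MulAut.one_apply] }
  have hTθ : ∀ g ∈ T, θ g ∈ T := fun g hg x => by rw [hθ, haξ', hg, haξ]
  have hinj : ∀ g h : S0, θ g * g⁻¹ = θ h * h⁻¹ → g = h := by
    intro g h e
    have e' : φ a⁻¹ (g : M) * (g : M)⁻¹ = φ a⁻¹ (h : M) * (h : M)⁻¹ := congrArg Subtype.val e
    have hd : φ a⁻¹ ((h : M)⁻¹ * g) = (h : M)⁻¹ * g := by
      rw [map_mul, map_inv (φ a⁻¹) (h : M)]
      calc (φ a⁻¹ (h : M))⁻¹ * φ a⁻¹ (g : M) = (φ a⁻¹ (h : M))⁻¹ * (φ a⁻¹ (g : M) * (g : M)⁻¹) *
          (g : M) := by group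
        _ = (h : M)⁻¹ * g := by rw [e']; group
    have hd' : φ a ((h : M)⁻¹ * g) = (h : M)⁻¹ * g := by
      conv_lhs => rw [← hd]
      rw [← MulAut.mul_apply, ← map_mul, mul_inv_cancel, map_one, MulAut.one_apply]
    exact Subtype.ext
      (inv_mul_eq_one.1 (haS _ (S0.mul_mem (S0.inv_mem h.2) g.2) hd')).symm
  -- the values at a norm
  let nn : Q → Q := fun x => ∏ i ∈ Finset.range p, γA (a ^ i) x
  have hnn : ∀ x : Q, φ a (nn x : M) = nn x := by
    intro x
    show (γA a (nn x) : M) = nn x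
    congr 1
    simp only [nn, map_prod, ← MulAut.mul_apply, ← map_mul, ← pow_succ']
    obtain ⟨m, rfl⟩ : ∃ m, p = m + 1 := ⟨p - 1, by have := hp.pos; omega⟩
    rw [Finset.prod_range_succ, hexp, Finset.prod_range_succ' (fun i => γA (a ^ i) x), pow_zero]
  have hξnn : ∀ x : Q, ξ (nn x) = ξ x ^ p := by
    intro x
    simp only [nn, map_prod]
    rw [Finset.prod_congr rfl fun i _ => wRes_apply_act hQi (mem_aStab.1 (pow_mem ha i)) x,
      Finset.prod_const, Finset.card_range]
  have hnormS : ∀ g ∈ S0, (inl g : M ⋊[φ] A) ∈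
      normalizer ((Q.map inl : Subgroup (M ⋊[φ] A)) : Set (M ⋊[φ] A)) := fun g hg =>
    le_normalizer_map inl (mem_map_of_mem _ (hS0Q hg))
  let gs : S0 → ((Q.map (inl : M →* M ⋊[φ] A)) →* k) := fun g =>
    twist k (Q.map inl) (inl (g : M)⁻¹) (hnormS _ (inv_mem g.2)) χ
  have hgs : ∀ (g : S0) (x : Q), wRes Q (gs g) x = ξ (γ g x) := fun g x => by
    simp only [gs, hξdef, wRes_apply, twist_apply]
    congr 1
    refine Subtype.ext ?_
    show (inl (g : M)⁻¹)⁻¹ * inl (x : M) * inl (g : M)⁻¹ = (inl ((γ g x : Q) : M) : M ⋊[φ] A)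
    rw [hγ, map_mul, map_mul, map_inv (inl : M →* M ⋊[φ] A) (g : M), inv_inv]
  have hval : ∀ (g : S0) (x : Q), ξ (γ g (nn x)) = if g ∈ T then ξ x ^ p else 1 := by
    intro g x
    by_cases hg : g ∈ T
    · rw [if_pos hg, hg, hξnn]
    rw [if_neg hg, ← hgs]
    have hna : a ∉ aStab Q (gs g) := by
      intro hga
      apply hg
      have h1 : θ g * g⁻¹ ∈ T := fun y => by
        rw [map_mul, MulAut.mul_apply, hθ, haξ']
        have h2 := wRes_apply_act hQi (mem_aStab.1 hga) (γ g⁻¹ y)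
        have h3 : γ g (γ g⁻¹ y) = y := by
          rw [← MulAut.mul_apply, ← map_mul, mul_inv_cancel, map_one, MulAut.one_apply]
        rw [hgs, hgs, h3] at h2
        exact h2
      have hf : Function.Injective
          (fun t : T => (⟨θ t * (t : S0)⁻¹, T.mul_mem (hTθ t t.2) (T.inv_mem t.2)⟩ : T)) :=
        fun t t' e => Subtype.ext (hinj _ _ (congrArg Subtype.val e))
      obtain ⟨t, ht⟩ := (Finite.injective_iff_surjective.1 hf) ⟨_, h1⟩
      rw [← hinj _ _ (congrArg Subtype.val ht)]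
      exact t.2
    have hv' := mapsTo_weightSpace ρ (hnormS _ (inv_mem g.2)) hv
    have hv'0 : ρ (inl (g : M)⁻¹) v ≠ 0 := fun h => hv0 (by
      have := congrArg (ρ (inl (g : M))) h
      rwa [← apply_mul, ← map_mul, mul_inv_cancel, map_one, apply_one, map_zero] at this)
    obtain ⟨⟨a', ha'⟩, ha'1⟩ :=
      Subgroup.ne_bot_iff_exists_ne_one.1 (aStab_ne_bot ρ hQi hv' hv'0 (hsum _))
    have ha'a : a' ∉ zpowers a := fun h => hna ((zpowers_le.2 ha')
      ((zpowers_eq_of_mem hp hexp h fun e => ha'1 (Subtype.ext e)).ge (mem_zpowers a)))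
    refine weight_eq_one_of_fixedPointFree (R := Q ⊓ MonoidHom.eqLocus (φ a : M →* M)
        (MonoidHom.id M)) inf_le_left ?_ (mem_aStab.1 ha') ?_
      (mem_map_of_mem _ ⟨(nn x).2, hnn x⟩)
    · exact fun y hy => ⟨hQi a' y hy.1, by
        show φ a (φ a' y) = φ a' y
        rw [← MulAut.mul_apply, ← map_mul, mul_comm, map_mul, MulAut.mul_apply,
          show φ a y = y from hy.2]⟩
    · exact fun y hy h => hfix2 ha1 ha'a y hy.2 h
  -- conclusion
  refine hχ (eq_one_of_pow_eq_one_of_coprime ξ ⟨z₀, hz₀⟩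
    (m := p * (Finset.univ.filter (· ∈ T)).card) ?_ ?_)
  · refine Nat.Coprime.mul_left (hpM.coprime_dvd_right (card_subgroup_dvd_card Q)) ?_
    refine (hcopSq hQp).coprime_dvd_left ?_
    rw [← Fintype.card_subtype, ← Nat.card_eq_fintype_card]
    exact card_subgroup_dvd_card T
  · have h := congrArg ξ (hprodS (nn ⟨z₀, hz₀⟩))
    rw [map_prod, map_one] at h
    simp only [hval, Finset.prod_ite, Finset.prod_const, one_pow, mul_one] at h
    rwa [← pow_mul] at h

end Cfsg.Agent.FittingHeight
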