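import Cfsg.Agent.Lib.LinRep.CharOrbit
import Cfsg.Agent.Lib.Coprime.Basic

/-!
# Weights of a subgroup in a representation

`ρ : Γ →* End E`, `L` a subgroup, `χ : L →* k`. The weight space, the translate of a weight by an
element normalising `L`, its stabiliser, existence of non-trivial weights in coprime characteristic,
independence, and the lemma: if the operators `ρ (t i)` sum to zero on a weight vector, then so do
those of them that fix the weight.
-/

namespace Cfsg.Agent.FittingHeight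

open Subgroup

variable {Γ : Type*} [Group Γ] {k : Type*} [Field k] {E : Type*} [AddCommGroup E] [Module k E]
  (ρ : Γ →* Module.End k E)

theorem apply_mul (g h : Γ) (v : E) : ρ (g * h) v = ρ g (ρ h v) := by
  rw [map_mul, Module.End.mul_apply]

theorem apply_one (v : E) : ρ 1 v = v := by
  rw [map_one, Module.End.one_apply]

/-- The subgroup of elements fixing every vector of `W`. -/
def fixerOf (W : Submodule k E) : Subgroup Γ where
  carrier := {g | ∀ w ∈ W, ρ g w = w}
  one_mem' := fun w _ => apply_one ρ w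
  mul_mem' := fun {g h} hg hh w hw => by rw [apply_mul, hh w hw, hg w hw]
  inv_mem' := fun {g} hg w hw => by
    conv_lhs => rw [← hg w hw, ← apply_mul, inv_mul_cancel, apply_one]

theorem mem_fixerOf {W : Submodule k E} {g : Γ} : g ∈ fixerOf ρ W ↔ ∀ w ∈ W, ρ g w = w := Iff.rfl

/-- An element of odd order whose square fixes `W` fixes `W`. -/
theorem mem_fixerOf_of_sq {W : Submodule k E} {g : Γ} (hodd : Odd (orderOf g))
    (h : g * g ∈ fixerOf ρ W) : g ∈ fixerOf ρ W := by
  obtain ⟨m, hm⟩ := hodd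
  have h1 : (g * g) ^ (m + 1) = g := by
    rw [← sq, ← pow_mul, show 2 * (m + 1) = orderOf g + 1 by omega, pow_succ, pow_orderOf_eq_one,
      one_mul]
  rw [← h1]
  exact pow_mem h _

/-- The weight space of `χ`. -/
def weightSpace (L : Subgroup Γ) (χ : L →* k) : Submodule k E where
  carrier := {v | ∀ l : L, ρ (l : Γ) v = χ l • v}
  add_mem' := fun {v w} hv hw l => by rw [map_add, hv l, hw l, smul_add]
  zero_mem' := fun l => by rw [map_zero, smul_zero]
  smul_mem' := fun c v hv l => by rw [map_smul, hv l, smul_comm]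

theorem mem_weightSpace {L : Subgroup Γ} {χ : L →* k} {v : E} :
    v ∈ weightSpace ρ L χ ↔ ∀ l : L, ρ (l : Γ) v = χ l • v := Iff.rfl

theorem weight_eq_one_of_fixed {L : Subgroup Γ} {χ : L →* k} {v : E}
    (hv : v ∈ weightSpace ρ L χ) (hv0 : v ≠ 0) {l : L} (h : ρ (l : Γ) v = v) : χ l = 1 := by
  rw [hv l] at h
  exact smul_left_injective k hv0 (h.trans (one_smul k v).symm)

theorem mapsTo_weightSpace_of_commute {L : Subgroup Γ} {χ : L →* k} {g : Γ}
    (hg : g ∈ centralizer (L : Set Γ)) {v : E} (hv : v ∈ weightSpace ρ L χ) :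
    ρ g v ∈ weightSpace ρ L χ := fun l => by
  rw [← apply_mul, mem_centralizer_iff.1 hg l l.2, apply_mul, hv l, map_smul]

variable (k) in
/-- The translate of a weight by an element of the normaliser. -/
def twist (L : Subgroup Γ) (g : Γ) (hg : g ∈ normalizer (L : Set Γ)) (χ : L →* k) : L →* k :=
  χ.comp
    { toFun := fun l => ⟨g⁻¹ * l * g, (mem_normalizer_iff''.1 hg l).1 l.2⟩
      map_one' := Subtype.ext (by simp)
      map_mul' := fun a b => Subtype.ext (by
        show g⁻¹ * ((a : Γ) * b) * g = (g⁻¹ * a * g) * (g⁻¹ * b * g)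
        group) }

theorem twist_apply {L : Subgroup Γ} {g : Γ} (hg : g ∈ normalizer (L : Set Γ)) (χ : L →* k)
    (l : L) : twist k L g hg χ l = χ ⟨g⁻¹ * l * g, (mem_normalizer_iff''.1 hg l).1 l.2⟩ := rfl

theorem twist_twist {L : Subgroup Γ} {g h : Γ} (hg : g ∈ normalizer (L : Set Γ))
    (hh : h ∈ normalizer (L : Set Γ)) (χ : L →* k) :
    twist k L g hg (twist k L h hh χ) = twist k L (g * h) (mul_mem hg hh) χ := by
  ext l
  simp only [twist_apply]
  congr 1
  apply Subtype.ext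
  show h⁻¹ * (g⁻¹ * (l : Γ) * g) * h = (g * h)⁻¹ * l * (g * h)
  group

theorem twist_congr {L : Subgroup Γ} {g h : Γ} (hg : g ∈ normalizer (L : Set Γ))
    (hh : h ∈ normalizer (L : Set Γ)) (e : g = h) (χ : L →* k) :
    twist k L g hg χ = twist k L h hh χ := by
  subst e; rfl

theorem twist_one {L : Subgroup Γ} (χ : L →* k) : twist k L 1 (one_mem _) χ = χ := by
  ext l
  rw [twist_apply]
  congr 1
  apply Subtype.ext
  simp

theorem twist_one_char {L : Subgroup Γ} {g : Γ} (hg : g ∈ normalizer (L : Set Γ)) :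
    twist k L g hg (1 : L →* k) = 1 := rfl

theorem twist_mul_char {L : Subgroup Γ} {g : Γ} (hg : g ∈ normalizer (L : Set Γ)) (χ ψ : L →* k) :
    twist k L g hg (χ * ψ) = twist k L g hg χ * twist k L g hg ψ := rfl

theorem twist_pow_char {L : Subgroup Γ} {g : Γ} (hg : g ∈ normalizer (L : Set Γ)) (χ : L →* k)
    (n : ℕ) : twist k L g hg (χ ^ n) = twist k L g hg χ ^ n := rfl

theorem twist_prod_char {L : Subgroup Γ} {g : Γ} (hg : g ∈ normalizer (L : Set Γ)) {ι : Type*}
    (s : Finset ι) (f : ι → L →* k) :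
    twist k L g hg (∏ i ∈ s, f i) = ∏ i ∈ s, twist k L g hg (f i) := by
  classical
  induction s using Finset.induction_on with
  | empty => rfl
  | @insert a s ha ih => rw [Finset.prod_insert ha, Finset.prod_insert ha, twist_mul_char, ih]

theorem mapsTo_weightSpace {L : Subgroup Γ} {χ : L →* k} {g : Γ} (hg : g ∈ normalizer (L : Set Γ))
    {v : E} (hv : v ∈ weightSpace ρ L χ) : ρ g v ∈ weightSpace ρ L (twist k L g hg χ) := fun l => by
  have h := hv ⟨g⁻¹ * l * g, (mem_normalizer_iff''.1 hg l).1 l.2⟩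
  rw [twist_apply, ← map_smul, ← h, ← apply_mul, ← apply_mul]
  congr 2
  group

variable (k) in
/-- The stabiliser of a weight. -/
def wStab (L : Subgroup Γ) (χ : L →* k) : Subgroup Γ where
  carrier := {g | ∃ hg : g ∈ normalizer (L : Set Γ), twist k L g hg χ = χ}
  one_mem' := ⟨one_mem _, twist_one χ⟩
  mul_mem' := fun {g h} ⟨hg, hgχ⟩ ⟨hh, hhχ⟩ => ⟨mul_mem hg hh, by
    rw [← twist_twist hg hh, hhχ, hgχ]⟩
  inv_mem' := fun {g} ⟨hg, hgχ⟩ => ⟨inv_mem hg, by
    conv_lhs => rw [← hgχ, twist_twist (inv_mem hg) hg, twist_congr _ (one_mem _) (inv_mul_cancel g),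
      twist_one]⟩

theorem mem_wStab_iff {L : Subgroup Γ} {χ : L →* k} {g : Γ} (hg : g ∈ normalizer (L : Set Γ)) :
    g ∈ wStab k L χ ↔ twist k L g hg χ = χ :=
  ⟨fun ⟨_, h⟩ => h, fun h => ⟨hg, h⟩⟩

theorem centralizer_le_wStab {L : Subgroup Γ} (χ : L →* k) :
    centralizer (L : Set Γ) ≤ wStab k L χ := by
  intro g hg
  have hgN : g ∈ normalizer (L : Set Γ) := by
    rw [mem_normalizer_iff]
    intro x
    constructor
    · intro hx
      rw [← mem_centralizer_iff.1 hg x hx, mul_inv_cancel_right]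
      exact hx
    · intro hx
      have := mem_centralizer_iff.1 hg _ hx
      have h2 : x = g * x * g⁻¹ := by
        calc x = g⁻¹ * ((g * x * g⁻¹) * g) := by group
          _ = g⁻¹ * (g * (g * x * g⁻¹)) := by rw [this]
          _ = _ := by group
      rw [h2]; exact hx
  refine ⟨hgN, MonoidHom.ext fun l => ?_⟩
  rw [twist_apply]
  congr 1
  apply Subtype.ext
  show g⁻¹ * (l : Γ) * g = l
  rw [mul_assoc, mem_centralizer_iff.1 hg l l.2, inv_mul_cancel_left]

theorem apply_eq_of_mem_wStab {L : Subgroup Γ} {χ : L →* k} {g : Γ} (hg : g ∈ wStab k L χ) (l : L)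
    (h : g * l * g⁻¹ ∈ L) : χ ⟨g * l * g⁻¹, h⟩ = χ l := by
  obtain ⟨hN, hfix⟩ := hg
  conv_lhs => rw [← hfix, twist_apply]
  congr 1
  apply Subtype.ext
  show g⁻¹ * (g * (l : Γ) * g⁻¹) * g = l
  group

/-- A weight fixed by `a` is trivial on every finite `a`-invariant subgroup on which `a` has no
non-trivial fixed point. -/
theorem weight_eq_one_of_fpf {L : Subgroup Γ} {χ : L →* k} {a : Γ} (ha : a ∈ wStab k L χ)
    {K : Subgroup Γ} [Finite K] (hKL : K ≤ L) (hKa : ∀ x ∈ K, a * x * a⁻¹ ∈ K)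
    (hfix : K ⊓ centralizer {a} = ⊥) {l : L} (hl : (l : Γ) ∈ K) : χ l = 1 := by
  let f : K → K := fun x => ⟨(x : Γ)⁻¹ * (a * x * a⁻¹), mul_mem (inv_mem x.2) (hKa x x.2)⟩
  have hinj : Function.Injective f := fun x y h => by
    have h' : (x : Γ)⁻¹ * (a * x * a⁻¹) = (y : Γ)⁻¹ * (a * y * a⁻¹) := congrArg Subtype.val h
    have hm : (y : Γ) * (x : Γ)⁻¹ ∈ K ⊓ centralizer {a} := by
      refine ⟨K.mul_mem y.2 (K.inv_mem x.2), mem_centralizer_singleton_iff.2 ?_⟩
      calc (y : Γ) * (x : Γ)⁻¹ * a = y * ((x : Γ)⁻¹ * (a * x * a⁻¹)) * a * (x : Γ)⁻¹ := by group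
        _ = y * ((y : Γ)⁻¹ * (a * y * a⁻¹)) * a * (x : Γ)⁻¹ := by rw [h']
        _ = a * ((y : Γ) * (x : Γ)⁻¹) := by group
    rw [hfix, mem_bot, mul_inv_eq_one] at hm
    exact Subtype.ext hm.symm
  obtain ⟨x, hx⟩ := (Finite.injective_iff_surjective.1 hinj) ⟨l, hl⟩
  let xl : L := ⟨x, hKL x.2⟩
  let yl : L := ⟨a * x * a⁻¹, hKL (hKa x x.2)⟩
  have hl' : l = xl⁻¹ * yl := Subtype.ext (congrArg Subtype.val hx).symm
  rw [hl', map_mul, show χ yl = χ xl from apply_eq_of_mem_wStab ha xl (hKL (hKa x x.2)), ← map_mul,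
    inv_mul_cancel, map_one]

/-- Independence of weight vectors. -/
theorem eq_zero_of_sum_eq_zero {L : Subgroup Γ} (s : Finset (L →* k)) (f : (L →* k) → E)
    (hf : ∀ χ ∈ s, f χ ∈ weightSpace ρ L χ) (hsum : ∑ χ ∈ s, f χ = 0) :
    ∀ χ ∈ s, f χ = 0 := by
  classical
  intro χ₀ hχ₀
  by_contra hne
  obtain ⟨φ, hφ⟩ : ∃ φ : E →ₗ[k] k, φ (f χ₀) ≠ 0 := by
    by_contra H
    push Not at H
    exact hne ((Module.forall_dual_apply_eq_zero_iff k _).1 H)
  have hind := (linearIndependent_monoidHom L k).comp (fun χ : s => (χ : L →* k))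
    Subtype.val_injective
  have key : ∀ l : L, ∑ χ : s, φ (f χ) * (χ : L →* k) l = 0 := by
    intro l
    have h1 := congrArg (fun w => φ (ρ (l : Γ) w)) hsum
    simp only [map_sum, map_zero] at h1
    rw [← h1, ← Finset.sum_coe_sort s]
    refine Finset.sum_congr rfl fun χ _ => ?_
    rw [(hf χ χ.2) l, map_smul, smul_eq_mul, mul_comm]
  refine hφ (Fintype.linearIndependent_iff.1 hind (fun χ : s => φ (f χ)) ?_ ⟨χ₀, hχ₀⟩)
  funext l
  simpa [Finset.sum_apply] using key l

/-- If the operators `ρ (t i)` sum to zero on a weight vector, so do those fixing its weight. -/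
theorem sum_stab_eq_zero {L : Subgroup Γ} {χ : L →* k} {v : E} (hv : v ∈ weightSpace ρ L χ)
    {ι : Type*} [Fintype ι] (t : ι → Γ) (hN : ∀ i, t i ∈ normalizer (L : Set Γ))
    (hsum : ∑ i, ρ (t i) v = 0) (s : Finset ι) (hs : ∀ i, i ∈ s ↔ t i ∈ wStab k L χ) :
    ∑ i ∈ s, ρ (t i) v = 0 := by
  classical
  let T : Finset (L →* k) := Finset.univ.image fun i => twist k L (t i) (hN i) χ
  let f : (L →* k) → E := fun ψ =>
    ∑ i ∈ Finset.univ.filter (fun i => twist k L (t i) (hN i) χ = ψ), ρ (t i) v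
  have hf : ∀ ψ ∈ T, f ψ ∈ weightSpace ρ L ψ := fun ψ _ => by
    refine Submodule.sum_mem _ fun i hi => ?_
    rw [← (Finset.mem_filter.1 hi).2]
    exact mapsTo_weightSpace ρ (hN i) hv
  have h0 : ∑ ψ ∈ T, f ψ = 0 := by
    rw [← hsum]
    exact Finset.sum_fiberwise_of_maps_to (fun i _ => Finset.mem_image_of_mem _ (Finset.mem_univ i)) _
  have hsF : s = Finset.univ.filter (fun i => twist k L (t i) (hN i) χ = χ) := by
    ext i
    simp only [hs, Finset.mem_filter, Finset.mem_univ, true_and]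
    exact mem_wStab_iff (hN i)
  rw [hsF]
  by_cases h : χ ∈ T
  · exact eq_zero_of_sum_eq_zero ρ T f hf h0 χ h
  · rw [Finset.filter_eq_empty_iff.2 fun {i} _ e => h (Finset.mem_image.2 ⟨i, Finset.mem_univ i, e⟩),
      Finset.sum_empty]

/-- In coprime characteristic a subgroup acting non-trivially and commutatively on `W` has a
non-trivial weight in `W`. -/
theorem exists_weight [IsAlgClosed k] [FiniteDimensional k E] {L : Subgroup Γ} [Finite L]
    (hL : (Nat.card L : k) ≠ 0) {W : Submodule k E} (hW : ∀ l ∈ L, ∀ w ∈ W, ρ l w ∈ W)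
    (hcomm : ∀ a ∈ L, ∀ b ∈ L, ∀ w ∈ W, ρ a (ρ b w) = ρ b (ρ a w)) {l₀ : L} {z : E} (hz : z ∈ W)
    (hne : ρ (l₀ : Γ) z ≠ z) :
    ∃ (χ : L →* k) (v : E), v ∈ W ∧ v ≠ 0 ∧ v ∈ weightSpace ρ L χ ∧ χ l₀ ≠ 1 := by
  classical
  let T : L → Module.End k W := fun l => (ρ (l : Γ)).restrict (hW l l.2)
  have hT : ∀ (l : L) (w : W), ((T l w : W) : E) = ρ (l : Γ) (w : E) := fun _ _ => rfl
  have hTmul : ∀ a b, T (a * b) = T a * T b := fun a b => LinearMap.ext fun w => Subtype.ext (by
    rw [Module.End.mul_apply, hT, hT, hT]; exact apply_mul ρ _ _ _)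
  have hTone : T 1 = 1 := LinearMap.ext fun w => Subtype.ext (apply_one ρ _)
  have hcommT : ∀ a b, Commute (T a) (T b) := fun a b => LinearMap.ext fun w => Subtype.ext (by
    rw [Module.End.mul_apply, Module.End.mul_apply, hT, hT, hT, hT]
    exact hcomm a a.2 b b.2 w w.2)
  set n := orderOf l₀ with hn
  have hnk : (n : k) ≠ 0 := fun h => hL (by
    obtain ⟨c, hc⟩ := orderOf_dvd_natCard l₀
    rw [hc, Nat.cast_mul, ← hn, h, zero_mul])
  have hpow : ∀ i : ℕ, T l₀ ^ i = T (l₀ ^ i) := fun i => by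
    induction i with
    | zero => rw [pow_zero, pow_zero, hTone]
    | succ i ih => rw [pow_succ, pow_succ, hTmul, ih]
  set S : Module.End k W := ∑ i ∈ Finset.range n, T l₀ ^ i
  have hSmul : S * (T l₀ - 1) = 0 := by
    rw [geom_sum_mul, hpow, hn, pow_orderOf_eq_one, hTone, sub_self]
  have hker : LinearMap.ker S ≠ ⊥ := by
    intro e
    apply hne
    have h1 : (T l₀ - 1) ⟨z, hz⟩ ∈ LinearMap.ker S := LinearMap.congr_fun hSmul ⟨z, hz⟩
    rw [e, Submodule.mem_bot, LinearMap.sub_apply, Module.End.one_apply, sub_eq_zero] at h1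
    exact congrArg Subtype.val h1
  obtain ⟨x, hxS, hx0, hx⟩ := LinRep.CharOrbit.common_eigenvector T hcommT (LinearMap.ker S) hker
    (fun a y hy => by
      have hc : Commute (T a) S := Commute.sum_right _ _ _ fun i _ => (hcommT a l₀).pow_right i
      have := LinearMap.congr_fun hc.eq y
      rw [Module.End.mul_apply, Module.End.mul_apply, LinearMap.mem_ker.1 hy, map_zero] at this
      exact this.symm)
  choose c hc using hx
  have hinj : ∀ {a b : k}, a • x = b • x → a = b := fun h => smul_left_injective k hx0 h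
  refine ⟨{ toFun := c
            map_one' := hinj (by rw [← hc, hTone, one_smul, Module.End.one_apply])
            map_mul' := fun a b => hinj (by
              rw [← hc, hTmul, Module.End.mul_apply, hc, map_smul, hc, smul_smul, mul_comm]) },
    x, x.2, fun h => hx0 (Subtype.ext h), fun l => congrArg Subtype.val (hc l), fun h1 => ?_⟩
  have hk : ∀ i : ℕ, (T l₀ ^ i) x = x := by
    intro i
    induction i with
    | zero => rfl
    | succ i ih =>
      rw [pow_succ, Module.End.mul_apply, hc l₀, show c l₀ = 1 from h1, one_smul, ih]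
  have h2 : S x = (n : k) • x := by
    simp [S, LinearMap.sum_apply, hk, Nat.cast_smul_eq_nsmul]
  rw [LinearMap.mem_ker.1 hxS] at h2
  exact (smul_ne_zero hnk hx0) h2.symm

/-- If all weights in `W` are trivial at `l`, then `l` fixes `W`. -/
theorem mem_fixerOf_of_forall_weight [IsAlgClosed k] [FiniteDimensional k E] {L : Subgroup Γ}
    [Finite L] (hL : (Nat.card L : k) ≠ 0) {W : Submodule k E}
    (hW : ∀ l ∈ L, ∀ w ∈ W, ρ l w ∈ W)
    (hcomm : ∀ a ∈ L, ∀ b ∈ L, ∀ w ∈ W, ρ a (ρ b w) = ρ b (ρ a w)) {l₀ : L}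
    (h : ∀ (χ : L →* k) (v : E), v ∈ W → v ≠ 0 → v ∈ weightSpace ρ L χ → χ l₀ = 1) :
    (l₀ : Γ) ∈ fixerOf ρ W := fun z hz => by
  by_contra hne
  obtain ⟨χ, v, h1, h2, h3, h4⟩ := exists_weight ρ hL hW hcomm hz hne
  exact h4 (h χ v h1 h2 h3)

/-- Weights on the whole space of an abelian subgroup. -/
theorem eq_one_of_forall_weight [IsAlgClosed k] [FiniteDimensional k E] {L : Subgroup Γ}
    [Finite L] [IsMulCommutative L] (hL : (Nat.card L : k) ≠ 0) {l₀ : L}
    (hfaith : ρ (l₀ : Γ) = 1 → (l₀ : Γ) = 1)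
    (h : ∀ (χ : L →* k) (v : E), v ≠ 0 → v ∈ weightSpace ρ L χ → χ l₀ = 1) : (l₀ : Γ) = 1 := by
  apply hfaith
  refine LinearMap.ext fun z => ?_
  rw [Module.End.one_apply]
  refine mem_fixerOf_of_forall_weight ρ hL (W := ⊤) (fun _ _ _ _ => Submodule.mem_top)
    (fun a ha b hb w _ => ?_) (fun χ v _ => h χ v) z Submodule.mem_top
  rw [← apply_mul, ← apply_mul]
  exact congrArg (fun g => ρ g w) (congrArg Subtype.val (mul_comm' (⟨a, ha⟩ : L) ⟨b, hb⟩))

end Cfsg.Agent.FittingHeight
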